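import Cfsg.Agent.Cit.TwoB.CenDef

/-!
# `Z(D) = 1` when `C(z) / K0` is cyclic in `D / Z(D)` (`L₃(q)`, `U₃(q)`, `M₁₁`)
-/

set_option autoImplicit false
set_option linter.style.haveILetI false
set_option linter.unusedSectionVars false

namespace Cfsg.Agent.Cit.TwoB

open Subgroup Cfsg
open scoped commutatorElement

universe u

variable {X : Type u} [Group X] [Finite X] {Om : Set (Subgroup X)}

namespace QOne

theorem center_eq_bot_of_cyc (h : QOne Om) {J : Subgroup X} (hJ : J ∈ Om)
    (hf : CycCent (X ⧸ center X) (J.map (QuotientGroup.mk' (center X)))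
      (QuotientGroup.mk' (center X) (zz J))) : center X = ⊥ := by
  obtain ⟨S, hSz, hS, hSi, hZS⟩ := h.exists_sylow hJ
  obtain ⟨g', hg', hcyc⟩ := hf
  obtain ⟨g, rfl⟩ := QuotientGroup.mk'_surjective (center X) g'
  have hg := h.comm_of_img hJ hg'
  -- `J` is normal in `C(z)`
  have hN := h.one.centralizer_zz hJ
  have hJM : J ≤ centralizer {zz J} := by rw [hN]; exact le_normalizer
  haveI hn : (J.subgroupOf (centralizer {zz J})).Normal := by
    refine (normal_subgroupOf_iff_le_normalizer hJM).2 ?_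
    rw [hN]
  have key : ∀ x : centralizer {zz J}, ∃ c ∈ center X, ∃ n : ℕ, ∀ hc : c ∈ centralizer {zz J},
      (x : ↥(centralizer {zz J}) ⧸ J.subgroupOf (centralizer {zz J})) =
        ((⟨c, hc⟩ : centralizer {zz J}) : ↥(centralizer {zz J}) ⧸ J.subgroupOf (centralizer {zz J})) *
        (((⟨g, mem_centralizer_singleton_iff.2 hg⟩ : centralizer {zz J}) :
          ↥(centralizer {zz J}) ⧸ J.subgroupOf (centralizer {zz J})) ^ n)⁻¹ := by
    intro x
    have hx := mem_centralizer_singleton_iff.1 x.2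
    obtain ⟨n, j, hj, hjn⟩ := hcyc (QuotientGroup.mk' (center X) x) (by rw [← map_mul, hx, map_mul])
    rw [← map_pow, ← map_mul] at hjn
    have h1 : j⁻¹ * ((x : X) * g ^ n) ∈ center X := by
      rw [← QuotientGroup.ker_mk' (center X), MonoidHom.mem_ker, map_mul, map_inv, hjn, inv_mul_cancel]
    refine ⟨_, h1, n, fun hc => ?_⟩
    rw [eq_mul_inv_iff_mul_eq, ← QuotientGroup.mk_pow, ← QuotientGroup.mk_mul, QuotientGroup.eq,
      mem_subgroupOf]
    change ((x : X) * g ^ n)⁻¹ * (j⁻¹ * ((x : X) * g ^ n)) ∈ J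
    have h2 := mem_center_iff.1 h1 ((x : X) * g ^ n)⁻¹
    rw [h2]
    have h3 : j⁻¹ * ((x : X) * g ^ n) * ((x : X) * g ^ n)⁻¹ = j⁻¹ := by group
    rw [h3]
    exact J.inv_mem hj
  have hcen : ∀ c ∈ center X, c ∈ centralizer {zz J} := fun c hc => by
    rw [mem_centralizer_singleton_iff]
    exact (mem_center_iff.1 hc _).symm
  have hSS : ⁅S, S⁆ ≤ J := by
    rw [Subgroup.commutator_le]
    intro x hx y hy
    obtain ⟨c, hc, n, h1⟩ := key ⟨x, hSz hx⟩
    obtain ⟨d, hd, m, h2⟩ := key ⟨y, hSz hy⟩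
    have h1' := h1 (hcen c hc)
    have h2' := h2 (hcen d hd)
    have hcc : ∀ (c : X) (hc : c ∈ center X) (w : ↥(centralizer {zz J}) ⧸ J.subgroupOf (centralizer {zz J})),
        Commute ((⟨c, hcen c hc⟩ : centralizer {zz J}) :
          ↥(centralizer {zz J}) ⧸ J.subgroupOf (centralizer {zz J})) w := by
      intro c hc w
      obtain ⟨w, rfl⟩ := QuotientGroup.mk_surjective w
      rw [commute_iff_eq, ← QuotientGroup.mk_mul, ← QuotientGroup.mk_mul]
      congr 1
      exact Subtype.ext (mem_center_iff.1 hc w).symm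
    have h3 : Commute ((⟨x, hSz hx⟩ : centralizer {zz J}) :
        ↥(centralizer {zz J}) ⧸ J.subgroupOf (centralizer {zz J}))
        ((⟨y, hSz hy⟩ : centralizer {zz J}) : ↥(centralizer {zz J}) ⧸ J.subgroupOf (centralizer {zz J})) := by
      rw [h1', h2']
      refine Commute.mul_left (hcc c hc _) (Commute.mul_right (hcc d hd _).symm ?_)
      exact ((Commute.refl _).pow_pow n m).inv_inv
    have h4 : ((⁅(⟨x, hSz hx⟩ : centralizer {zz J}), ⟨y, hSz hy⟩⁆ : centralizer {zz J}) :
        ↥(centralizer {zz J}) ⧸ J.subgroupOf (centralizer {zz J})) = 1 := by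
      have := commutatorElement_eq_one_iff_commute.2 h3
      rw [commutatorElement_def] at this ⊢
      exact this
    rw [QuotientGroup.eq_one_iff, mem_subgroupOf] at h4
    exact h4
  have hZ : center X ≤ J := by
    intro c hc
    obtain ⟨a, ha⟩ := h.cen ⟨c, hc⟩
    exact hSS (mem_commutator_of_center h.ne_one_comm S hSi (hZS hc) hc (a := a) (by
      simpa using congrArg Subtype.val ha))
  rw [← inf_eq_right.2 hZ]
  exact h.inf_center hJ

end QOne

end Cfsg.Agent.Cit.TwoB
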