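import Cfsg.Agent.Cit.TwoB.CenDef

/-!
# `Z(D) = 1` for `G₂(q)`, `³D₄(q)` (project CIT, row N3b)

`QOne.center_eq_bot_of_twoFac` : `D` quasisimple, `Z(D)` a 2-group, `|Om(S)| = 1`, `C(z̄) = K̄₁ K̄₂ ⟨g⟩` in
`D / Z(D)` ⟹ `Z(D) = 1`.

Tools: `commutator_inf_ker` (central extensions of quaternion groups), `inf_ker_eq_bot` (central 2-extensions of groups
with quaternion Sylow 2-subgroups, generated by elements of odd order, are trivial).
-/

set_option autoImplicit false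
set_option linter.style.haveILetI false
set_option linter.unusedSectionVars false

namespace Cfsg.Agent.Cit.TwoB

open Subgroup Cfsg
open scoped commutatorElement

section Ext

variable {G L : Type*} [Group G] [Group L] {f : G →* L}

/-- central extensions of quaternion groups: `T' ∩ ker f = 1` -/
theorem commutator_inf_ker (hf : f.ker ≤ center G) {T : Subgroup G} (h : IsGQ (T.map f)) :
    ⁅T, T⁆ ⊓ f.ker = ⊥ := by
  obtain ⟨c, v, z, n, hc⟩ := exists_gq h
  obtain ⟨c', hc', rfl⟩ := hc.c_mem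
  obtain ⟨v', hv', rfl⟩ := hc.v_mem
  have hcen : ∀ k ∈ f.ker, ∀ x, x * k = k * x := fun k hk x => mem_center_iff.1 (hf hk) x
  obtain ⟨ζ, hζd⟩ : ∃ ζ, ζ = v' * c' * v'⁻¹ * c' := ⟨_, rfl⟩
  have hζ : ζ ∈ f.ker := by
    rw [MonoidHom.mem_ker, hζd, map_mul, map_mul, map_mul, map_inv, hc.conj, inv_mul_cancel]
  have hζc : ∀ x, Commute ζ x := fun x => (hcen ζ hζ x).symm
  have e1 : v' * c' * v'⁻¹ = ζ * c'⁻¹ := by rw [hζd]; group
  have e2 : ∀ m : ℤ, v' * c' ^ m * v'⁻¹ = ζ ^ m * c' ^ (-m) := by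
    intro m
    rw [← conj_zpow, e1, (hζc _).mul_zpow, inv_zpow']
  -- `c' ^ (2M) = ζ ^ M`
  have e3 : c' ^ ((2 : ℤ) * 2 ^ (n + 1)) = ζ ^ ((2 : ℤ) ^ (n + 1)) := by
    have h1 : v' * v' * (c' ^ ((2 : ℤ) ^ (n + 1)))⁻¹ ∈ f.ker := by
      rw [MonoidHom.mem_ker, map_mul, map_mul, map_inv, map_zpow, hc.v_sq, ← hc.z_eq]
      have : f c' ^ ((2 : ℤ) ^ (n + 1)) = f c' ^ (2 ^ (n + 1) : ℕ) := by
        rw [← zpow_natCast]; push_cast; rfl
      rw [this, mul_inv_cancel]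
    obtain ⟨η, hη⟩ : ∃ η, η = v' * v' * (c' ^ ((2 : ℤ) ^ (n + 1)))⁻¹ := ⟨_, rfl⟩
    rw [← hη] at h1
    have h2 : c' ^ ((2 : ℤ) ^ (n + 1)) = η⁻¹ * (v' * v') := by rw [hη]; group
    have h3 : v' * c' ^ ((2 : ℤ) ^ (n + 1)) * v'⁻¹ = c' ^ ((2 : ℤ) ^ (n + 1)) := by
      rw [h2, ← mul_assoc v', ← (hcen _ (inv_mem h1) v').symm]
      group
    rw [e2] at h3
    have h4 : ζ ^ ((2 : ℤ) ^ (n + 1)) = c' ^ ((2 : ℤ) ^ (n + 1)) * c' ^ ((2 : ℤ) ^ (n + 1)) := by
      calc ζ ^ ((2 : ℤ) ^ (n + 1)) = (ζ ^ ((2 : ℤ) ^ (n + 1)) * c' ^ (-(2 : ℤ) ^ (n + 1))) * c' ^ ((2 : ℤ) ^ (n + 1)) := by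
            group
        _ = _ := by rw [h3]
    rw [h4, ← zpow_add]
    congr 1
    ring
  obtain ⟨d, hd⟩ : ∃ d, d = c' * c' * ζ⁻¹ := ⟨_, rfl⟩
  have hdp : ∀ m : ℤ, d ^ m = c' ^ (2 * m) * ζ ^ (-m) := by
    intro m
    rw [hd, ((hζc _).inv_left.symm).mul_zpow, inv_zpow', ← zpow_two, ← zpow_mul]
  have hdM : d ^ ((2 : ℤ) ^ (n + 1)) = 1 := by
    rw [hdp, e3, ← zpow_add]
    simp
  -- commutators
  have key : ⁅T, T⁆ ≤ zpowers d := by
    have cov : ∀ x ∈ T, ∃ m : ℤ, ∃ k ∈ f.ker, x = c' ^ m * k ∨ x = v' * c' ^ m * k := by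
      intro x hx
      rcases hc.cov (f x) (mem_map_of_mem f hx) with ⟨i, hi⟩ | ⟨i, hi⟩
      · refine ⟨i, (c' ^ (i : ℤ))⁻¹ * x, ?_, Or.inl (by group)⟩
        rw [MonoidHom.mem_ker, map_mul, map_inv, map_zpow, hi, zpow_natCast, inv_mul_cancel]
      · refine ⟨i, (v' * c' ^ (i : ℤ))⁻¹ * x, ?_, Or.inr (by group)⟩
        rw [MonoidHom.mem_ker, map_mul, map_inv, map_mul, map_zpow, hi, zpow_natCast, inv_mul_cancel]
    have hk : ∀ x y k l : G, k ∈ f.ker → l ∈ f.ker → ⁅x * k, y * l⁆ = ⁅x, y⁆ := by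
      intro x y k l hk hl
      rw [commutatorElement_def, commutatorElement_def]
      calc x * k * (y * l) * (x * k)⁻¹ * (y * l)⁻¹
          = x * (k * y) * (l * k⁻¹) * x⁻¹ * l⁻¹ * y⁻¹ := by group
        _ = x * (y * k) * (k⁻¹ * l) * x⁻¹ * l⁻¹ * y⁻¹ := by rw [hcen k hk y, hcen l hl k⁻¹]
        _ = x * y * (l * x⁻¹) * l⁻¹ * y⁻¹ := by group
        _ = x * y * (x⁻¹ * l) * l⁻¹ * y⁻¹ := by rw [hcen l hl x⁻¹]
        _ = x * y * x⁻¹ * y⁻¹ := by group
    have c2 : ∀ i j : ℤ, ⁅v' * c' ^ i, c' ^ j⁆ = d ^ (-j) := by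
      intro i j
      rw [commutatorElement_def, hdp]
      calc v' * c' ^ i * c' ^ j * (v' * c' ^ i)⁻¹ * (c' ^ j)⁻¹ = (v' * c' ^ j * v'⁻¹) * c' ^ (-j) := by group
        _ = ζ ^ j * c' ^ (-j) * c' ^ (-j) := by rw [e2]
        _ = ζ ^ j * c' ^ (2 * -j) := by group
        _ = _ := by rw [neg_neg, ((hζc (c' ^ (2 * -j))).zpow_left j).eq]
    have c4 : ∀ i j : ℤ, ⁅v' * c' ^ i, v' * c' ^ j⁆ = d ^ (j - i) := by
      intro i j
      rw [commutatorElement_def, hdp]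
      calc v' * c' ^ i * (v' * c' ^ j) * (v' * c' ^ i)⁻¹ * (v' * c' ^ j)⁻¹
          = v' * (c' ^ i * (v' * c' ^ (j - i) * v'⁻¹) * c' ^ (-j)) * v'⁻¹ := by group
        _ = v' * (c' ^ i * (ζ ^ (j - i) * c' ^ (-(j - i))) * c' ^ (-j)) * v'⁻¹ := by rw [e2]
        _ = v' * (ζ ^ (j - i) * c' ^ (2 * i - 2 * j)) * v'⁻¹ := by
          rw [← mul_assoc (c' ^ i), ← ((hζc (c' ^ i)).zpow_left (j - i)).eq]
          group
        _ = (v' * ζ ^ (j - i)) * c' ^ (2 * i - 2 * j) * v'⁻¹ := by group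
        _ = (ζ ^ (j - i) * v') * c' ^ (2 * i - 2 * j) * v'⁻¹ := by
          rw [((hζc v').zpow_left (j - i)).eq]
        _ = ζ ^ (j - i) * (v' * c' ^ (2 * i - 2 * j) * v'⁻¹) := by group
        _ = ζ ^ (j - i) * (ζ ^ (2 * i - 2 * j) * c' ^ (-(2 * i - 2 * j))) := by rw [e2]
        _ = ζ ^ (-(j - i)) * c' ^ (2 * (j - i)) := by
          rw [← mul_assoc, ← zpow_add]
          congr 1
          · congr 1; ring
          · congr 1; ring
        _ = _ := ((hζc _).zpow_left _).eq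
    rw [commutator_le]
    intro x hx y hy
    obtain ⟨i, k, hk', hxe⟩ := cov x hx
    obtain ⟨j, l, hl', hye⟩ := cov y hy
    rcases hxe with rfl | rfl <;> rcases hye with rfl | rfl <;> rw [hk _ _ _ _ hk' hl']
    · have : ⁅c' ^ i, c' ^ j⁆ = 1 := commutatorElement_eq_one_iff_mul_comm.2 (by rw [← zpow_add, ← zpow_add, add_comm])
      rw [this]
      exact one_mem _
    · rw [← commutatorElement_inv, c2]
      exact inv_mem (zpow_mem (mem_zpowers d) _)
    · rw [c2]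
      exact zpow_mem (mem_zpowers d) _
    · rw [c4]
      exact zpow_mem (mem_zpowers d) _
  rw [eq_bot_iff]
  intro x hx
  obtain ⟨hx1, hx2⟩ := mem_inf.1 hx
  obtain ⟨m, rfl⟩ := mem_zpowers_iff.1 (key hx1)
  have h1 : f c' ^ (2 * m) = 1 := by
    have h2 : f (d ^ m) = 1 := hx2
    rw [hdp, map_mul, map_zpow, map_zpow, (show f ζ = 1 from hζ), one_zpow, mul_one] at h2
    exact h2
  have h2 : ((orderOf (f c') : ℕ) : ℤ) ∣ 2 * m := orderOf_dvd_iff_zpow_eq_one.2 h1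
  rw [hc.ord] at h2
  have h3 : ((2 : ℤ) ^ (n + 1)) ∣ m := by
    have h4 : (2 : ℤ) * 2 ^ (n + 1) ∣ 2 * m := by
      have : ((2 ^ (n + 2) : ℕ) : ℤ) = 2 * 2 ^ (n + 1) := by push_cast; ring
      rwa [this] at h2
    exact (mul_dvd_mul_iff_left (by norm_num)).1 h4
  obtain ⟨k, rfl⟩ := h3
  rw [mem_bot, zpow_mul, hdM, one_zpow]

/-- transfer: the central 2-elements of a group generated by elements of odd order lie in `S'` -/
theorem mem_commutator_of_center' {G : Type*} [Group G] [Finite G] (hG : closure {x : G | Odd (orderOf x)} = ⊤)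
    (P : Subgroup G) (hP : IsPGroup 2 P) (hodd : ¬ 2 ∣ P.index) {z : G} (hz : z ∈ P) (hc : z ∈ center G) {a : ℕ}
    (hz2 : z ^ 2 ^ a = 1) : z ∈ ⁅P, P⁆ := by
  let V : G →* Abelianization P := MonoidHom.transfer (Abelianization.of)
  have h0 : V.ker = ⊤ := by
    rw [eq_top_iff, ← hG, closure_le]
    intro x hx
    rw [SetLike.mem_coe, MonoidHom.mem_ker]
    have h1 : IsPGroup 2 (Abelianization P) := hP.of_surjective Abelianization.of QuotientGroup.mk_surjective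
    obtain ⟨k, hk⟩ := h1 (V x)
    have h2 : orderOf (V x) ∣ 2 ^ k := orderOf_dvd_of_pow_eq_one hk
    have h3 : orderOf (V x) ∣ orderOf x := orderOf_map_dvd V x
    have h4 : (orderOf x).Coprime (2 ^ k) := (Nat.coprime_two_right.2 hx).pow_right k
    rw [← orderOf_eq_one_iff]
    exact Nat.eq_one_of_dvd_coprimes h4 h3 h2
  have h1 : V z = 1 := by
    rw [← MonoidHom.mem_ker, h0]
    exact mem_top z
  have h2 : V z = Abelianization.of ⟨z ^ P.index, Subgroup.pow_mem _ hz _⟩ := by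
    have key : ∀ (k : ℕ) (g₀ : G), g₀⁻¹ * z ^ k * g₀ ∈ P → g₀⁻¹ * z ^ k * g₀ = z ^ k := by
      intro k g₀ _
      have h3 := mem_center_iff.1 ((center G).pow_mem hc k) g₀
      rw [mul_assoc, ← h3, inv_mul_cancel_left]
    exact MonoidHom.transfer_eq_pow _ z key
  rw [h1] at h2
  have h3 : (⟨z ^ P.index, Subgroup.pow_mem _ hz _⟩ : P) ∈ commutator P := by
    rw [← Abelianization.ker_of, MonoidHom.mem_ker]
    exact h2.symm
  have h4 : z ^ P.index ∈ ⁅P, P⁆ := by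
    rw [← Subgroup.map_subtype_commutator]
    exact ⟨_, h3, rfl⟩
  have h5 : (orderOf z).Coprime P.index := by
    have h6 : orderOf z ∣ 2 ^ a := orderOf_dvd_of_pow_eq_one hz2
    refine Nat.Coprime.coprime_dvd_left h6 (Nat.Coprime.pow_left a ?_)
    exact (Nat.Prime.coprime_iff_not_dvd Nat.prime_two).2 hodd
  obtain ⟨m, hm⟩ := exists_pow_eq_self_of_coprime h5.symm
  rw [← hm]
  exact Subgroup.pow_mem _ h4 m

/-- central 2-extensions of groups with quaternion Sylow 2-subgroups which are generated by elements of odd order are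
trivial -/
theorem inf_ker_eq_bot [Finite G] [Finite L] (hf : f.ker ≤ center G) (h2 : IsPGroup 2 f.ker) {R : Subgroup G} (hR : TyTwo R)
    (hq : HasQS (R.map f)) : R ⊓ f.ker = ⊥ := by
  haveI : Fact (Nat.Prime 2) := ⟨Nat.prime_two⟩
  obtain ⟨T, hT⟩ := Hyp.exists_syl R
  -- the image of `T` is quaternion
  have hTf : IsGQ (T.map f) := by
    obtain ⟨S, n, ⟨e⟩⟩ := hq
    have h3 : Syl (T.map f) (R.map f) :=
      ⟨Subgroup.map_mono hT.1, hT.2.1.map _, fun h4 => hT.2.2 (h4.trans (relIndex_map_dvd f T R))⟩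
    obtain ⟨T', hT'⟩ := h3.exists_sylow
    obtain ⟨g⟩ : Nonempty (↥(T' : Subgroup (R.map f)) ≃* ↥(S : Subgroup (R.map f))) := ⟨T'.equiv S⟩
    refine ⟨n, ⟨?_⟩⟩
    refine ((subgroupOfEquivOfLe h3.1).symm.trans ?_).trans (g.trans e)
    exact MulEquiv.subgroupCongr hT'.symm
  rw [eq_bot_iff, ← commutator_inf_ker hf hTf]
  intro x hx
  obtain ⟨hx1, hx2⟩ := mem_inf.1 hx
  refine mem_inf.2 ⟨?_, hx2⟩
  obtain ⟨k, hk⟩ := h2 ⟨x, hx2⟩
  have hk' : x ^ 2 ^ k = 1 := congrArg Subtype.val hk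
  -- transfer in `R`
  have hgen : closure {y : R | Odd (orderOf y)} = ⊤ := by
    rw [eq_top_iff]
    rintro ⟨y, hy⟩ -
    have h4 : y ∈ (closure {y : R | Odd (orderOf y)}).map R.subtype := by
      have h5 := hR hy
      refine (closure_le _).2 ?_ h5
      rintro w ⟨hw, hodd⟩
      refine ⟨⟨w, hw⟩, subset_closure ?_, rfl⟩
      change Odd (orderOf (⟨w, hw⟩ : R))
      rw [← orderOf_coe]
      exact hodd
    obtain ⟨w, hw, e⟩ := h4
    have : w = ⟨y, hy⟩ := Subtype.ext e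
    rwa [this] at hw
  have hxT : x ∈ T := by
    have h5 : IsPGroup 2 (zpowers x ⊔ T : Subgroup G) := by
      refine IsPGroup.to_sup_of_normal_left' ?_ hT.2.1 ?_
      · refine h2.to_le ?_
        rw [zpowers_le]
        exact hx2
      · intro y _
        rw [mem_normalizer_iff]
        intro w
        have h6 : ∀ w ∈ zpowers x, y * w * y⁻¹ = w := by
          intro w hw
          have h7 : w ∈ center G := hf ((zpowers_le.2 hx2) hw)
          rw [mem_center_iff.1 h7 y, mul_inv_cancel_right]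
        constructor
        · intro hw
          rw [h6 w hw]
          exact hw
        · intro hw
          have h7 : y * w * y⁻¹ ∈ center G := hf ((zpowers_le.2 hx2) hw)
          have h8 : w = y * w * y⁻¹ := by
            have h9 := mem_center_iff.1 h7 y
            calc w = y⁻¹ * ((y * w * y⁻¹) * y) := by group
              _ = y⁻¹ * (y * (y * w * y⁻¹)) := by rw [h9]
              _ = _ := by group
          rw [h8]
          exact hw
    have h6 := LB.syl_eq_of_le hT h5 (sup_le (zpowers_le.2 hx1) hT.1) le_sup_right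
    rw [h6]
    exact mem_sup_left (mem_zpowers x)
  have h5 := mem_commutator_of_center' hgen (T.subgroupOf R) hT.2.1.comap_subtype hT.2.2 (z := ⟨x, hx1⟩)
    (mem_subgroupOf.2 hxT) (by
      rw [mem_center_iff]
      intro y
      exact Subtype.ext (mem_center_iff.1 (hf hx2) y)) (a := k) (Subtype.ext hk')
  have h6 : x ∈ (⁅T.subgroupOf R, T.subgroupOf R⁆).map R.subtype := ⟨_, h5, rfl⟩
  rwa [Subgroup.map_commutator, map_subgroupOf_eq_of_le hT.1] at h6

/-- elements of odd order lift to elements of odd order -/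
theorem exists_odd_lift [Finite G] (h2 : IsPGroup 2 f.ker) {x : G} (hx : Odd (orderOf (f x))) :
    ∃ y, f y = f x ∧ Odd (orderOf y) := by
  have h1 : x ^ orderOf (f x) ∈ f.ker := by
    rw [MonoidHom.mem_ker, map_pow, pow_orderOf_eq_one]
  obtain ⟨k, hk⟩ := h2 ⟨_, h1⟩
  have hk' : (x ^ orderOf (f x)) ^ 2 ^ k = 1 := congrArg Subtype.val hk
  have hcop : Nat.Coprime (orderOf (f x)) (2 ^ k) := (Nat.coprime_two_right.2 hx).pow_right k
  obtain ⟨u, hu1, hu2⟩ := Nat.chineseRemainder hcop 1 0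
  refine ⟨x ^ u, ?_, ?_⟩
  · rw [map_pow, (pow_eq_pow_iff_modEq).2 hu1, pow_one]
  · obtain ⟨m, rfl⟩ := Nat.modEq_zero_iff_dvd.1 hu2
    refine hx.of_dvd_nat (orderOf_dvd_of_pow_eq_one ?_)
    calc (x ^ (2 ^ k * m)) ^ orderOf (f x) = ((x ^ orderOf (f x)) ^ 2 ^ k) ^ m := by
          rw [← pow_mul, ← pow_mul, ← pow_mul]
          congr 1
          ring
      _ = 1 := by rw [hk', one_pow]

end Ext

/-- central 2-elements of a member -/
theorem eq_of_central_two {G : Type*} [Group G] [Finite G] {Om : Set (Subgroup G)} (h : Hyp Om)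
    {J : Subgroup G} (hJ : J ∈ Om) {a : G} (ha : a ∈ J) (hc : ∀ b ∈ J, b * a = a * b) {s : ℕ}
    (h1 : a ^ 2 ^ s = 1) : a = 1 ∨ a = zz J := by
  haveI : Fact (Nat.Prime 2) := ⟨Nat.prime_two⟩
  have hcz : ∀ w ∈ zpowers a, ∀ b ∈ J, b * w * b⁻¹ = w := by
    rintro w ⟨k, rfl⟩ b hb
    have h1 : Commute b a := hc b hb
    change b * a ^ k * b⁻¹ = a ^ k
    rw [(h1.zpow_right k).eq, mul_inv_cancel_right]
  have hnz : ∀ N : Subgroup G, N ≤ zpowers a → J ≤ normalizer (N : Set G) := by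
    intro N hN b hb
    rw [mem_normalizer_iff_cj]
    ext x
    rw [mem_cj]
    constructor
    · intro hx
      have h1 := hcz _ (hN hx) b hb
      have h2 : x = b⁻¹ * x * b := by
        rw [← h1]; group
      rw [h2]; exact hx
    · intro hx
      have h1 := hcz _ (hN hx) b⁻¹ (inv_mem hb)
      rw [inv_inv] at h1
      rw [h1]; exact hx
  -- `a` lies in a Sylow 2-subgroup
  obtain ⟨Q, hQ⟩ := Hyp.exists_syl J
  have h2 : IsPGroup 2 (zpowers a ⊔ Q : Subgroup G) := by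
    refine IsPGroup.to_sup_of_normal_left' ?_ hQ.2.1 (hQ.1.trans (hnz _ le_rfl))
    rintro ⟨w, hw⟩
    obtain ⟨j, rfl⟩ := mem_zpowers_iff.1 hw
    refine ⟨s, Subtype.ext ?_⟩
    change (a ^ j) ^ 2 ^ s = 1
    rw [← zpow_natCast, ← zpow_mul, mul_comm, zpow_mul, zpow_natCast, h1, one_zpow]
  have h3 := LB.syl_eq_of_le hQ h2 (sup_le (zpowers_le.2 ha) hQ.1) le_sup_right
  have haQ : a ∈ Q := by
    rw [h3]
    exact mem_sup_left (mem_zpowers a)
  obtain ⟨c, v, n, hq⟩ := h.exists_gq hJ hQ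
  by_cases h4 : a = 1
  · exact Or.inl h4
  right
  refine hq.eq_z haQ ?_ h4
  rcases hq.cov a haQ with ⟨i, rfl⟩ | ⟨i, rfl⟩
  · have h5 := hq.conj_pow i
    rw [hc v (hQ.1 hq.v_mem)] at h5
    have h6 : c ^ i = (c ^ i)⁻¹ := mul_right_cancel h5
    rw [mul_eq_one_iff_eq_inv]
    exact h6
  · exfalso
    apply hq.not_comm
    have h5 := hc c (hQ.1 hq.c_mem)
    -- `c * (v * c ^ i) = (v * c ^ i) * c`
    have h6 : c * v * c ^ i = v * c * c ^ i := by
      calc c * v * c ^ i = c * (v * c ^ i) := by group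
        _ = v * c ^ i * c := h5
        _ = v * (c ^ i * c) := by group
        _ = v * (c * c ^ i) := by rw [(Commute.refl c).pow_left i |>.eq]
        _ = _ := by group
    exact (mul_right_cancel h6).symm

universe u

/-- **`Z(D) = 1` for `G₂(q)` and `³D₄(q)`** -/
theorem QOne.center_eq_bot_of_twoFac {X : Type u} [Group X] [Finite X] {Om : Set (Subgroup X)} (h : QOne Om)
    {J : Subgroup X} (hJ : J ∈ Om) {K2 : Subgroup (X ⧸ center X)}
    (hf : TwoFac (X ⧸ center X) (J.map (QuotientGroup.mk' (center X))) K2 (QuotientGroup.mk' (center X) (zz J)))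
    (ht : TyTwo K2) : center X = ⊥ := by
  haveI : Fact (Nat.Prime 2) := ⟨Nat.prime_two⟩
  obtain ⟨π, hπ⟩ : ∃ π : X →* X ⧸ center X, π = QuotientGroup.mk' (center X) := ⟨_, rfl⟩
  rw [← hπ] at hf
  have hker : π.ker = center X := by rw [hπ]; exact QuotientGroup.ker_mk' _
  have hkc : π.ker ≤ center X := hker.le
  have hk2 : IsPGroup 2 π.ker := by rw [hker]; exact h.cen
  have hs : Function.Surjective π := by rw [hπ]; exact QuotientGroup.mk'_surjective _
  have hcen : ∀ k ∈ center X, ∀ x, x * k = k * x := fun k hk x => mem_center_iff.1 hk x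
  have hcomm : ∀ x, π x * π (zz J) = π (zz J) * π x → x * zz J = zz J * x := by
    intro x hx
    rw [hπ] at hx
    exact h.comm_of_img hJ hx
  have hyp := h.one.hyp
  -- the group `R`
  obtain ⟨R, hR⟩ : ∃ R : Subgroup X, R = closure {x | π x ∈ K2 ∧ Odd (orderOf x)} := ⟨_, rfl⟩
  have hRK : R.map π = K2 := by
    apply le_antisymm
    · rw [map_le_iff_le_comap, hR, closure_le]
      exact fun x hx => hx.1
    · refine ht.trans ((closure_le _).2 ?_)
      rintro c ⟨hc, hodd⟩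
      obtain ⟨x, rfl⟩ := hs c
      obtain ⟨y, hy, hyo⟩ := exists_odd_lift hk2 hodd
      refine ⟨y, ?_, hy⟩
      rw [hR]
      exact subset_closure ⟨by rw [hy]; exact hc, hyo⟩
  have hRt : TyTwo R := by
    unfold TyTwo
    conv_lhs => rw [hR]
    refine closure_mono fun x hx => ⟨?_, hx.2⟩
    rw [hR]
    exact subset_closure hx
  have hRZ : R ⊓ π.ker = ⊥ := inf_ker_eq_bot hkc hk2 hRt (by rw [hRK]; exact hf.quat)
  have hR1 : ∀ x ∈ R, x ∈ center X → x = 1 := by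
    intro x hx hx2
    have h1 : x ∈ R ⊓ π.ker := mem_inf.2 ⟨hx, by rw [hker]; exact hx2⟩
    rwa [hRZ, mem_bot] at h1
  have hRinj : ∀ x ∈ R, ∀ y ∈ R, π x = π y → x = y := by
    intro x hx y hy e
    have h1 : x⁻¹ * y ∈ center X := by
      rw [← hker, MonoidHom.mem_ker, map_mul, map_inv, e, inv_mul_cancel]
    exact inv_mul_eq_one.1 (hR1 _ (mul_mem (inv_mem hx) hy) h1)
  have hJ1 : ∀ x ∈ J, x ∈ center X → x = 1 := by
    intro x hx hx2
    have h1 : x ∈ J ⊓ center X := mem_inf.2 ⟨hx, hx2⟩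
    rwa [h.inf_center hJ, mem_bot] at h1
  have hz0 : π (zz J) ∈ J.map π := mem_map_of_mem π (hyp.zz_mem hJ)
  have hRM : ∀ r ∈ R, r * zz J = zz J * r := by
    intro r hr
    apply hcomm
    have h1 : π r ∈ K2 := by rw [← hRK]; exact mem_map_of_mem π hr
    exact (hf.comm _ hz0 _ h1).symm
  have hRJ : ∀ a ∈ J, ∀ r ∈ R, r * a = a * r := by
    intro a ha r hr
    have h1 := h.one.mem_normalizer hJ (hRM r hr)
    have h2 : r * a * r⁻¹ * a⁻¹ ∈ J := mul_mem ((mem_normalizer_iff.1 h1 a).1 ha) (inv_mem ha)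
    have h3 : r * a * r⁻¹ * a⁻¹ ∈ center X := by
      rw [← hker, MonoidHom.mem_ker, map_mul, map_mul, map_mul, map_inv, map_inv]
      have h4 : π r ∈ K2 := by rw [← hRK]; exact mem_map_of_mem π hr
      rw [← hf.comm _ (mem_map_of_mem π ha) _ h4]
      group
    have h4 := hJ1 _ h2 h3
    rw [mul_inv_eq_one, mul_inv_eq_iff_eq_mul] at h4
    exact h4
  have hMR : ∀ x, x * zz J = zz J * x → ∀ r ∈ R, x * r * x⁻¹ ∈ R := by
    intro x hx r hr
    have h1 : R ≤ R.comap (MulAut.conj x).toMonoidHom := by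
      conv_lhs => rw [hR]
      rw [closure_le]
      rintro y ⟨hy, hyo⟩
      change x * y * x⁻¹ ∈ R
      rw [hR]
      refine subset_closure ⟨?_, ?_⟩
      · rw [map_mul, map_mul, map_inv]
        refine hf.nml _ ?_ _ hy
        rw [← map_mul, hx, map_mul]
      · have : orderOf (x * y * x⁻¹) = orderOf y := by
          have := orderOf_injective (MulAut.conj x).toMonoidHom (MulAut.conj x).injective y
          simpa using this
        rw [this]
        exact hyo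
    exact h1 hr
  -- `M' ≤ J R`
  have hMN : ∀ x, x * zz J = zz J * x → ∀ p ∈ J ⊔ R, x * p * x⁻¹ ∈ J ⊔ R := by
    intro x hx p hp
    have h1 : J ⊔ R ≤ (J ⊔ R).comap (MulAut.conj x).toMonoidHom := by
      refine sup_le (fun a ha => ?_) (fun r hr => ?_)
      · exact mem_sup_left ((mem_normalizer_iff.1 (h.one.mem_normalizer hJ hx) a).1 ha)
      · exact mem_sup_right (hMR x hx r hr)
    exact h1 hp
  obtain ⟨g0, hg0, hgc⟩ := hf.cyc
  obtain ⟨g, rfl⟩ := hs g0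
  have hg := hcomm g hg0
  have hMc : ∀ x, x * zz J = zz J * x → ∃ p ∈ J ⊔ R, ∃ k ∈ center X, ∃ n : ℕ, x = p * (k * (g ^ n)⁻¹) := by
    intro x hx
    obtain ⟨n, a, ha, b, hb, e⟩ := hgc (π x) (by rw [← map_mul, hx, map_mul])
    obtain ⟨a, ha, rfl⟩ := ha
    rw [← hRK] at hb
    obtain ⟨b, hb, rfl⟩ := hb
    refine ⟨a * b, mul_mem (mem_sup_left ha) (mem_sup_right hb), (a * b)⁻¹ * (x * g ^ n), ?_, n, by group⟩
    rw [← hker, MonoidHom.mem_ker, map_mul, map_inv, map_mul, map_mul, map_pow, e, inv_mul_cancel]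
  have hgn : ∀ n : ℕ, g ^ n * zz J = zz J * g ^ n := fun n => ((show Commute g (zz J) from hg).pow_left n).eq
  have hMM : ∀ x y, x * zz J = zz J * x → y * zz J = zz J * y → ⁅x, y⁆ ∈ J ⊔ R := by
    intro x y hx hy
    obtain ⟨p, hp, k, hk, n, e1⟩ := hMc x hx
    obtain ⟨q, hq, l, hl, m, e2⟩ := hMc y hy
    obtain ⟨u, hu⟩ : ∃ u, u = k * (g ^ n)⁻¹ := ⟨_, rfl⟩
    obtain ⟨w, hw⟩ : ∃ w, w = l * (g ^ m)⁻¹ := ⟨_, rfl⟩
    rw [← hu] at e1
    rw [← hw] at e2
    have huz : u * zz J = zz J * u := by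
      have h1 : u = p⁻¹ * x := by rw [e1]; group
      have h2 : Commute (g ^ n)⁻¹ (zz J) := (show Commute (g ^ n) (zz J) from hgn n).inv_left
      rw [hu, mul_assoc, h2.eq, ← mul_assoc, ← mul_assoc, hcen k hk (zz J)]
    have huw : u * w = w * u := by
      have h2 : Commute (g ^ n)⁻¹ (g ^ m)⁻¹ := ((Commute.refl g).pow_pow n m).inv_inv
      calc u * w = k * ((g ^ n)⁻¹ * l) * (g ^ m)⁻¹ := by rw [hu, hw]; group
        _ = k * (l * (g ^ n)⁻¹) * (g ^ m)⁻¹ := by rw [hcen l hl]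
        _ = (k * l) * ((g ^ n)⁻¹ * (g ^ m)⁻¹) := by group
        _ = (l * k) * ((g ^ m)⁻¹ * (g ^ n)⁻¹) := by rw [h2.eq, hcen l hl k]
        _ = l * (k * (g ^ m)⁻¹) * (g ^ n)⁻¹ := by group
        _ = l * ((g ^ m)⁻¹ * k) * (g ^ n)⁻¹ := by rw [hcen k hk]
        _ = w * u := by rw [hu, hw]; group
    have h1 : ⁅x, y⁆ = p * ((u * q * u⁻¹) * q⁻¹) * (y * p⁻¹ * y⁻¹) := by
      rw [commutatorElement_def, e1, e2]
      calc p * u * (q * w) * (p * u)⁻¹ * (q * w)⁻¹ = p * (u * q * (w * u⁻¹) * w⁻¹ * q⁻¹) * ((q * w) * p⁻¹ * (q * w)⁻¹) := by group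
        _ = p * (u * q * (u⁻¹ * w) * w⁻¹ * q⁻¹) * ((q * w) * p⁻¹ * (q * w)⁻¹) := by
          have : w * u⁻¹ = u⁻¹ * w := by
            rw [eq_inv_mul_iff_mul_eq, ← mul_assoc, huw]; group
          rw [this]
        _ = _ := by group
    rw [h1]
    refine mul_mem (mul_mem hp (mul_mem (hMN u huz q hq) (inv_mem hq))) (hMN y hy _ (inv_mem hp))
  -- `Z ≤ J R`
  obtain ⟨S, hSM, hS2, hSi, hZS⟩ := h.exists_sylow hJ
  have hZ : ∀ k ∈ center X, k ∈ J ⊔ R := by
    intro k hk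
    obtain ⟨a, ha⟩ := h.cen ⟨k, hk⟩
    have ha' : k ^ 2 ^ a = 1 := congrArg Subtype.val ha
    have h1 := mem_commutator_of_center h.ne_one_comm S hSi (hZS hk) hk ha'
    have h2 : ⁅S, S⁆ ≤ J ⊔ R := by
      rw [commutator_le]
      intro x hx y hy
      exact hMM x y (mem_centralizer_singleton_iff.1 (hSM hx)) (mem_centralizer_singleton_iff.1 (hSM hy))
    exact h2 h1
  have hZ2 : ∀ k ∈ center X, k ≠ 1 → ∃ r ∈ R, k = zz J * r ∧ π r = π (zz J) := by
    intro k hk hk1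
    obtain ⟨a, ha, r, hr, e⟩ := LB.exists_mul_of_mem_sup (A := J) (B := R) (fun r hr => by
      exact h.one.mem_normalizer hJ (hRM r hr)) (hZ k hk)
    have hab : ∀ b ∈ J, b * a = a * b := by
      intro b hb
      have h2 : a = k * r⁻¹ := by rw [e]; group
      have h3 : r⁻¹ * b = b * r⁻¹ := hRJ b hb _ (inv_mem hr)
      rw [h2, ← mul_assoc, hcen k hk b, mul_assoc, ← h3, mul_assoc]
    -- `a`, `r` may be replaced by odd powers
    obtain ⟨j, hj⟩ := h.cen ⟨k, hk⟩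
    have hj' : k ^ 2 ^ j = 1 := congrArg Subtype.val hj
    obtain ⟨s, t, hto, hst⟩ := Nat.exists_eq_two_pow_mul_odd (orderOf_pos a).ne'
    obtain ⟨u, hu1, hu2⟩ := Nat.chineseRemainder ((Nat.coprime_two_left.2 hto).pow_left j) 1 0
    have hku : k ^ u = k := by
      conv_rhs => rw [← pow_one k]
      exact (pow_eq_pow_iff_modEq).2 (hu1.of_dvd (orderOf_dvd_of_pow_eq_one hj'))
    have hau : (a ^ u) ^ 2 ^ s = 1 := by
      obtain ⟨m, rfl⟩ := Nat.modEq_zero_iff_dvd.1 hu2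
      calc (a ^ (t * m)) ^ 2 ^ s = (a ^ (2 ^ s * t)) ^ m := by
            rw [← pow_mul, ← pow_mul]
            congr 1
            ring
        _ = 1 := by rw [← hst, pow_orderOf_eq_one, one_pow]
    have har : Commute a r := (hRJ a ha r hr).symm
    have e' : k = a ^ u * r ^ u := by rw [← har.mul_pow, ← e, hku]
    have ha' := J.pow_mem ha u
    have hr' := R.pow_mem hr u
    have h1 : a ^ u = 1 ∨ a ^ u = zz J := by
      refine eq_of_central_two hyp hJ ha' (fun b hb => ?_) hau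
      exact ((show Commute b a from hab b hb).pow_right u).eq
    clear e hab har hau ha hr
    generalize a ^ u = a' at *
    generalize r ^ u = r' at *
    rename' a' => a, r' => r, e' => e, ha' => ha, hr' => hr
    rcases h1 with rfl | rfl
    · exfalso
      rw [one_mul] at e
      subst e
      exact hk1 (hR1 k hr hk)
    · refine ⟨r, hr, e, ?_⟩
      have h2 : π k = 1 := by rw [← MonoidHom.mem_ker, hker]; exact hk
      rw [e, map_mul] at h2
      have h3 : π (zz J) * π (zz J) = 1 := by rw [← map_mul, hyp.zz_mul hJ, map_one]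
      calc π r = (π (zz J) * π (zz J)) * π r := by rw [h3, one_mul]
        _ = π (zz J) * (π (zz J) * π r) := by group
        _ = π (zz J) := by rw [h2, mul_one]
  by_contra hne
  obtain ⟨c, hc, hc1⟩ := (bot_or_exists_ne_one (center X)).resolve_left hne
  obtain ⟨z2, hz2, ecz, hπ2⟩ := hZ2 c hc hc1
  have hzz : z2 * z2 = 1 := by
    apply hR1 _ (mul_mem hz2 hz2)
    rw [← hker, MonoidHom.mem_ker, map_mul, hπ2, ← map_mul, hyp.zz_mul hJ, map_one]
  have hcc : ∀ k ∈ center X, k * k = 1 := by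
    intro k hk
    by_cases hk1 : k = 1
    · rw [hk1, one_mul]
    · obtain ⟨r, hr, e, hr2⟩ := hZ2 k hk hk1
      have h1 : r = z2 := hRinj r hr z2 hz2 (by rw [hr2, hπ2])
      rw [h1, ← ecz] at e
      rw [e, ecz]
      calc zz J * z2 * (zz J * z2) = zz J * (z2 * zz J) * z2 := by group
        _ = zz J * (zz J * z2) * z2 := by rw [hRM z2 hz2]
        _ = (zz J * zz J) * (z2 * z2) := by group
        _ = 1 := by rw [hyp.zz_mul hJ, hzz, one_mul]
  -- elements of order 4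
  obtain ⟨Q, hQ⟩ := Hyp.exists_syl J
  obtain ⟨x, hx, hxz⟩ : ∃ x ∈ J, x * x = zz J := by
    obtain ⟨c, v, n, hq⟩ := hyp.exists_gq hJ hQ
    exact ⟨v, hQ.1 hq.v_mem, hq.v_sq⟩
  obtain ⟨y, hy, hyz⟩ : ∃ y ∈ R, y * y = z2 := by
    obtain ⟨T, n, ⟨e⟩⟩ := hf.quat
    have h1 : IsGQ ((T : Subgroup K2).map K2.subtype) :=
      ⟨n, ⟨((T : Subgroup K2).equivMapOfInjective _ K2.subtype_injective).symm.trans e⟩⟩
    obtain ⟨c', v', z', n', hq⟩ := exists_gq h1
    have h2 : v' ∈ K2 := (map_subtype_le _) hq.v_mem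
    have h3 : z' ∈ K2 := (map_subtype_le _) hq.z_mem
    have h4 := hf.uniq z' h3 hq.orderOf_z
    have h5 : v' ∈ R.map π := by rw [hRK]; exact h2
    obtain ⟨y, hy, e⟩ := h5
    refine ⟨y, hy, hRinj _ (mul_mem hy hy) z2 hz2 ?_⟩
    rw [map_mul, e, hq.v_sq, h4, hπ2]
  have hxy : (x * y) * (x * y) = c := by
    calc (x * y) * (x * y) = x * (y * x) * y := by group
      _ = x * (x * y) * y := by rw [hRJ x hx y hy]
      _ = (x * x) * (y * y) := by group
      _ = c := by rw [hxz, hyz, ecz]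
  have hw1 : π (x * y) * π (x * y) = 1 := by
    rw [← map_mul, hxy, ← MonoidHom.mem_ker, hker]
    exact hc
  have hw2 : π (x * y) ≠ 1 := by
    intro h1
    rw [← MonoidHom.mem_ker, hker] at h1
    have h2 := hcc _ h1
    rw [hxy] at h2
    exact hc1 h2
  have hz1 : π (zz J) * π (zz J) = 1 := by rw [← map_mul, hyp.zz_mul hJ, map_one]
  have hz2' : π (zz J) ≠ 1 := by
    intro h1
    rw [← MonoidHom.mem_ker, hker] at h1
    exact hyp.zz_ne hJ (hJ1 _ (hyp.zz_mem hJ) h1)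
  obtain ⟨g', hg'⟩ := hf.one _ _ hw1 hw2 hz1 hz2'
  obtain ⟨g'', rfl⟩ := hs g'
  obtain ⟨k, hk⟩ : ∃ k, k = (zz J)⁻¹ * (g'' * (x * y) * g''⁻¹) := ⟨_, rfl⟩
  have hkc' : k ∈ center X := by
    rw [← hker, MonoidHom.mem_ker, hk, map_mul, map_inv, map_mul, map_mul, map_inv, hg', inv_mul_cancel]
  have h1 : g'' * (x * y) * g''⁻¹ = zz J * k := by rw [hk]; group
  have h2 : g'' * c * g''⁻¹ = 1 := by
    calc g'' * c * g''⁻¹ = (g'' * (x * y) * g''⁻¹) * (g'' * (x * y) * g''⁻¹) := by rw [← hxy]; group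
      _ = zz J * (k * zz J) * k := by rw [h1]; group
      _ = zz J * (zz J * k) * k := by rw [hcen k hkc' (zz J)]
      _ = (zz J * zz J) * (k * k) := by group
      _ = 1 := by rw [hyp.zz_mul hJ, hcc k hkc', one_mul]
  rw [hcen c hc g'', mul_inv_cancel_right] at h2
  exact hc1 h2

end Cfsg.Agent.Cit.TwoB
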