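import Cfsg.Agent.Cit.TwoB.LLd

/-!
# `|Om(S)| = 2`, `z₁ ≠ z₂`: the members of the piece and `MFact`

`JK Om K M` : the trace of a partner `M` of `K` as a subgroup of the piece `DK Om K`.
`lpiece_of_fact` : the piece simple and `LFact` for one trace give `LPiece` and `OutP` for `LLd`.
-/

set_option autoImplicit false
set_option linter.style.haveILetI false
set_option linter.unusedSectionVars false

namespace Cfsg.Agent.Cit.TwoB

open Subgroup Cfsg UseT SubCent

universe u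

/-- members which are quasisimple are generated by their 2-elements -/
theorem gen2_of_quasisimple {X : Type*} [Group X] [Finite X] {Om : Set (Subgroup X)} (h : Hyp Om)
    {J : Subgroup X} (hJ : J ∈ Om) (hq : IsQuasisimple J) : Gen2 J := by
  intro H hH
  let N : Subgroup J := closure {x | ∃ n : ℕ, x ^ 2 ^ n = 1}
  have hN : N.Normal := by
    rw [← normalizer_eq_top_iff, eq_top_iff]
    refine OneComp.le_normalizer_of_cj_le fun g _ => ?_
    rw [cj, MonoidHom.map_closure, closure_le]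
    rintro _ ⟨x, ⟨n, hn⟩, rfl⟩
    refine subset_closure ⟨n, ?_⟩
    rw [← map_pow, hn, map_one]
  rcases SignalizersComponents.LayerBasic.quasisimple_normal hq N hN with h1 | h1
  · intro x hx
    have h2 : N ≤ H.comap J.subtype := by
      rw [closure_le]
      rintro ⟨y, hy⟩ ⟨n, hn⟩
      exact hH y hy ⟨n, congrArg Subtype.val hn⟩
    have h3 : (⟨x, hx⟩ : J) ∈ N := by rw [h1]; trivial
    exact h2 h3
  · exfalso
    obtain ⟨Q, hQ⟩ := Hyp.exists_syl J
    obtain ⟨c, v, n, hc⟩ := h.exists_gq hJ hQ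
    have h2 : (⟨c, hQ.1 hc.c_mem⟩ : J) ∈ center J := by
      apply h1
      obtain ⟨k, hk⟩ := hQ.2.1 ⟨c, hc.c_mem⟩
      exact subset_closure ⟨k, Subtype.ext (by simpa using congrArg Subtype.val hk)⟩
    exact hc.not_comm (congrArg Subtype.val (mem_center_iff.1 h2 ⟨v, hQ.1 hc.v_mem⟩))

variable {G : Type u} [Group G] {Om : Set (Subgroup G)} {K L M : Subgroup G}

/-- the trace of a partner as a subgroup of the piece -/
noncomputable def JK (Om : Set (Subgroup G)) (K M : Subgroup G) : Subgroup (DK Om K) :=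
  (tr (CK K) M).subgroupOf (DK Om K)

variable [Finite G]

variable (hm : MinS Om) (h : Two Om) (hni : ¬ Iso Om)
include hm h hni

theorem tr_le_DK (hP : Pt Om K M) : tr (CK K) M ≤ DK Om K :=
  Sit.le_DD (tr_mem (pt_mem_cov h hP)) (tr_ne_of_pt h hm.isType hP)

theorem JK_map (hP : Pt Om K M) : (JK Om K M).map (DK Om K).subtype = tr (CK K) M :=
  map_subgroupOf_eq_of_le (tr_le_DK hm h hni hP)

theorem JK_mem (hP : Pt Om K M) : JK Om K M ∈ restr (fam Om (CK K)) (DK Om K) :=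
  subgroupOf_mem_restr (tr_mem (pt_mem_cov h hP)) (tr_le_DK hm h hni hP)

theorem zz_JK (hP : Pt Om K M) : ((zz (JK Om K M) : DK Om K) : HQ (CK K)) = qm (CK K) ⟨zz M, zz_mem_CK h hP⟩ := by
  rw [zz_map (hyp_fam h.hyp hm.isType _) (JK_mem hm h hni hP), JK_map hm h hni hP,
    zz_tr h.hyp hm.isType (pt_mem_cov h hP)]

/-- the members of the piece are the traces of the partners -/
theorem exists_JK (hK : K ∈ Om) {J : Subgroup (DK Om K)} (hJ : J ∈ restr (fam Om (CK K)) (DK Om K)) :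
    ∃ M, Pt Om K M ∧ JK Om K M = J := by
  have h1 : J.map (DK Om K).subtype ≤ DK Om K := map_subtype_le _
  obtain ⟨M, hP, hM⟩ := exists_of_mem_fam h hm.isType hK hJ ((sit hm h hni hK).ne_of_le hJ h1)
  refine ⟨M, hP, ?_⟩
  apply Subgroup.map_injective (DK Om K).subtype_injective
  rw [JK_map hm h hni hP, hM]

omit hm h hni in
theorem rd_eq_of_isT {M : Subgroup G} (hM : M ∈ cov Om (CK K)) (hT : SolvTwo.IsT M) :
    rd (M.subgroupOf (CK K)) = M.subgroupOf (CK K) := by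
  unfold rd
  rw [if_pos]
  exact TyTrans.isT_of_quot (SubCent.quotEquiv hM).symm hT

omit hni in
theorem quasisimple_tr (hK : K ∈ Om) {M : Subgroup G} (hM : M ∈ cov Om (CK K)) (hT : ¬ SolvTwo.IsT M) :
    IsQuasisimple (tr (CK K) M) := by
  have hTy := hm.isType
  have hr := UseT.isRd hTy (CK K)
  have e1 := hr.quot (RdOm.mem_OmIn hM)
  have e2 := TyTrans.quotMapOdd (f := qm (CK K)) (rd (M.subgroupOf (CK K))) (not_dvd_ker _)
  have e3 := SubCent.quotEquiv hM
  have hc : OO (tr (CK K) M) = ⊥ := (hm.fam_cent (h.hyp.zz_ne hK)).core _ (tr_mem hM)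
  have hc' : oddCore ↥(tr (CK K) M) = ⊥ := by
    rw [OO, Subgroup.map_eq_bot_iff_of_injective _ (tr (CK K) M).subtype_injective] at hc
    exact hc
  have e : (↥(tr (CK K) M) ⧸ oddCore ↥(tr (CK K) M)) ≃* ↥(tr (CK K) M) :=
    (QuotientGroup.quotientMulEquivOfEq hc').trans QuotientGroup.quotientBot
  have h1 : IsTy (↥(tr (CK K) M) ⧸ oddCore ↥(tr (CK K) M)) := isType_fam hTy (CK K) _ (tr_mem hM)
  rcases Ty.IsTy.cases h1 with h2 | ⟨⟨f⟩⟩
  · exact SignalizersComponents.PCompQuot.quasisimple_congr e h2.quasisimple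
  · exfalso
    exact hT ⟨((e3.symm.trans e1.symm).trans e2).trans f⟩

theorem gen_JK (hK : K ∈ Om) (hs : IsSimpleGroup (DK Om K)) (hP : Pt Om K M) :
    (∀ x (hx : x ∈ LLd Om K), x ∈ M → phi hm h hni hK hs ⟨x, hx⟩ ∈ JK Om K M) ∨ Gen2 (JK Om K M) := by
  by_cases hT : SolvTwo.IsT M
  · left
    intro x hx hxM
    rw [JK, mem_subgroupOf, coe_phi]
    refine ⟨⟨x, LLd_le h hx⟩, ?_, rfl⟩
    have h1 : (⟨x, LLd_le h hx⟩ : CK K) ∈ rd (M.subgroupOf (CK K)) := by
      rw [rd_eq_of_isT (pt_mem_cov h hP) hT]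
      exact hxM
    exact h1
  · right
    have h1 := quasisimple_tr hm h hK (pt_mem_cov h hP) hT
    have h2 : IsQuasisimple (JK Om K M) :=
      SignalizersComponents.PCompQuot.quasisimple_congr (subgroupOfEquivOfLe (tr_le_DK hm h hni hP)).symm h1
    exact gen2_of_quasisimple ((hyp_fam h.hyp hm.isType _).restr _) (JK_mem hm h hni hP) h2

theorem mfact (hK : K ∈ Om) (hs : IsSimpleGroup (DK Om K)) (hP : Pt Om K M)
    (hf : LFact (DK Om K) (JK Om K M) (zz (JK Om K M))) :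
    MFact (LLd Om K) (OO (CK K)) M (zz M) (phi hm h hni hK hs) (JK Om K M) (zz (JK Om K M)) := by
  have hTy := hm.isType
  have hr := UseT.isRd hTy (CK K)
  have hmo := RdOm.mem_OmIn (pt_mem_cov h hP)
  have hzL : zz M ∈ LLd Om K := mem_sup_left (subset_closure ⟨M, hP, rfl⟩)
  refine ⟨epi hm h hni hK hs, hzL, ?_, ?_, ?_, gen_JK hm h hni hK hs hP, hf⟩
  · apply Subtype.ext
    rw [coe_phi, zz_JK hm h hni hP]
  · rintro ⟨k, hk⟩ hkJ
    rw [JK, mem_subgroupOf] at hkJ
    obtain ⟨x, hx, rfl⟩ := hkJ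
    refine ⟨x, (mem_LLd_iff hm h hni hK hs).2 hk, hr.le _ hmo hx, ?_⟩
    apply Subtype.ext
    rw [coe_phi]
  · rintro x hx hxM ⟨k, hk⟩ hkJ
    rw [JK, mem_subgroupOf] at hkJ ⊢
    obtain ⟨y, hy, rfl⟩ := hkJ
    have h1 : (⟨x, LLd_le h hx⟩ : CK K) ∈ normalizer (rd (M.subgroupOf (CK K)) : Set (CK K)) := by
      refine hr.normalizer_le hmo (le_normalizer ?_)
      exact hxM
    refine ⟨⟨x, LLd_le h hx⟩ * y * ⟨x, LLd_le h hx⟩⁻¹, (mem_normalizer_iff.1 h1 y).1 hy, ?_⟩
    rw [map_mul, map_mul, map_inv]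
    rfl

/-- **the supply of `LPiece` and `OutP`** -/
theorem lpiece_of_fact (hs : ∀ K ∈ Om, IsSimpleGroup (DK Om K)) (hna : ∀ K ∈ Om, center (DK Om K) = ⊥)
    (hP : Pt Om K M) (hf : LFact (DK Om K) (JK Om K M) (zz (JK Om K M))) :
    LPiece Om (LLd Om) ∧ OutP Om (LLd Om) :=
  of_fact h hm.isType (fun K hK g => LLd_cj h hK g) (fun K hK => pc_LLd hm h hni hK (hs K hK) (hna K hK))
    (fun K hK => comm_LLd hm h hni hK (hs K hK))
    (fun K L R hR hKR hLR hne => part_LLd hm h hni hKR.1 (hs K hKR.1) hR hKR hLR hne)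
    ⟨K, M, hP, phi hm h hni hP.left (hs K hP.left), mfact hm h hni hP.left (hs K hP.left) hP hf⟩

end Cfsg.Agent.Cit.TwoB
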