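import Cfsg.Agent.Cit.TwoB.Link

/-!
# `|Om(S)| = 2`, `z₁ ≠ z₂`, case B, twisted: the frame `E` of order 16 with `N(E)/C(E) = S₅`

(bb R18 #6419, Tw1 OUTPUT).  Main result: `LPiece.exists_fr`.
-/

set_option autoImplicit false
set_option maxHeartbeats 400000
set_option linter.style.haveILetI false
set_option linter.unusedSectionVars false

namespace Cfsg.Agent.Cit.TwoB

open Subgroup Cfsg

variable {G : Type*} [Group G] {Om : Set (Subgroup G)} {K L T : Subgroup G}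
  {LL : Subgroup G → Subgroup G}

/-- the twisted alternative of `LPiece.dichotomy` -/
def Tw1 (Om : Set (Subgroup G)) (LL : Subgroup G → Subgroup G) : Prop :=
  ∀ K L, Pt Om K L → ∀ p ∈ LL L, p * zz K = zz K * p → p * p = 1 → p ≠ 1 → p ≠ zz K → TV LL K (p * zz L)

section Abstract

/-! ### Five commuting involutions -/

/-- the set of permutations of `Fin 5` induced by conjugation on the products `t i * t j` -/
def Ind (t : Fin 5 → G) (σ : Equiv.Perm (Fin 5)) : Prop :=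
  ∃ n : G, ∀ i j, n * (t i * t j) * n⁻¹ = t (σ i) * t (σ j)

theorem Ind.mul {t : Fin 5 → G} {σ τ : Equiv.Perm (Fin 5)} (h1 : Ind t σ) (h2 : Ind t τ) : Ind t (σ * τ) := by
  obtain ⟨n, hn⟩ := h1
  obtain ⟨m, hm⟩ := h2
  refine ⟨n * m, fun i j => ?_⟩
  calc n * m * (t i * t j) * (n * m)⁻¹ = n * (m * (t i * t j) * m⁻¹) * n⁻¹ := by group
    _ = t (σ (τ i)) * t (σ (τ j)) := by rw [hm, hn]

theorem Ind.one (t : Fin 5 → G) : Ind t 1 := ⟨1, fun i j => by simp⟩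

/-- an element with `t i ^ n = a * t (σ i)` -/
theorem ind_of {t : Fin 5 → G} (hc : ∀ i j, t i * t j = t j * t i) {a : G} (ha : a * a = 1)
    (hat : ∀ i, a * t i = t i * a) {σ : Equiv.Perm (Fin 5)} {n : G}
    (hn : ∀ i, n * t i * n⁻¹ = a * t (σ i)) : Ind t σ := by
  refine ⟨n, fun i j => ?_⟩
  calc n * (t i * t j) * n⁻¹ = (n * t i * n⁻¹) * (n * t j * n⁻¹) := by group
    _ = (a * t (σ i)) * (a * t (σ j)) := by rw [hn, hn]
    _ = (t (σ i) * a) * (a * t (σ j)) := by rw [hat]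
    _ = t (σ i) * (a * a) * t (σ j) := by group
    _ = t (σ i) * t (σ j) := by rw [ha, mul_one]

theorem Ind.swap_trans {t : Fin 5 → G} {a b c : Fin 5} (hab : a ≠ b) (hac : a ≠ c)
    (h1 : Ind t (Equiv.swap a b)) (h2 : Ind t (Equiv.swap b c)) : Ind t (Equiv.swap a c) := by
  have h3 := (h2.mul h1).mul h2
  rwa [Equiv.swap_mul_swap_mul_swap hab hac, Equiv.swap_comm] at h3

theorem ind_all {t : Fin 5 → G} (h04 : Ind t (Equiv.swap 0 4)) (h24 : Ind t (Equiv.swap 2 4))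
    (h01 : Ind t (Equiv.swap 0 1)) (h23 : Ind t (Equiv.swap 2 3)) (σ : Equiv.Perm (Fin 5)) : Ind t σ := by
  have h14 : Ind t (Equiv.swap 1 4) := by
    rw [Equiv.swap_comm] at h01
    exact h01.swap_trans (by decide) (by decide) h04
  have h34 : Ind t (Equiv.swap 3 4) := by
    rw [Equiv.swap_comm] at h23
    exact h23.swap_trans (by decide) (by decide) h24
  have h4 : ∀ i : Fin 5, i ≠ 4 → Ind t (Equiv.swap i 4) := by
    intro i hi
    fin_cases i
    · exact h04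
    · exact h14
    · exact h24
    · exact h34
    · exact absurd rfl hi
  have hs : ∀ i j : Fin 5, i ≠ j → Ind t (Equiv.swap i j) := by
    intro i j hij
    by_cases hi : i = 4
    · subst hi
      rw [Equiv.swap_comm]
      exact h4 j hij.symm
    by_cases hj : j = 4
    · subst hj
      exact h4 i hi
    have h5 := h4 j hj
    rw [Equiv.swap_comm] at h5
    exact (h4 i hi).swap_trans hi hij h5
  induction σ using Equiv.Perm.swap_induction_on with
  | one => exact Ind.one t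
  | swap_mul f x y hxy ih => exact (hs x y hxy).mul ih

end Abstract

/-- the data of the frame: `e₁ ∈ LL L`, `e₂ ∈ LL K` involutions of `T`, different from `z_K`, `z_L` -/
structure EData (Om : Set (Subgroup G)) (LL : Subgroup G → Subgroup G) (K L T : Subgroup G) (e₁ e₂ : G) : Prop where
  fr : Fr Om K L T
  m1 : e₁ ∈ LL L
  t1 : e₁ ∈ T
  s1 : e₁ * e₁ = 1
  n1 : e₁ ≠ 1
  z1 : e₁ ≠ zz K
  m2 : e₂ ∈ LL K
  t2 : e₂ ∈ T
  s2 : e₂ * e₂ = 1
  n2 : e₂ ≠ 1
  z2 : e₂ ≠ zz L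

namespace EData

variable [Finite G] {e₁ e₂ : G}

theorem symm (d : EData Om LL K L T e₁ e₂) : EData Om LL L K T e₂ e₁ :=
  ⟨d.fr.symm, d.m2, d.t2, d.s2, d.n2, d.z2, d.m1, d.t1, d.s1, d.n1, d.z1⟩

theorem not_pt (hL : LPiece Om LL) (h : Two Om) (d : EData Om LL K L T e₁ e₂) {M : Subgroup G}
    (hM : zz M = e₂) : ¬ Pt Om L M := by
  intro hP
  apply d.z2
  have hle := hL.part K L T d.fr.hT d.fr.kT d.fr.lT d.fr.ne
  have hn : zz M ∈ normalizer ((L ⊓ T : Subgroup G) : Set G) := by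
    rw [hM, mem_normalizer_iff_cj, cj_inf, (h.cj_eq_iff d.fr.lT.1).2 (d.fr.commL d.t2),
      mem_normalizer_iff_cj.1 (le_normalizer d.t2)]
  have h1 := h.cent_of_pt hP (syl_inf d.fr.hT d.fr.lT) hn
  rw [hM] at h1
  exact hL.cent2 K L d.fr.pt (L ⊓ T) (syl_inf d.fr.hT d.fr.lT) hle e₂ d.m2 d.s2 d.n2 h1

/-- the element inducing `(2 3)` -/
theorem exists_two (hL : LPiece Om LL) (h : Two Om) (d : EData Om LL K L T e₁ e₂) :
    ∃ n : G, n * zz K = zz K * n ∧ n * zz L = zz L * n ∧ n * e₁ = e₁ * n ∧ n * e₂ * n⁻¹ = zz L * e₂ := by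
  obtain ⟨M, hM, hMe⟩ := hL.exists_pt_of_mem h d.fr.kT.1 d.m2 d.s2 d.n2
  have hn : zz M ∈ normalizer ((L ⊓ T : Subgroup G) : Set G) := by
    rw [hMe, mem_normalizer_iff_cj, cj_inf, (h.cj_eq_iff d.fr.lT.1).2 (d.fr.commL d.t2),
      mem_normalizer_iff_cj.1 (le_normalizer d.t2)]
  have hne : L ≠ M := by
    rintro rfl
    exact d.z2 hMe.symm
  obtain ⟨n, hnLT, hn1⟩ := (h.zz_or d.fr.lT.1 hM.right hne (syl_inf d.fr.hT d.fr.lT) hn).resolve_left
    (d.not_pt hL h hMe)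
  rw [hMe] at hn1
  have hnK := hL.part K L T d.fr.hT d.fr.kT d.fr.lT d.fr.ne hnLT
  exact ⟨n, d.fr.commK hnLT.2, d.fr.commL hnLT.2, (hL.comm_inf h d.fr d.m1 d.t1 hnK hnLT.2).symm, hn1⟩

/-- the element inducing `(2 4)` -/
theorem exists_four (hL : LPiece Om LL) (h : Two Om) (h1 : Tw1 Om LL) (d : EData Om LL K L T e₁ e₂) :
    ∃ n : G, n * zz K = zz K * n ∧ n * e₂ = e₂ * n ∧ n * zz L * n⁻¹ = e₂ * zz L ∧ n * e₁ * n⁻¹ = e₁ * e₂ := by
  obtain ⟨M, hM, hMe⟩ := hL.exists_pt_of_mem h d.fr.kT.1 d.m2 d.s2 d.n2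
  have hLT : zz L ∈ T := (h.hyp.zz_mem_inf d.fr.hT d.fr.lT).2
  have hL2 := h.hyp.zz_mul d.fr.lT.1
  have e12 : e₁ * e₂ = e₂ * e₁ := hL.comm_inf h d.fr d.m1 d.t1 d.m2 d.t2
  have e2L : e₂ * zz L = zz L * e₂ := d.fr.commL d.t2
  have e1L : e₁ * zz L = zz L * e₁ := d.fr.commL d.t1
  obtain ⟨T', hT', f'⟩ := exists_frame h hM (A := T ⊓ centralizer {e₂}) (d.fr.hT.to_le inf_le_left)
    (inf_le_left.trans d.fr.sk.1) (by rw [hMe]; exact inf_le_right)
  have h1T' : e₁ ∈ T' := hT' ⟨d.t1, mem_centralizer_singleton_iff.2 e12⟩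
  have hLT' : zz L ∈ T' := hT' ⟨hLT, mem_centralizer_singleton_iff.2 e2L.symm⟩
  have hn : zz L ∈ normalizer ((M ⊓ T' : Subgroup G) : Set G) := by
    rw [mem_normalizer_iff_cj, cj_inf, (h.cj_eq_iff hM.right).2 (by rw [hMe]; exact e2L.symm),
      mem_normalizer_iff_cj.1 (le_normalizer hLT')]
  have hne : M ≠ L := by
    rintro rfl
    exact d.z2 hMe.symm
  obtain ⟨n, hnM, hn1⟩ := (h.zz_or hM.right d.fr.lT.1 hne (syl_inf f'.hT f'.lT) hn).resolve_left
    fun h2 => d.not_pt hL h hMe h2.symm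
  rw [hMe] at hn1
  have hnK := hL.part K M T' f'.hT f'.kT f'.lT f'.ne hnM
  have hct : TV LL K (e₁ * zz L) := h1 K L d.fr.pt e₁ d.m1 (d.fr.commK d.t1) d.s1 d.n1 d.z1
  have hcn := hL.comm_of_tv f' (T'.mul_mem h1T' hLT') hct hnK hnM.2
  refine ⟨n, f'.commK hnM.2, by rw [← hMe]; exact f'.commL hnM.2, hn1, ?_⟩
  calc n * e₁ * n⁻¹ = n * (e₁ * (zz L * zz L)) * n⁻¹ := by rw [hL2, mul_one]
    _ = (n * (e₁ * zz L) * n⁻¹) * (n * zz L * n⁻¹) := by group
    _ = (e₁ * zz L * n * n⁻¹) * (e₂ * zz L) := by rw [← hcn, hn1]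
    _ = e₁ * zz L * (zz L * e₂) := by rw [mul_inv_cancel_right, e2L]
    _ = e₁ * (zz L * zz L) * e₂ := by group
    _ = e₁ * e₂ := by rw [hL2, mul_one]

/-- the five involutions (and `1`) whose products are the frame -/
def tt (zK zL e₁ e₂ : G) : Fin 5 → G := ![e₁, zK * e₁, e₂, zL * e₂, 1]

theorem all5 {P : G → Prop} {t : Fin 5 → G} (h0 : P (t 0)) (h1 : P (t 1)) (h2 : P (t 2)) (h3 : P (t 3))
    (h4 : P (t 4)) : ∀ i, P (t i) := by
  intro i
  fin_cases i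
  · exact h0
  · exact h1
  · exact h2
  · exact h3
  · exact h4

section Comm

variable (d : EData Om LL K L T e₁ e₂)

include d in
theorem comms (hL : LPiece Om LL) (h : Two Om) :
    Commute (zz K) (zz L) ∧ Commute (zz K) e₁ ∧ Commute (zz K) e₂ ∧ Commute (zz L) e₁ ∧ Commute (zz L) e₂ ∧
      Commute e₁ e₂ :=
  ⟨d.fr.pt.comm h.hyp, (d.fr.commK d.t1).symm, (d.fr.commK d.t2).symm, (d.fr.commL d.t1).symm,
    (d.fr.commL d.t2).symm, hL.comm_inf h d.fr d.m1 d.t1 d.m2 d.t2⟩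

end Comm

theorem tt_comm {a b c d' : G} (hab : Commute a b) (hac : Commute a c) (had : Commute a d')
    (hbc : Commute b c) (hbd : Commute b d') (hcd : Commute c d') :
    (∀ j, Commute a (tt a b c d' j)) ∧ (∀ j, Commute b (tt a b c d' j)) ∧ (∀ j, Commute c (tt a b c d' j)) ∧
      (∀ j, Commute d' (tt a b c d' j)) ∧ ∀ i j, Commute (tt a b c d' i) (tt a b c d' j) := by
  have key : ∀ x : G, Commute x a → Commute x b → Commute x c → Commute x d' →
      ∀ j, Commute x (tt a b c d' j) := by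
    intro x h1 h2 h3 h4
    exact all5 h3 (h1.mul_right h3) h4 (h2.mul_right h4) (Commute.one_right x)
  have ka := key a (Commute.refl _) hab hac had
  have kb := key b hab.symm (Commute.refl _) hbc hbd
  have kc := key c hac.symm hbc.symm (Commute.refl _) hcd
  have kd := key d' had.symm hbd.symm hcd.symm (Commute.refl _)
  refine ⟨ka, kb, kc, kd, ?_⟩
  intro i j
  revert i
  exact all5 (P := fun x => Commute x (tt a b c d' j)) (kc j) ((ka j).mul_left (kc j)) (kd j)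
    ((kb j).mul_left (kd j)) (Commute.one_left _)

theorem tt_sq {a b c d' : G} (ha : a * a = 1) (hb : b * b = 1) (hc : c * c = 1) (hd : d' * d' = 1)
    (hac : Commute a c) (hbd : Commute b d') : ∀ j, tt a b c d' j * tt a b c d' j = 1 := by
  refine all5 (P := fun x => x * x = 1) hc ?_ hd ?_ (one_mul 1)
  · show a * c * (a * c) = 1
    calc a * c * (a * c) = a * (c * a) * c := by group
      _ = (a * a) * (c * c) := by rw [← hac.eq]; group
      _ = 1 := by rw [ha, hc, one_mul]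
  · show b * d' * (b * d') = 1
    calc b * d' * (b * d') = b * (d' * b) * d' := by group
      _ = (b * b) * (d' * d') := by rw [← hbd.eq]; group
      _ = 1 := by rw [hb, hd, one_mul]

/-- all permutations are induced -/
theorem ind (hL : LPiece Om LL) (h : Two Om) (h1 : Tw1 Om LL) (d : EData Om LL K L T e₁ e₂)
    (σ : Equiv.Perm (Fin 5)) : Ind (tt (zz K) (zz L) e₁ e₂) σ := by
  obtain ⟨cKL, cK1, cK2, cL1, cL2, c12⟩ := d.comms hL h
  obtain ⟨ka, kb, kc, kd, kk⟩ := tt_comm cKL cK1 cK2 cL1 cL2 c12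
  have hK2 := h.hyp.zz_mul d.fr.kT.1
  have hL2 := h.hyp.zz_mul d.fr.lT.1
  have cj2 : ∀ {n x y : G}, n * x = x * n → n * (x * y) * n⁻¹ = x * (n * y * n⁻¹) := by
    intro n x y hx
    calc n * (x * y) * n⁻¹ = (n * x) * y * n⁻¹ := by group
      _ = _ := by rw [hx]; group
  have cj1 : ∀ {n x : G}, n * x = x * n → n * x * n⁻¹ = x := by
    intro n x hx
    rw [hx, mul_inv_cancel_right]
  refine ind_all ?_ ?_ ?_ ?_ σ
  · -- `(0 4)`
    obtain ⟨n, n1, n2, n3, n4⟩ := d.symm.exists_four hL h h1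
    refine ind_of kk d.s1 (fun i => (kc i).eq) (σ := Equiv.swap 0 4) (n := n) ?_
    intro i
    fin_cases i
    · show n * e₁ * n⁻¹ = e₁ * 1
      rw [cj1 n2, mul_one]
    · show n * (zz K * e₁) * n⁻¹ = e₁ * (zz K * e₁)
      have e0 : zz K * e₁ = e₁ * zz K := cK1
      rw [e0, cj2 n2, n3]
    · show n * e₂ * n⁻¹ = e₁ * e₂
      rw [n4]; exact c12.eq.symm
    · show n * (zz L * e₂) * n⁻¹ = e₁ * (zz L * e₂)
      rw [cj2 n1, n4]
      calc zz L * (e₂ * e₁) = zz L * (e₁ * e₂) := by rw [c12.eq]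
        _ = (zz L * e₁) * e₂ := by group
        _ = (e₁ * zz L) * e₂ := by rw [cL1.eq]
        _ = _ := by group
    · show n * 1 * n⁻¹ = e₁ * e₁
      rw [d.s1]; group
  · -- `(2 4)`
    obtain ⟨n, n1, n2, n3, n4⟩ := d.exists_four hL h h1
    refine ind_of kk d.s2 (fun i => (kd i).eq) (σ := Equiv.swap 2 4) (n := n) ?_
    intro i
    fin_cases i
    · show n * e₁ * n⁻¹ = e₂ * e₁
      rw [n4]; exact c12.eq
    · show n * (zz K * e₁) * n⁻¹ = e₂ * (zz K * e₁)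
      rw [cj2 n1, n4]
      calc zz K * (e₁ * e₂) = zz K * (e₂ * e₁) := by rw [c12.eq]
        _ = (zz K * e₂) * e₁ := by group
        _ = (e₂ * zz K) * e₁ := by rw [cK2.eq]
        _ = _ := by group
    · show n * e₂ * n⁻¹ = e₂ * 1
      rw [cj1 n2, mul_one]
    · show n * (zz L * e₂) * n⁻¹ = e₂ * (zz L * e₂)
      have e0 : zz L * e₂ = e₂ * zz L := cL2
      rw [e0, cj2 n2, n3]
    · show n * 1 * n⁻¹ = e₂ * e₂
      rw [d.s2]; group
  · -- `(0 1)`
    obtain ⟨n, n1, n2, n3, n4⟩ := d.symm.exists_two hL h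
    refine ind_of kk (one_mul 1) (fun i => by simp) (σ := Equiv.swap 0 1) (n := n) ?_
    intro i
    rw [one_mul]
    fin_cases i
    · show n * e₁ * n⁻¹ = zz K * e₁
      exact n4
    · show n * (zz K * e₁) * n⁻¹ = e₁
      rw [cj2 n2, n4, ← mul_assoc, hK2, one_mul]
    · show n * e₂ * n⁻¹ = e₂
      exact cj1 n3
    · show n * (zz L * e₂) * n⁻¹ = zz L * e₂
      rw [cj2 n1, cj1 n3]
    · show n * 1 * n⁻¹ = 1
      group
  · -- `(2 3)`
    obtain ⟨n, n1, n2, n3, n4⟩ := d.exists_two hL h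
    refine ind_of kk (one_mul 1) (fun i => by simp) (σ := Equiv.swap 2 3) (n := n) ?_
    intro i
    rw [one_mul]
    fin_cases i
    · show n * e₁ * n⁻¹ = e₁
      exact cj1 n3
    · show n * (zz K * e₁) * n⁻¹ = zz K * e₁
      rw [cj2 n1, cj1 n3]
    · show n * e₂ * n⁻¹ = zz L * e₂
      exact n4
    · show n * (zz L * e₂) * n⁻¹ = e₂
      rw [cj2 n2, n4, ← mul_assoc, hL2, one_mul]
    · show n * 1 * n⁻¹ = 1
      group

/-- the frame in the sense of `SylowLFive.Frame` -/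
noncomputable def toFr (hL : LPiece Om LL) (h : Two Om) (h1 : Tw1 Om LL) (d : EData Om LL K L T e₁ e₂) :
    SylowLFive.Frame.Fr G where
  T i j := tt (zz K) (zz L) e₁ e₂ i * tt (zz K) (zz L) e₁ e₂ j
  T_self := by
    obtain ⟨cKL, cK1, cK2, cL1, cL2, c12⟩ := d.comms hL h
    exact tt_sq (h.hyp.zz_mul d.fr.kT.1) (h.hyp.zz_mul d.fr.lT.1) d.s1 d.s2 cK1 cL2
  T_symm := by
    obtain ⟨cKL, cK1, cK2, cL1, cL2, c12⟩ := d.comms hL h
    exact (tt_comm cKL cK1 cK2 cL1 cL2 c12).2.2.2.2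
  T_mul := by
    obtain ⟨cKL, cK1, cK2, cL1, cL2, c12⟩ := d.comms hL h
    intro i j k
    have h2 := tt_sq (h.hyp.zz_mul d.fr.kT.1) (h.hyp.zz_mul d.fr.lT.1) d.s1 d.s2 cK1 cL2 j
    calc tt (zz K) (zz L) e₁ e₂ i * tt (zz K) (zz L) e₁ e₂ j *
          (tt (zz K) (zz L) e₁ e₂ j * tt (zz K) (zz L) e₁ e₂ k) =
        tt (zz K) (zz L) e₁ e₂ i * (tt (zz K) (zz L) e₁ e₂ j * tt (zz K) (zz L) e₁ e₂ j) *
          tt (zz K) (zz L) e₁ e₂ k := by group
      _ = _ := by rw [h2, mul_one]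
  T_ne := by
    obtain ⟨cKL, cK1, cK2, cL1, cL2, c12⟩ := d.comms hL h
    show e₁ * (zz K * e₁) ≠ 1
    intro h2
    apply h.hyp.zz_ne d.fr.kT.1
    have h3 : e₁ * (zz K * e₁) = zz K := by
      calc e₁ * (zz K * e₁) = e₁ * (e₁ * zz K) := by rw [cK1.eq]
        _ = (e₁ * e₁) * zz K := by group
        _ = zz K := by rw [d.s1, one_mul]
    rw [← h3, h2]
  perm σ := d.ind hL h h1 σ

theorem toFr_01 (hL : LPiece Om LL) (h : Two Om) (h1 : Tw1 Om LL) (d : EData Om LL K L T e₁ e₂) :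
    (d.toFr hL h h1).T 0 1 = zz K := by
  obtain ⟨cKL, cK1, cK2, cL1, cL2, c12⟩ := d.comms hL h
  show e₁ * (zz K * e₁) = zz K
  calc e₁ * (zz K * e₁) = e₁ * (e₁ * zz K) := by rw [cK1.eq]
    _ = (e₁ * e₁) * zz K := by group
    _ = zz K := by rw [d.s1, one_mul]

theorem toFr_23 (hL : LPiece Om LL) (h : Two Om) (h1 : Tw1 Om LL) (d : EData Om LL K L T e₁ e₂) :
    (d.toFr hL h h1).T 2 3 = zz L := by
  obtain ⟨cKL, cK1, cK2, cL1, cL2, c12⟩ := d.comms hL h
  show e₂ * (zz L * e₂) = zz L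
  calc e₂ * (zz L * e₂) = e₂ * (e₂ * zz L) := by rw [cL2.eq]
    _ = (e₂ * e₂) * zz L := by group
    _ = zz L := by rw [d.s2, one_mul]

theorem toFr_04 (hL : LPiece Om LL) (h : Two Om) (h1 : Tw1 Om LL) (d : EData Om LL K L T e₁ e₂) :
    (d.toFr hL h h1).T 0 4 = e₁ := by
  show e₁ * 1 = e₁
  rw [mul_one]

theorem toFr_24 (hL : LPiece Om LL) (h : Two Om) (h1 : Tw1 Om LL) (d : EData Om LL K L T e₁ e₂) :
    (d.toFr hL h h1).T 2 4 = e₂ := by
  show e₂ * 1 = e₂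
  rw [mul_one]

theorem toFr_mem (hL : LPiece Om LL) (h : Two Om) (h1 : Tw1 Om LL) (d : EData Om LL K L T e₁ e₂)
    (i j : Fin 5) : (d.toFr hL h h1).T i j ∈ T := by
  have hKT : zz K ∈ T := (h.hyp.zz_mem_inf d.fr.hT d.fr.kT).2
  have hLT : zz L ∈ T := (h.hyp.zz_mem_inf d.fr.hT d.fr.lT).2
  have key : ∀ i, tt (zz K) (zz L) e₁ e₂ i ∈ T :=
    all5 (P := fun x => x ∈ T) d.t1 (T.mul_mem hKT d.t1) d.t2 (T.mul_mem hLT d.t2) T.one_mem
  exact T.mul_mem (key i) (key j)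

end EData

namespace LPiece

variable [Finite G]

theorem exists_edata (hL : LPiece Om LL) (h : Two Om) (f : Fr Om K L T) : ∃ e₁ e₂, EData Om LL K L T e₁ e₂ := by
  have key : ∀ {K L : Subgroup G}, Fr Om K L T → ∃ q ∈ LL K, q ∈ T ∧ q * q = 1 ∧ q ≠ 1 ∧ q ≠ zz L := by
    intro K L f
    obtain ⟨t, ht, ht2, ht1, htz, htc⟩ := hL.four K L f.pt
    obtain ⟨T', htT', f'⟩ := exists_frame_one h f.pt ht2 (hL.le_cent f.kT.1 ht) htc
    obtain ⟨m, hm, hmT⟩ := f'.exists_conj f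
    have hmL : m * zz L = zz L * m := mem_centralizer_singleton_iff.1 hm.2
    refine ⟨m * t * m⁻¹, (hL.pc K f.kT.1).conjL hm.1 ht, by rw [← hmT]; exact conj_mem_cj htT', ?_, ?_, ?_⟩
    · calc m * t * m⁻¹ * (m * t * m⁻¹) = m * (t * t) * m⁻¹ := by group
        _ = 1 := by rw [ht2]; group
    · intro h1
      apply ht1
      calc t = m⁻¹ * (m * t * m⁻¹) * m := by group
        _ = 1 := by rw [h1]; group
    · intro h1
      apply htz
      calc t = m⁻¹ * (m * t * m⁻¹) * m := by group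
        _ = m⁻¹ * (zz L * m) := by rw [h1]; group
        _ = zz L := by rw [← hmL]; group
  obtain ⟨p, p1, p2, p3, p4, p5⟩ := key f.symm
  obtain ⟨q, q1, q2, q3, q4, q5⟩ := key f
  exact ⟨p, q, f, p1, p2, p3, p4, p5, q1, q2, q3, q4, q5⟩

/-- in the twisted case `LL K` contains no elementary abelian subgroup `⟨z_L, a, b⟩` of order 8 -/
theorem no_eight (hL : LPiece Om LL) (h : Two Om) (h1 : Tw1 Om LL) (hP : Pt Om K L) {a b : G} (ha : a ∈ LL K)
    (hb : b ∈ LL K) (ha2 : a * a = 1) (hb2 : b * b = 1) (hab : a * b = b * a) (haz : a * zz L = zz L * a)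
    (hbz : b * zz L = zz L * b) (ha1 : a ≠ 1) (hb1 : b ≠ 1) (hne : a ≠ b) (haL : a ≠ zz L) (hbL : b ≠ zz L)
    (habL : a * b ≠ zz L) : False := by
  have hc := hL.pc L hP.right
  have hK2 := h.hyp.zz_mul hP.left
  have haK := hL.le_cent hP.left ha
  have hbK := hL.le_cent hP.left hb
  have hKL := hP.comm h.hyp
  have e1 := h1 L K hP.symm a ha haz ha2 ha1 haL
  have e2 := h1 L K hP.symm b hb hbz hb2 hb1 hbL
  have e3 := h1 L K hP.symm (a * b) ((LL K).mul_mem ha hb)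
    (by
      have c1 : Commute a (zz L) := haz
      have c2 : Commute b (zz L) := hbz
      exact (c1.mul_left c2).eq)
    (by
      calc a * b * (a * b) = a * (b * a) * b := by group
        _ = (a * a) * (b * b) := by rw [← hab]; group
        _ = 1 := by rw [ha2, hb2, one_mul])
    (by
      intro h2
      apply hne
      rw [← inv_of_sq hb2]
      exact eq_inv_of_mul_eq_one_left h2)
    habL
  have m1 : a * zz K ∈ centralizer {zz L} := mem_centralizer_singleton_iff.2 (by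
    have c1 : Commute a (zz L) := haz
    have c2 : Commute (zz K) (zz L) := hKL
    exact (c1.mul_left c2).eq)
  have e4 := hc.tv_mul m1 e1 e2
  have e5 : a * zz K * (b * zz K) = a * b := by
    calc a * zz K * (b * zz K) = a * (zz K * b) * zz K := by group
      _ = a * (b * zz K) * zz K := by rw [hbK]
      _ = a * b * (zz K * zz K) := by group
      _ = a * b := by rw [hK2, mul_one]
  rw [e5] at e4
  have m2 : a * b ∈ centralizer {zz L} := mem_centralizer_singleton_iff.2 (by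
    have c1 : Commute a (zz L) := haz
    have c2 : Commute b (zz L) := hbz
    exact (c1.mul_left c2).eq)
  have e6 := hc.tv_mul ((centralizer {zz L}).inv_mem m2) (hc.tv_inv m2 e4) e3
  have e7 : (a * b)⁻¹ * (a * b * zz K) = zz K := by group
  rw [e7] at e6
  exact hL.not_tv_zz h hP.symm e6

/-- **the frame**: ten involutions `F.T i j` of members, permuted as `S₅`, in the common Sylow 2-subgroup `T` of
`C(z_K)` and `C(z_L)`; `F.T 0 1 = z_K`, `F.T 2 3 = z_L`, `F.T 2 4 ∈ LL K`, `F.T 0 4 ∈ LL L` -/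
theorem exists_fr (hL : LPiece Om LL) (h : Two Om) (h1 : Tw1 Om LL) (f : Fr Om K L T) :
    ∃ F : SylowLFive.Frame.Fr G, F.T 0 1 = zz K ∧ F.T 2 3 = zz L ∧ (∀ i j, F.T i j ∈ T) ∧
      F.T 2 3 ∈ LL K ∧ F.T 2 4 ∈ LL K ∧ F.T 3 4 ∈ LL K ∧
      F.T 0 1 ∈ LL L ∧ F.T 0 4 ∈ LL L ∧ F.T 1 4 ∈ LL L ∧
      (∀ i j, i ≠ j → ∃ N ∈ Om, F.T i j = zz N) ∧ ∀ i, F.z i ∈ ZZ Om := by
  obtain ⟨e₁, e₂, d⟩ := hL.exists_edata h f
  have a01 := d.toFr_01 hL h h1
  have a23 := d.toFr_23 hL h h1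
  have a04 := d.toFr_04 hL h h1
  have a24 := d.toFr_24 hL h h1
  have am := d.toFr_mem hL h h1
  set F := d.toFr hL h h1 with hF
  have m23 : F.T 2 3 ∈ LL K := by rw [a23]; exact hL.mem_of_pt h f.pt
  have m24 : F.T 2 4 ∈ LL K := by rw [a24]; exact d.m2
  have m01 : F.T 0 1 ∈ LL L := by rw [a01]; exact hL.mem_of_pt h f.symm.pt
  have m04 : F.T 0 4 ∈ LL L := by rw [a04]; exact d.m1
  refine ⟨F, a01, a23, am, m23, m24, ?_, m01, m04, ?_, ?_, ?_⟩
  · rw [← F.T_mul 3 2 4, F.T_symm 3 2]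
    exact (LL K).mul_mem m23 m24
  · rw [← F.T_mul 1 0 4, F.T_symm 1 0]
    exact (LL L).mul_mem m01 m04
  · intro i j hij
    obtain ⟨n, -, hn⟩ := F.exists_conj hij
    exact ⟨Cit.cj n K, h.hyp.conj K f.kT.1 n, by rw [← hn, a01, h.hyp.zz_cj f.kT.1]⟩
  · intro i
    obtain ⟨n, -, hn⟩ := F.z_exists_conj 4 i
    rw [← hn, F.z_four, a01, a23]
    exact h.ZZ_cj ⟨K, L, f.pt, rfl⟩ n

end LPiece

end Cfsg.Agent.Cit.TwoB
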