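import Cfsg.Agent.Cit.TwoB.Zero

/-!
# `|Om(S)| = 2`, `z₁ ≠ z₂`, case B with trivial twist: `G` has a subgroup of index two, the end

(bb R18 #6419, (G6)-(G8)).  Main result: `exists_index_two`.
-/

set_option autoImplicit false
set_option maxHeartbeats 400000
set_option linter.style.haveILetI false
set_option linter.unusedSectionVars false

namespace Cfsg.Agent.Cit.TwoB

open Subgroup Cfsg

variable {G : Type*} [Group G] {Om : Set (Subgroup G)} {K L T J U V : Subgroup G}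
  {LL : Subgroup G → Subgroup G}

/-- the output of the `Z*`-theorem in `C(z_K z_L) / ⟨z_K z_L⟩` -/
structure Core (K L O : Subgroup G) : Prop where
  odd : Odd (Nat.card O)
  conj : ∀ c, c * (zz K * zz L) = zz K * zz L * c → ∀ o ∈ O, c * o * c⁻¹ ∈ O
  or : ∀ c, c * (zz K * zz L) = zz K * zz L * c →
    c * zz K * c⁻¹ * zz K ∈ O ∨ zz K * zz L * (c * zz K * c⁻¹ * zz K) ∈ O

namespace Core

variable [Finite G] {O : Subgroup G}

/-- for a Sylow 2-subgroup `S` of `C(z)` with members `U`, `V`, the subgroup `C_S(z_U)` is cut out by `O` -/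
theorem iff (h : Two Om) (co : Core K L O) (hP : Pt Om K L) (S : Sylow 2 G)
    (hU : U ∈ OmS Om (S : Subgroup G)) (hV : V ∈ OmS Om (S : Subgroup G)) (hne : U ≠ V)
    (hz : zz K * zz L = zz U * zz V) {s : G} (hs : s ∈ (S : Subgroup G)) :
    s * zz U = zz U * s ↔ s * zz K * s⁻¹ * zz K ∈ O := by
  have hP' : Pt Om U V := ⟨hne, S, S.isPGroup', hU, hV⟩
  obtain ⟨g, hgK, hgL⟩ := h.pt_trans hP hP'
  obtain ⟨z, hzd⟩ : ∃ z, z = zz K * zz L := ⟨_, rfl⟩
  have hzU : zz U = g * zz K * g⁻¹ := by rw [← hgK, h.hyp.zz_cj hP.left]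
  have hzV : zz V = g * zz L * g⁻¹ := by rw [← hgL, h.hyp.zz_cj hP.right]
  have hgz : g * z = z * g := by
    have h1 : z = g * z * g⁻¹ := by
      calc z = zz U * zz V := by rw [hzd, hz]
        _ = g * z * g⁻¹ := by rw [hzU, hzV, hzd]; group
    calc g * z = (g * z * g⁻¹) * g := by group
      _ = z * g := by rw [← h1]
  have hsz : s * z = z * s := by
    rw [hzd, hz]
    exact h.comm_mul S.isPGroup' hU hV hne (le_normalizer hs)
  have hz2 : z * z = 1 := by rw [hzd]; exact h.ZZ_mul_self ⟨K, L, hP, rfl⟩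
  have hz1 : z ≠ 1 := by rw [hzd]; exact h.ZZ_ne_one ⟨K, L, hP, rfl⟩
  have hK2 := h.hyp.zz_mul hP.left
  have hsc := co.conj s (by rw [← hzd]; exact hsz)
  have hor := co.or g (by rw [← hzd]; exact hgz)
  rw [← hzd] at hor
  obtain ⟨d, hd⟩ : ∃ d, d = g * zz K * g⁻¹ * zz K := ⟨_, rfl⟩
  rw [← hd] at hor
  have hUd : zz U = d * zz K := by rw [hd, mul_assoc, hK2, mul_one, hzU]
  obtain ⟨e, he⟩ : ∃ e, e = s * zz K * s⁻¹ * zz K := ⟨_, rfl⟩
  rw [← he]
  have hse : s * zz K * s⁻¹ = e * zz K := by rw [he, mul_assoc _ (zz K) (zz K), hK2, mul_one]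
  have hsU : s * zz U * s⁻¹ = s * d * s⁻¹ * e * zz K := by
    calc s * zz U * s⁻¹ = (s * d * s⁻¹) * (s * zz K * s⁻¹) := by rw [hUd]; group
      _ = s * d * s⁻¹ * (e * zz K) := by rw [hse]
      _ = s * d * s⁻¹ * e * zz K := by group
  -- `(s d s⁻¹)⁻¹ d ∈ O`
  have hO : (s * d * s⁻¹)⁻¹ * d ∈ O := by
    rcases hor with h1 | h1
    · exact O.mul_mem (O.inv_mem (hsc d h1)) h1
    · have h2 := O.mul_mem (O.inv_mem (hsc _ h1)) h1
      have h3 : (s * (z * d) * s⁻¹)⁻¹ * (z * d) = (s * d * s⁻¹)⁻¹ * d := by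
        calc (s * (z * d) * s⁻¹)⁻¹ * (z * d) = ((s * z) * d * s⁻¹)⁻¹ * (z * d) := by group
          _ = ((z * s) * d * s⁻¹)⁻¹ * (z * d) := by rw [hsz]
          _ = (s * d * s⁻¹)⁻¹ * (z⁻¹ * z) * d := by group
          _ = _ := by rw [inv_mul_cancel, mul_one]
      rwa [h3] at h2
  constructor
  · intro hc
    have h1 : s * zz U * s⁻¹ = zz U := by rw [hc]; group
    rw [hsU] at h1
    rw [hUd] at h1
    have h2 := mul_right_cancel h1
    have h3 : (s * d * s⁻¹)⁻¹ * (s * d * s⁻¹ * e) = e := by group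
    rw [h2] at h3
    rw [← h3]
    exact hO
  · intro heO
    by_contra hc
    rcases h.cj_or S.isPGroup' hU hV hne (le_normalizer hs) with ⟨h1, -⟩ | ⟨h1, -⟩
    · exact hc ((h.cj_eq_iff hU.1).1 h1)
    · have h2 : s * zz U * s⁻¹ = z * zz U := by
        rw [← h.hyp.zz_cj hU.1, h1, hzd, hz, hP'.comm h.hyp, mul_assoc, h.hyp.zz_mul hU.1, mul_one]
      rw [hsU, hUd, ← mul_assoc] at h2
      have h3 := mul_right_cancel h2
      have h4 : e = (s * d * s⁻¹)⁻¹ * (z * d) := by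
        have h5 : (s * d * s⁻¹)⁻¹ * (s * d * s⁻¹ * e) = e := by group
        rw [h3] at h5
        exact h5.symm
      have h5 : z * (s * d * s⁻¹) = s * (z * d) * s⁻¹ := by
        calc z * (s * d * s⁻¹) = (z * s) * d * s⁻¹ := by group
          _ = (s * z) * d * s⁻¹ := by rw [hsz]
          _ = _ := by group
      -- `z e ∈ O`
      have hgd : d * z = z * d := by
        have e1 : Commute g z := hgz
        have e2 : Commute (zz K) z := by
          rw [hzd]
          have e3 : Commute (zz K) (zz L) := hP.comm h.hyp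
          exact (Commute.refl _).mul_right e3
        rw [hd]
        exact (((e1.mul_left e2).mul_left e1.inv_left).mul_left e2).eq
      have hsdz : (s * d * s⁻¹) * z = z * (s * d * s⁻¹) := by
        have e1 : Commute s z := hsz
        have e2 : Commute d z := hgd
        exact ((e1.mul_left e2).mul_left e1.inv_left).eq
      have h6 : z * e = (s * d * s⁻¹)⁻¹ * d := by
        have e1 : Commute (s * d * s⁻¹) z := hsdz
        rw [h4]
        calc z * ((s * d * s⁻¹)⁻¹ * (z * d)) = (z * (s * d * s⁻¹)⁻¹) * (z * d) := by group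
          _ = ((s * d * s⁻¹)⁻¹ * z) * (z * d) := by rw [e1.inv_left.eq]
          _ = (s * d * s⁻¹)⁻¹ * (z * z) * d := by group
          _ = _ := by rw [hz2, mul_one]
      have h7 : z ∈ O := by
        have h8 := O.mul_mem hO (O.inv_mem heO)
        rwa [← h6, mul_inv_cancel_right] at h8
      have h9 : orderOf z = 2 := orderOf_eq_prime (by rw [pow_two]; exact hz2) hz1
      have h10 : orderOf z ∣ Nat.card O := by
        have := orderOf_dvd_natCard (⟨z, h7⟩ : O)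
        rwa [← Subgroup.orderOf_coe] at this
      rw [h9] at h10
      exact (Nat.not_even_iff_odd.2 co.odd) (even_iff_two_dvd.2 h10)

end Core

namespace LPiece

variable [Finite G]

theorem exists_core (hL : LPiece Om LL) (h : Two Om) (h0 : Tw0 Om LL) (hP : Pt Om K L) :
    ∃ O : Subgroup G, Core K L O := by
  obtain ⟨z, hzd⟩ : ∃ z, z = zz K * zz L := ⟨_, rfl⟩
  have hzZ : z ∈ ZZ Om := ⟨K, L, hP, hzd⟩
  have hz2 : z * z = 1 := h.ZZ_mul_self hzZ
  have hz1 : z ≠ 1 := h.ZZ_ne_one hzZ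
  have hK2 := h.hyp.zz_mul hP.left
  have hKz : zz K * z = z * zz K := by
    rw [hzd]
    have e3 : Commute (zz K) (zz L) := hP.comm h.hyp
    exact ((Commute.refl _).mul_right e3).eq
  obtain ⟨O, hO, hodd, hconj, hor⟩ := zstar_mod (C := centralizer {z}) (z := z) (t := zz K)
    (mem_centralizer_singleton_iff.2 rfl) (fun c hc => mem_centralizer_singleton_iff.1 hc) hz2 hz1
    (mem_centralizer_singleton_iff.2 hKz) hK2 (h.hyp.zz_ne hP.left)
    (fun h1 => h.disj hP.left (by rw [h1]; exact hzZ)) (by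
      intro g hg hgc
      have hgz := mem_centralizer_singleton_iff.1 hg
      set x := g * zz K * g⁻¹ with hx
      have hx2 : x * x = 1 := by
        calc x * x = g * (zz K * zz K) * g⁻¹ := by rw [hx]; group
          _ = 1 := by rw [hK2]; group
      have hxz : x * z = z * x := by
        have e1 : Commute g z := hgz
        have e2 : Commute (zz K) z := hKz
        exact ((e1.mul_left e2).mul_left e1.inv_left).eq
      have hKi := h.hyp.zz_inv hP.left
      -- `B = ⟨x, z⟩` is normalised by `z_K`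
      set B : Subgroup G := zpowers x ⊔ zpowers z with hB
      have hxB : x ∈ B := mem_sup_left (mem_zpowers x)
      have hzB : z ∈ B := mem_sup_right (mem_zpowers z)
      have hB2 : IsPGroup 2 B := by
        refine OneBasic.isPGroup_sup_of_normalizes (Two.isPGroup_zpowers_of_sq hx2)
          (Two.isPGroup_zpowers_of_sq hz2) (zpowers_le.2 ?_)
        apply OneBasic.mem_normalizer_of_cent
        rintro y ⟨k, rfl⟩
        exact ((show Commute x z from hxz).zpow_right k).eq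
      have hKx : zz K * x * (zz K)⁻¹ ∈ B := by
        rcases hgc with h1 | h1
        · rw [← h1]
          rw [mul_inv_cancel_right]; exact hxB
        · have h2 : zz K * x * (zz K)⁻¹ = z * x := by
            have h3 : z * (x * zz K) = zz K * x := by
              rw [h1, ← mul_assoc, hz2, one_mul]
            rw [← h3, ← mul_assoc, mul_inv_cancel_right]
          rw [h2]; exact B.mul_mem hzB hxB
      have hKB : zz K ∈ normalizer (B : Set G) := by
        rw [mem_normalizer_iff_cj]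
        apply Parab.cj_eq_of_le
        rw [cj_le_iff, hB, sup_le_iff, zpowers_le, zpowers_le, mem_cj, mem_cj, inv_inv]
        refine ⟨?_, ?_⟩
        · exact hKx
        · rw [hKz, mul_inv_cancel_right]; exact hzB
      have hA : IsPGroup 2 (zpowers (zz K) ⊔ B : Subgroup G) :=
        OneBasic.isPGroup_sup_of_normalizes (Two.isPGroup_zpowers_of_sq hK2) hB2 (zpowers_le.2 hKB)
      have hAz : ∀ a ∈ (zpowers (zz K) ⊔ B : Subgroup G), a * z = z * a := by
        have h1 : (zpowers (zz K) ⊔ B : Subgroup G) ≤ centralizer {z} := by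
          refine sup_le (zpowers_le.2 (mem_centralizer_singleton_iff.2 hKz))
            (sup_le (zpowers_le.2 (mem_centralizer_singleton_iff.2 hxz))
              (zpowers_le.2 (mem_centralizer_singleton_iff.2 rfl)))
        exact fun a ha => mem_centralizer_singleton_iff.1 (h1 ha)
      obtain ⟨S, U, V, hAS, hU, hV, hUV, hzUV⟩ := h.sylow_of_comm hzZ hA hAz
      have hP' : Pt Om U V := ⟨hUV, S, S.isPGroup', hU, hV⟩
      obtain ⟨c, hcU, hcV⟩ := h.pt_trans hP' hP
      have hcz : c * z = z * c := by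
        have h1 : z = c * z * c⁻¹ := by
          calc z = zz (Cit.cj c U) * zz (Cit.cj c V) := by rw [hcU, hcV, hzd]
            _ = c * (zz U * zz V) * c⁻¹ := by rw [h.hyp.zz_cj hP'.left, h.hyp.zz_cj hP'.right]; group
            _ = c * z * c⁻¹ := by rw [← hzUV]
        calc c * z = (c * z * c⁻¹) * c := by group
          _ = z * c := by rw [← h1]
      have hcK : c * zz U * c⁻¹ = zz K := by rw [← h.hyp.zz_cj hP'.left, hcU]
      have hKS : zz K ∈ (S : Subgroup G) := hAS (mem_sup_left (mem_zpowers _))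
      have hxS : x ∈ (S : Subgroup G) := hAS (mem_sup_right hxB)
      have h1 := hL.conj_eq_or h h0 S hU hV hUV (c := c) (by rw [← hzUV]; exact hcz) (by rw [hcK]; exact hKS)
      have hgcx : g * c * zz U * (g * c)⁻¹ = x := by
        calc g * c * zz U * (g * c)⁻¹ = g * (c * zz U * c⁻¹) * g⁻¹ := by group
          _ = x := by rw [hcK]
      have h2 := hL.conj_eq_or h h0 S hU hV hUV (c := g * c) (by
        rw [← hzUV]
        exact ((show Commute g z from hgz).mul_left (show Commute c z from hcz)).eq)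
        (by rw [hgcx]; exact hxS)
      rw [hcK] at h1
      rw [hgcx] at h2
      have hUV' := hP'.comm h.hyp
      have hU2 := h.hyp.zz_mul hU.1
      have hV2 := h.hyp.zz_mul hV.1
      rcases h1 with h1 | h1 <;> rcases h2 with h2 | h2
      · exact Or.inl (h2.trans h1.symm)
      · right
        rw [h1, h2, hzUV, hUV', mul_assoc, hU2, mul_one]
      · right
        rw [h1, h2, hzUV, mul_assoc, hV2, mul_one]
      · exact Or.inl (h2.trans h1.symm))
  refine ⟨O, hodd, ?_, ?_⟩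
  · intro c hc
    rw [← hzd] at hc
    exact hconj c (mem_centralizer_singleton_iff.2 hc)
  · intro c hc
    rw [← hzd] at hc ⊢
    exact hor c (mem_centralizer_singleton_iff.2 hc)

/-- (G7) -/
theorem comm_of_mem_ZZ (hL : LPiece Om LL) (h : Two Om) (h0 : Tw0 Om LL) (S : Sylow 2 G)
    (hK : K ∈ OmS Om (S : Subgroup G)) (hL' : L ∈ OmS Om (S : Subgroup G)) (hne : K ≠ L) {y : G}
    (hy : y ∈ ZZ Om) (hyS : y ∈ (S : Subgroup G)) : y * zz K = zz K * y := by
  by_contra hnc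
  obtain ⟨hyK, hyL⟩ : Cit.cj y K = L ∧ Cit.cj y L = K := by
    rcases h.cj_or S.isPGroup' hK hL' hne (le_normalizer hyS) with ⟨h1, -⟩ | h1
    · exact absurd ((h.cj_eq_iff hK.1).1 h1) hnc
    · exact h1
  have hP : Pt Om K L := ⟨hne, S, S.isPGroup', hK, hL'⟩
  obtain ⟨O, co⟩ := hL.exists_core h h0 hP
  have hy2 := h.ZZ_mul_self hy
  obtain ⟨q, hq, hq4⟩ := h.hyp.exists_four S.isPGroup' hK
  have hqq := h.hyp.sq_eq_zz hK.1 hq.1 hq4
  have hq'L : y * q * y⁻¹ ∈ L ⊓ (S : Subgroup G) := by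
    refine ⟨?_, Subgroup.mul_mem _ (Subgroup.mul_mem _ hyS hq.2) (Subgroup.inv_mem _ hyS)⟩
    rw [← hyK]; exact conj_mem_cj hq.1
  have hqc : q * (y * q * y⁻¹) = y * q * y⁻¹ * q := h.hyp.comm S.isPGroup' hK hL' hne hq hq'L
  obtain ⟨v, hv⟩ : ∃ v, v = q * (y * q * y⁻¹) := ⟨_, rfl⟩
  have hvS : v ∈ (S : Subgroup G) := by rw [hv]; exact Subgroup.mul_mem _ hq.2 hq'L.2
  have hvv : v * v = zz K * zz L := by
    calc v * v = q * ((y * q * y⁻¹) * q) * (y * q * y⁻¹) := by rw [hv]; group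
      _ = (q * q) * (y * (q * q) * y⁻¹) := by rw [← hqc]; group
      _ = zz K * zz L := by rw [hqq, ← h.hyp.zz_cj hK.1, hyK]
  have hyv : v * y = y * v := by
    have h1 : y * v * y⁻¹ = v := by
      calc y * v * y⁻¹ = (y * q * y⁻¹) * ((y * y) * q * (y * y)⁻¹) := by rw [hv]; group
        _ = (y * q * y⁻¹) * q := by rw [hy2]; group
        _ = v := by rw [hv, hqc]
    calc v * y = (y * v * y⁻¹) * y := by rw [h1]
      _ = y * v := by group
  obtain ⟨S', U, V, hAS, hU, hV, hUV, hyUV⟩ := h.sylow_of_comm hy (A := zpowers v)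
    (isPGroup_zpowers S.isPGroup' hvS) (by
      rintro a ⟨k, rfl⟩
      exact ((show Commute v y from hyv).zpow_left k).eq)
  have hvS' : v ∈ (S' : Subgroup G) := hAS (mem_zpowers v)
  obtain ⟨hzU, hzV⟩ : (zz K * zz L) * zz U = zz U * (zz K * zz L) ∧
      (zz K * zz L) * zz V = zz V * (zz K * zz L) := by
    rw [← hvv, ← h.cj_eq_iff hU.1, ← h.cj_eq_iff hV.1, cj_mul, cj_mul]
    rcases h.cj_or S'.isPGroup' hU hV hUV (le_normalizer hvS') with ⟨h1, h2⟩ | ⟨h1, h2⟩
    · exact ⟨by rw [h1, h1], by rw [h2, h2]⟩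
    · exact ⟨by rw [h1, h2], by rw [h2, h1]⟩
  have hzZ : zz K * zz L ∈ ZZ Om := ⟨K, L, hP, rfl⟩
  obtain ⟨S₂, U₂, V₂, hA₂, hU₂, hV₂, hUV₂, hz₂⟩ := h.sylow_of_comm hzZ
    (A := (S' : Subgroup G) ⊓ centralizer {zz K * zz L}) (S'.isPGroup'.to_le inf_le_left)
    (fun a ha => mem_centralizer_singleton_iff.1 ha.2)
  have hUS₂ : zz U ∈ (S₂ : Subgroup G) :=
    hA₂ ⟨(h.hyp.zz_mem_inf S'.isPGroup' hU).2, mem_centralizer_singleton_iff.2 hzU.symm⟩
  have hVS₂ : zz V ∈ (S₂ : Subgroup G) :=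
    hA₂ ⟨(h.hyp.zz_mem_inf S'.isPGroup' hV).2, mem_centralizer_singleton_iff.2 hzV.symm⟩
  have e1 := (co.iff h hP S₂ hU₂ hV₂ hUV₂ hz₂ hUS₂).1 (hL.comm_of_mem h h0 S₂ hU₂ hV₂ hUV₂ hU.1 hUS₂)
  have e2 := (co.iff h hP S₂ hU₂ hV₂ hUV₂ hz₂ hVS₂).1 (hL.comm_of_mem h h0 S₂ hU₂ hV₂ hUV₂ hV.1 hVS₂)
  have e3 := O.mul_mem (co.conj _ hzU.symm _ e2) e1
  have e4 : zz U * (zz V * zz K * (zz V)⁻¹ * zz K) * (zz U)⁻¹ * (zz U * zz K * (zz U)⁻¹ * zz K) =
      y * zz K * y⁻¹ * zz K := by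
    rw [hyUV]
    calc zz U * (zz V * zz K * (zz V)⁻¹ * zz K) * (zz U)⁻¹ * (zz U * zz K * (zz U)⁻¹ * zz K) =
        zz U * zz V * zz K * (zz V)⁻¹ * (zz K * zz K) * (zz U)⁻¹ * zz K := by group
      _ = _ := by rw [h.hyp.zz_mul hK.1]; group
  rw [e4] at e3
  exact hnc ((co.iff h hP S hK hL' hne rfl hyS).2 e3)

/-- an element swapping the two members of `Om(S)` centralises no `z_J ∈ S` -/
theorem swap_false (hL : LPiece Om LL) (h : Two Om) (h0 : Tw0 Om LL) (S : Sylow 2 G)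
    (hK : K ∈ OmS Om (S : Subgroup G)) (hL' : L ∈ OmS Om (S : Subgroup G)) (hne : K ≠ L) (hJ : J ∈ Om)
    (hJS : zz J ∈ (S : Subgroup G)) {u : G} (huS : u ∈ (S : Subgroup G)) (hu : u * zz J = zz J * u) :
    u * zz K = zz K * u := by
  by_contra hnc
  obtain ⟨huK, huL⟩ : Cit.cj u K = L ∧ Cit.cj u L = K := by
    rcases h.cj_or S.isPGroup' hK hL' hne (le_normalizer huS) with ⟨h1, -⟩ | h1
    · exact absurd ((h.cj_eq_iff hK.1).1 h1) hnc
    · exact h1
  have hP : Pt Om K L := ⟨hne, S, S.isPGroup', hK, hL'⟩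
  have hJK := hL.comm_of_mem h h0 S hK hL' hne hJ hJS
  have hJL := hL.comm_of_mem h h0 S hL' hK hne.symm hJ hJS
  have f := fr_of_sylow h S hK hL' hne
  have hJT : zz J ∈ (S : Subgroup G) ⊓ centralizer {zz K} := ⟨hJS, mem_centralizer_singleton_iff.2 hJK⟩
  have huJ : u * zz J * u⁻¹ = zz J := by rw [hu]; group
  have key : ∀ {A B : Subgroup G}, A ∈ Om → Cit.cj u A = B → zz J ∈ LL A → zz J ∈ LL B := by
    intro A B hA hAB hm
    rw [← hAB, hL.cj A hA, ← huJ]
    exact conj_mem_cj hm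
  rcases hL.mem_or h h0 hP hJ hJK hJL with h1 | h1
  · exact h.hyp.zz_ne hJ (hL.eq_one_of_mem_inf h f h1 (key hK.1 huK h1) hJT)
  · exact h.hyp.zz_ne hJ (hL.eq_one_of_mem_inf h f (key hL'.1 huL h1) h1 hJT)

/-- (G8) -/
theorem comm_of_conj (hL : LPiece Om LL) (h : Two Om) (h0 : Tw0 Om LL) (S : Sylow 2 G)
    (hK : K ∈ OmS Om (S : Subgroup G)) (hL' : L ∈ OmS Om (S : Subgroup G)) (hne : K ≠ L) {u g : G}
    (hu : u ∈ (S : Subgroup G)) (hg : g * u * g⁻¹ * zz K = zz K * (g * u * g⁻¹)) : u * zz K = zz K * u := by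
  have hP : Pt Om K L := ⟨hne, S, S.isPGroup', hK, hL'⟩
  obtain ⟨O, co⟩ := hL.exists_core h h0 hP
  have hzZ : zz K * zz L ∈ ZZ Om := ⟨K, L, hP, rfl⟩
  have hzu : u * (zz K * zz L) = zz K * zz L * u := h.comm_mul S.isPGroup' hK hL' hne (le_normalizer hu)
  have hKS := (h.hyp.zz_mem_inf S.isPGroup' hK).2
  have hLS := (h.hyp.zz_mem_inf S.isPGroup' hL').2
  -- `R` Sylow in `C(u)` containing `u`, `z`
  obtain ⟨R, hR, hSR⟩ := OneBasic.exists_syl_ge (A := (S : Subgroup G) ⊓ centralizer {u}) (M := centralizer {u})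
    (S.isPGroup'.to_le inf_le_left) inf_le_right
  have huR : u ∈ R := hSR ⟨hu, mem_centralizer_singleton_iff.2 rfl⟩
  have hzR : zz K * zz L ∈ R := hSR ⟨Subgroup.mul_mem _ hKS hLS, mem_centralizer_singleton_iff.2 hzu.symm⟩
  set d := g⁻¹ * zz K * g with hd
  have hdJ : zz (Cit.cj g⁻¹ K) = d := by rw [h.hyp.zz_cj hK.1, inv_inv]
  have hdu : d * u = u * d := by
    calc d * u = g⁻¹ * (zz K * (g * u * g⁻¹)) * g := by rw [hd]; group
      _ = g⁻¹ * (g * u * g⁻¹ * zz K) * g := by rw [hg]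
      _ = u * d := by rw [hd]; group
  have hd2 : d * d = 1 := by rw [← hdJ]; exact h.hyp.zz_mul (h.hyp.conj K hK.1 _)
  obtain ⟨R', hR', hdR'⟩ := OneBasic.exists_syl_ge (A := zpowers d) (M := centralizer {u})
    (Two.isPGroup_zpowers_of_sq hd2) (zpowers_le.2 (mem_centralizer_singleton_iff.2 hdu))
  obtain ⟨c, hc, hcR⟩ := hR'.exists_conj hR
  have hcu := mem_centralizer_singleton_iff.1 hc
  set J := Cit.cj (c * g⁻¹) K with hJ
  have hJm : J ∈ Om := h.hyp.conj K hK.1 _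
  have hJz : zz J = c * d * c⁻¹ := by rw [hJ, h.hyp.zz_cj hK.1, hd]; group
  have hJR : zz J ∈ R := by
    rw [hJz, ← hcR]
    exact conj_mem_cj (hdR' (mem_zpowers d))
  have hJu : u * zz J = zz J * u := (mem_centralizer_singleton_iff.1 (hR.1 hJR)).symm
  obtain ⟨S₁, hS₁⟩ := hR.2.1.exists_le_sylow
  obtain ⟨U, V, hUV, hUVe⟩ := Set.ncard_eq_two.1 (h.two S₁)
  have hU : U ∈ OmS Om (S₁ : Subgroup G) := by rw [hUVe]; simp
  have hV : V ∈ OmS Om (S₁ : Subgroup G) := by rw [hUVe]; simp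
  have huU : u * zz U = zz U * u := hL.swap_false h h0 S₁ hU hV hUV hJm (hS₁ hJR) (hS₁ huR) hJu
  have hzU : zz K * zz L * zz U = zz U * (zz K * zz L) := hL.comm_of_mem_ZZ h h0 S₁ hU hV hUV hzZ (hS₁ hzR)
  obtain ⟨S₂, U₂, V₂, hA₂, hU₂, hV₂, hUV₂, hz₂⟩ := h.sylow_of_comm hzZ
    (A := (S₁ : Subgroup G) ⊓ centralizer {zz K * zz L}) (S₁.isPGroup'.to_le inf_le_left)
    (fun a ha => mem_centralizer_singleton_iff.1 ha.2)
  have huS₂ : u ∈ (S₂ : Subgroup G) := hA₂ ⟨hS₁ huR, mem_centralizer_singleton_iff.2 hzu⟩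
  have hUS₂ : zz U ∈ (S₂ : Subgroup G) :=
    hA₂ ⟨(h.hyp.zz_mem_inf S₁.isPGroup' hU).2, mem_centralizer_singleton_iff.2 hzU.symm⟩
  have h2 : u * zz U₂ = zz U₂ * u := hL.swap_false h h0 S₂ hU₂ hV₂ hUV₂ hU.1 hUS₂ huS₂ huU
  exact (co.iff h hP S hK hL' hne rfl hu).2 ((co.iff h hP S₂ hU₂ hV₂ hUV₂ hz₂ huS₂).1 h2)

/-- **case B with trivial twist**: `G` has a normal subgroup of index two -/
theorem exists_index_two (hL : LPiece Om LL) (h : Two Om) (h0 : Tw0 Om LL) :
    ∃ N : Subgroup G, N.Normal ∧ N.index = 2 := by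
  haveI : Fact (Nat.Prime 2) := ⟨Nat.prime_two⟩
  obtain ⟨S⟩ : Nonempty (Sylow 2 G) := inferInstance
  obtain ⟨K, L, hne, hKL⟩ := Set.ncard_eq_two.1 (h.two S)
  have hK : K ∈ OmS Om (S : Subgroup G) := by rw [hKL]; simp
  have hL' : L ∈ OmS Om (S : Subgroup G) := by rw [hKL]; simp
  have hrel := relIndex_two h S hK hL' hne
  set D := (S : Subgroup G) ⊓ centralizer {zz K} with hD
  have hmem : ∀ x ∈ (S : Subgroup G), (x ∈ D ↔ x * zz K = zz K * x) := by
    intro x hx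
    rw [hD, mem_inf, mem_centralizer_singleton_iff]
    exact ⟨fun h1 => h1.2, fun h1 => ⟨hx, h1⟩⟩
  obtain ⟨N, hN, hi, -⟩ := TwoFusion.TransferIndex.exists_normal_of_fusion S D inf_le_left (by
    intro s hs g hg
    have hs' : s ∈ (S : Subgroup G) := hs
    have hg' : g * s * g⁻¹ ∈ (S : Subgroup G) := hg
    have h1 : s ∈ D ↔ g * s * g⁻¹ ∈ D := by
      rw [hmem s hs', hmem _ hg']
      constructor
      · intro h2
        refine hL.comm_of_conj h h0 S hK hL' hne (g := g⁻¹) hg' ?_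
        have h3 : g⁻¹ * (g * s * g⁻¹) * g⁻¹⁻¹ = s := by group
        rw [h3]; exact h2
      · intro h2
        exact hL.comm_of_conj h h0 S hK hL' hne hs' h2
    have h3 := mul_mem_iff_of_index_two (H := D.subgroupOf (S : Subgroup G)) hrel
      (a := ⟨s⁻¹, Subgroup.inv_mem _ hs'⟩) (b := ⟨g * s * g⁻¹, hg'⟩)
    have h4 : s⁻¹ * (g * s * g⁻¹) ∈ D ↔ (s⁻¹ ∈ D ↔ g * s * g⁻¹ ∈ D) := h3
    rw [h4, inv_mem_iff]
    exact h1)
  exact ⟨N, hN, hi.trans hrel⟩

/-- **case B**: if `G` has no normal subgroup of index two, then `Tw Om` -/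
theorem tw_of_index (hL : LPiece Om LL) (h : Two Om) (hO : OutP Om LL) (hni : ¬ Iso Om)
    (hG : ∀ N : Subgroup G, N.Normal → N.index ≠ 2) : Tw Om := by
  rcases hL.dichotomy h with h0 | h1
  · obtain ⟨N, hN, hi⟩ := hL.exists_index_two h ⟨h0, hO⟩
    exact absurd hi (hG N hN)
  · exact hL.toTw h hni h1

end LPiece

end Cfsg.Agent.Cit.TwoB
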