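import Mathlib

/-!
# The facts on the simple groups `L₃(q)`, `U₃(q)`, `M₁₁`, `G₂(q)`, `³D₄(q)` used in `|Om(S)| = 2`, `z₁ ≠ z₂`
-/

set_option autoImplicit false

namespace Cfsg.Agent.Cit.TwoB

open Subgroup

/-- facts on a simple group `L`, its standard subgroup `K0` (`SL₂(q)`, or `Q₈` for `M₁₁`) and the involution `z0` of
`K0` -/
structure LFact (L : Type*) [Group L] (K0 : Subgroup L) (z0 : L) : Prop where
  sq : z0 * z0 = 1
  ne : z0 ≠ 1
  /-- (F2) one class of involutions -/
  one : ∀ s t : L, s * s = 1 → s ≠ 1 → t * t = 1 → t ≠ 1 → ∃ g, g * s * g⁻¹ = t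
  /-- (F3) an involutory automorphism trivial on `K0` is inner, induced by `z0` -/
  inn : ∀ a : MulAut L, a * a = 1 → (∀ x ∈ K0, a x = x) → a = 1 ∨ a = MulAut.conj z0
  /-- (F4) an outer involutory automorphism fixing `z0` fixes a four-group containing `z0` -/
  out : ∀ a : MulAut L, a * a = 1 → (∀ l, a ≠ MulAut.conj l) → a z0 = z0 →
    ∃ t, t * t = 1 ∧ t ≠ 1 ∧ t ≠ z0 ∧ t * z0 = z0 * t ∧ a t = t
  /-- (F5) the 2-rank is at least two -/
  four : ∃ t, t * t = 1 ∧ t ≠ 1 ∧ t ≠ z0 ∧ t * z0 = z0 * t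
  /-- `O(K0) = 1` -/
  core : ∀ N : Subgroup L, N ≤ K0 → K0 ≤ normalizer (N : Set L) → Odd (Nat.card N) → N = ⊥

/-- `K0` is generated by its 2-elements -/
def Gen2 {L : Type*} [Group L] (K0 : Subgroup L) : Prop :=
  ∀ H : Subgroup L, (∀ x ∈ K0, (∃ n : ℕ, x ^ 2 ^ n = 1) → x ∈ H) → K0 ≤ H

/-- the ordered pairs of distinct commuting involutions are conjugate (`L₃(q)`, `U₃(q)`, `M₁₁`) -/
def LPair (L : Type*) [Group L] : Prop :=
  ∀ s t s' t' : L, s * s = 1 → s ≠ 1 → t * t = 1 → t ≠ 1 → s ≠ t → s * t = t * s →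
    s' * s' = 1 → s' ≠ 1 → t' * t' = 1 → t' ≠ 1 → s' ≠ t' → s' * t' = t' * s' →
    ∃ g, g * s * g⁻¹ = s' ∧ g * t * g⁻¹ = t'

/-- `z0` lies in an elementary abelian subgroup of order 8 (`G₂(q)`, `³D₄(q)`) -/
def LEight {L : Type*} [Group L] (z0 : L) : Prop :=
  ∃ E : Subgroup L, z0 ∈ E ∧ Nat.card E = 8 ∧ (∀ x ∈ E, x * x = 1)

variable {L L' : Type*} [Group L] [Group L'] {K0 K1 : Subgroup L} {z0 : L}

theorem LFact.mono (h : LFact L K0 z0) (hle : K0 ≤ K1)
    (hcore : ∀ N : Subgroup L, N ≤ K1 → K1 ≤ normalizer (N : Set L) → Odd (Nat.card N) → N = ⊥) :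
    LFact L K1 z0 :=
  ⟨h.sq, h.ne, h.one, fun a ha hx => h.inn a ha fun x hx' => hx x (hle hx'), h.out, h.four, hcore⟩

theorem LPair.of_equiv (e : L ≃* L') (h : LPair L) : LPair L' := by
  intro s t s' t' hs hs1 ht ht1 hst hc hs' hs1' ht' ht1' hst' hc'
  obtain ⟨g, h1, h2⟩ := h (e.symm s) (e.symm t) (e.symm s') (e.symm t')
    (by rw [← map_mul, hs, map_one]) (by simpa using hs1) (by rw [← map_mul, ht, map_one])
    (by simpa using ht1) (by simpa using hst) (by rw [← map_mul, hc, map_mul])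
    (by rw [← map_mul, hs', map_one]) (by simpa using hs1') (by rw [← map_mul, ht', map_one])
    (by simpa using ht1') (by simpa using hst') (by rw [← map_mul, hc', map_mul])
  refine ⟨e g, ?_, ?_⟩
  · apply e.symm.injective
    rw [map_mul, map_mul, map_inv, e.symm_apply_apply, h1]
  · apply e.symm.injective
    rw [map_mul, map_mul, map_inv, e.symm_apply_apply, h2]

theorem LEight.of_equiv (e : L ≃* L') (h : LEight z0) : LEight (e z0) := by
  obtain ⟨E, h1, h2, h3⟩ := h
  refine ⟨E.map e.toMonoidHom, ⟨z0, h1, rfl⟩, ?_, ?_⟩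
  · rw [← h2]
    exact (Nat.card_congr (E.equivMapOfInjective e.toMonoidHom e.injective).toEquiv).symm
  · rintro _ ⟨x, hx, rfl⟩
    show e x * e x = 1
    rw [← map_mul, h3 x hx, map_one]

theorem Gen2.of_equiv (e : L ≃* L') (h : Gen2 K0) : Gen2 (K0.map e.toMonoidHom) := by
  intro H hH
  rw [map_le_iff_le_comap]
  refine h _ fun x hx hn => hH _ ⟨x, hx, rfl⟩ ?_
  obtain ⟨n, hn⟩ := hn
  exact ⟨n, by show e x ^ 2 ^ n = 1; rw [← map_pow, hn, map_one]⟩

theorem LFact.of_equiv (e : L ≃* L') (h : LFact L K0 z0) : LFact L' (K0.map e.toMonoidHom) (e z0) where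
  sq := by rw [← map_mul, h.sq, map_one]
  ne := by simpa using h.ne
  one := by
    intro s t hs hs1 ht ht1
    obtain ⟨g, hg⟩ := h.one (e.symm s) (e.symm t) (by rw [← map_mul, hs, map_one]) (by simpa using hs1)
      (by rw [← map_mul, ht, map_one]) (by simpa using ht1)
    refine ⟨e g, ?_⟩
    apply e.symm.injective
    rw [map_mul, map_mul, map_inv, e.symm_apply_apply, hg]
  inn := by
    intro a ha hx
    obtain ⟨b, hb⟩ : ∃ b : MulAut L, ∀ x, b x = e.symm (a (e x)) :=
      ⟨(e.trans a).trans e.symm, fun x => rfl⟩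
    have hb2 : b * b = 1 := by
      ext x
      show b (b x) = x
      rw [hb, hb, e.apply_symm_apply]
      have h1 : a (a (e x)) = e x := congrArg (fun f : MulAut L' => f (e x)) ha
      rw [h1, e.symm_apply_apply]
    rcases h.inn b hb2 (fun x hx' => by
      rw [hb, hx (e x) ⟨x, hx', rfl⟩, e.symm_apply_apply]) with h1 | h1
    · left
      ext y
      have h2 := congrArg (fun f : MulAut L => f (e.symm y)) h1
      simp only [hb, e.apply_symm_apply, MulAut.one_apply] at h2
      exact e.symm.injective h2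
    · right
      ext y
      have h2 := congrArg (fun f : MulAut L => f (e.symm y)) h1
      simp only [hb, e.apply_symm_apply, MulAut.conj_apply] at h2
      apply e.symm.injective
      rw [h2, MulAut.conj_apply, map_mul, map_mul, map_inv, e.symm_apply_apply]
  out := by
    intro a ha hl haz
    obtain ⟨b, hb⟩ : ∃ b : MulAut L, ∀ x, b x = e.symm (a (e x)) :=
      ⟨(e.trans a).trans e.symm, fun x => rfl⟩
    have hb2 : b * b = 1 := by
      ext x
      show b (b x) = x
      rw [hb, hb, e.apply_symm_apply]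
      have h1 : a (a (e x)) = e x := congrArg (fun f : MulAut L' => f (e x)) ha
      rw [h1, e.symm_apply_apply]
    obtain ⟨t, t1, t2, t3, t4, t5⟩ := h.out b hb2 (by
      intro l h1
      apply hl (e l)
      ext y
      have h2 := congrArg (fun f : MulAut L => f (e.symm y)) h1
      simp only [hb, e.apply_symm_apply, MulAut.conj_apply] at h2
      apply e.symm.injective
      rw [h2, MulAut.conj_apply, map_mul, map_mul, map_inv, e.symm_apply_apply])
      (by rw [hb, haz, e.symm_apply_apply])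
    refine ⟨e t, by rw [← map_mul, t1, map_one], by simpa using t2, fun h1 => t3 (e.injective h1),
      by rw [← map_mul, t4, map_mul], ?_⟩
    apply e.symm.injective
    rw [← hb, t5, e.symm_apply_apply]
  four := by
    obtain ⟨t, t1, t2, t3, t4⟩ := h.four
    exact ⟨e t, by rw [← map_mul, t1, map_one], by simpa using t2, fun h1 => t3 (e.injective h1),
      by rw [← map_mul, t4, map_mul]⟩
  core := by
    intro N hN hn hodd
    have h1 : N.comap e.toMonoidHom = ⊥ := by
      refine h.core _ ?_ ?_ ?_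
      · intro x hx
        obtain ⟨y, hy, hxy⟩ := hN hx
        rwa [← e.injective hxy]
      · intro x hx
        have h2 := hn (mem_map_of_mem e.toMonoidHom hx)
        rw [mem_normalizer_iff] at h2 ⊢
        intro y
        rw [mem_comap, mem_comap, map_mul, map_mul, map_inv]
        exact h2 _
      · rwa [← Nat.card_congr (MulEquiv.subgroupCongr (map_comap_eq_self_of_surjective
          (f := e.toMonoidHom) e.surjective N)).toEquiv, ← Nat.card_congr
          ((N.comap e.toMonoidHom).equivMapOfInjective e.toMonoidHom e.injective).toEquiv] at hodd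
    rw [← map_comap_eq_self_of_surjective (f := e.toMonoidHom) e.surjective N, h1, Subgroup.map_bot]

/-- conjugation -/
theorem LFact.cj (h : LFact L K0 z0) (g : L) :
    LFact L (K0.map (MulAut.conj g).toMonoidHom) (g * z0 * g⁻¹) :=
  h.of_equiv (MulAut.conj g)

end Cfsg.Agent.Cit.TwoB
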