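import Cfsg.Agent.Cit.TwoB.PieceX
import Cfsg.Agent.Cit.Types

/-!
# `Z(D) = 1` for quasisimple groups with `|Om(S)| = 1`: statements and tools

`CycCent L K0 z0` (`L₃(q)`, `U₃(q)`, `M₁₁`): `C_L(z0) / K0` is cyclic. `TwoFac L K1 K2 z0` (`G₂(q)`, `³D₄(q)`):
`C_L(z0) / K1 K2` is cyclic, `[K1, K2] = 1`, `K2` has quaternion Sylow 2-subgroups.

For `h : QOne Om` (`D` quasisimple, `Z(D)` a 2-group, `|Om(S)| = 1`), `π : D → D / Z(D)`:
* `QOne.comm_of_img` : `[x, z_J] ∈ Z(D)` implies `[x, z_J] = 1`; `QOne.eq_one_of_mul` : the involutions of members are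
  unique modulo `Z(D)`;
* `QOne.center_le_commutator` : `Z(D) ≤ S'` for `S` of odd index (transfer).
-/

set_option autoImplicit false
set_option linter.style.haveILetI false
set_option linter.unusedSectionVars false

namespace Cfsg.Agent.Cit.TwoB

open Subgroup Cfsg

/-- `C_L(z0) / K0` is cyclic -/
def CycCent (L : Type*) [Group L] (K0 : Subgroup L) (z0 : L) : Prop :=
  ∃ g, g * z0 = z0 * g ∧ ∀ x, x * z0 = z0 * x → ∃ n : ℕ, x * g ^ n ∈ K0

/-- the centraliser of `z0` in `G₂(q)`, `³D₄(q)`: `(K1 * K2)⟨g⟩` -/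
structure TwoFac (L : Type*) [Group L] (K1 K2 : Subgroup L) (z0 : L) : Prop where
  comm : ∀ x ∈ K1, ∀ y ∈ K2, x * y = y * x
  cyc : ∃ g, g * z0 = z0 * g ∧ ∀ x, x * z0 = z0 * x → ∃ n : ℕ, ∃ a ∈ K1, ∃ b ∈ K2, x * g ^ n = a * b
  nml : ∀ x, x * z0 = z0 * x → ∀ y ∈ K2, x * y * x⁻¹ ∈ K2
  quat : HasQS K2
  uniq : ∀ t ∈ K2, orderOf t = 2 → t = z0
  one : ∀ s t : L, s * s = 1 → s ≠ 1 → t * t = 1 → t ≠ 1 → ∃ g, g * s * g⁻¹ = t

universe u

variable {X : Type u} [Group X] [Finite X] {Om : Set (Subgroup X)}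

/-- transfer: the central 2-elements of a perfect group lie in `S'` -/
theorem mem_commutator_of_center {G : Type*} [Group G] [Finite G] (hG : commutator G = ⊤) (P : Subgroup G)
    (hodd : ¬ 2 ∣ P.index) {z : G} (hz : z ∈ P) (hc : z ∈ center G) {a : ℕ} (hz2 : z ^ 2 ^ a = 1) :
    z ∈ ⁅P, P⁆ := by
  let V : G →* Abelianization P := MonoidHom.transfer (Abelianization.of)
  have h1 : V z = 1 := by
    have h0 : commutator G ≤ V.ker := Abelianization.commutator_subset_ker V
    exact h0 (hG ▸ mem_top z)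
  have h2 : V z = Abelianization.of ⟨z ^ P.index, Subgroup.pow_mem _ hz _⟩ := by
    have key : ∀ (k : ℕ) (g₀ : G), g₀⁻¹ * z ^ k * g₀ ∈ P → g₀⁻¹ * z ^ k * g₀ = z ^ k := by
      intro k g₀ _
      have h3 := mem_center_iff.1 ((center G).pow_mem hc k) g₀
      rw [mul_assoc, ← h3, inv_mul_cancel_left]
    exact MonoidHom.transfer_eq_pow _ z key
  rw [h1] at h2
  have h3 : (⟨z ^ P.index, Subgroup.pow_mem _ hz _⟩ : P) ∈ commutator P := by
    rw [← Abelianization.ker_of, MonoidHom.mem_ker]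
    exact h2.symm
  have h4 : z ^ P.index ∈ ⁅P, P⁆ := by
    rw [← Subgroup.map_subtype_commutator]
    exact ⟨_, h3, rfl⟩
  -- `z` is a power of `z ^ |G : P|`
  have h5 : (orderOf z).Coprime P.index := by
    have h6 : orderOf z ∣ 2 ^ a := orderOf_dvd_of_pow_eq_one hz2
    refine Nat.Coprime.coprime_dvd_left h6 (Nat.Coprime.pow_left a ?_)
    exact (Nat.Prime.coprime_iff_not_dvd Nat.prime_two).2 hodd
  obtain ⟨m, hm⟩ := exists_pow_eq_self_of_coprime h5.symm
  rw [← hm]
  exact Subgroup.pow_mem _ h4 m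

namespace QOne

theorem ne_one_comm (h : QOne Om) : commutator X = ⊤ := h.qs.1.commutator_eq_top

/-- the involutions of the members are unique modulo the centre -/
theorem eq_one_of_mul (h : QOne Om) {J J' : Subgroup X} (hJ : J ∈ Om) (hJ' : J' ∈ Om) {c : X}
    (hc : c ∈ center X) (he : zz J' = zz J * c) : J' = J ∧ c = 1 := by
  obtain ⟨Q, hQ⟩ := Hyp.exists_syl J
  have h1 : Q ≤ normalizer (J' : Set X) := by
    rw [← h.one.centralizer_zz hJ']
    intro x hx
    rw [mem_centralizer_singleton_iff, he]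
    have h2 : x * zz J = zz J * x := by
      have h3 : x ∈ centralizer {zz J} := by
        rw [h.one.centralizer_zz hJ]
        exact le_normalizer (hQ.1 hx)
      exact mem_centralizer_singleton_iff.1 h3
    calc x * (zz J * c) = (x * zz J) * c := by group
      _ = zz J * (x * c) := by rw [h2]; group
      _ = zz J * c * x := by rw [mem_center_iff.1 hc x]; group
  have h2 : J = J' := h.one.eq_of_le_normalizer hJ hJ' hQ h1
  subst h2
  refine ⟨rfl, ?_⟩
  have h3 : zz J * 1 = zz J * c := by rw [mul_one]; exact he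
  exact (mul_left_cancel h3).symm

/-- elements commuting with `z_J` modulo the centre commute with `z_J` -/
theorem comm_of_mem (h : QOne Om) {J : Subgroup X} (hJ : J ∈ Om) {x : X}
    (hx : x * zz J * x⁻¹ * (zz J)⁻¹ ∈ center X) : x * zz J = zz J * x := by
  have h1 := h.eq_one_of_mul hJ (h.one.hyp.conj J hJ x) (c := x * zz J * x⁻¹ * (zz J)⁻¹) hx (by
    rw [h.one.hyp.zz_cj hJ, mem_center_iff.1 hx (zz J)]
    group)
  have h2 := h1.2
  rw [mul_inv_eq_one, mul_inv_eq_iff_eq_mul] at h2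
  exact h2

theorem comm_of_img (h : QOne Om) {J : Subgroup X} (hJ : J ∈ Om) {x : X}
    (hx : QuotientGroup.mk' (center X) x * QuotientGroup.mk' (center X) (zz J) =
      QuotientGroup.mk' (center X) (zz J) * QuotientGroup.mk' (center X) x) : x * zz J = zz J * x := by
  apply h.comm_of_mem hJ
  rw [← QuotientGroup.ker_mk' (center X), MonoidHom.mem_ker, map_mul, map_mul, map_mul, hx, map_inv, map_inv]
  group

/-- a Sylow 2-subgroup of `C(z_J)` is one of `X` -/
theorem exists_sylow (h : QOne Om) {J : Subgroup X} (hJ : J ∈ Om) :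
    ∃ S : Subgroup X, S ≤ centralizer {zz J} ∧ IsPGroup 2 S ∧ ¬ 2 ∣ S.index ∧ center X ≤ S := by
  haveI : Fact (Nat.Prime 2) := ⟨Nat.prime_two⟩
  obtain ⟨S, hS, -⟩ := h.one.hyp.exists_sylow hJ
  refine ⟨S, ?_, S.isPGroup', S.not_dvd_index, ?_⟩
  · rw [h.one.centralizer_zz hJ]
    intro x hx
    rw [mem_normalizer_iff_cj]
    exact h.one.one S S.isPGroup' _ (cj_mem_OmS' h.one.hyp.conj (le_normalizer hx) hS) _ hS
  · have h1 : IsPGroup 2 (center X ⊔ (S : Subgroup X) : Subgroup X) :=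
      h.cen.to_sup_of_normal_left' S.isPGroup' (by
        rw [normalizer_eq_top]; exact le_top)
    have h2 := S.is_maximal' h1 le_sup_right
    rw [← h2]
    exact le_sup_left

end QOne

end Cfsg.Agent.Cit.TwoB
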