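import Cfsg.Agent.Cit.CoreTwoNe

/-!
# `|Om(S)| = 2`, `z₁ ≠ z₂`, back half: the twisted case; `G₂(q)`, `³D₄(q)` are impossible

`tw1` : `Tw1 Om LL`, `Tw Om` for simple `G`.  `not_eight` : `LEight (zz (JK Om K M))` is impossible.
-/

set_option autoImplicit false
set_option linter.style.haveILetI false
set_option linter.unusedSectionVars false

namespace Cfsg.Agent.Cit.TwoB

open Subgroup Cfsg UseT SubCent

universe u

variable {G : Type u} [Group G] [Finite G] {Om : Set (Subgroup G)} {K L M : Subgroup G}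

theorem index_ne_two (hm : MinS Om) (N : Subgroup G) : N.index ≠ 2 := by
  haveI := hm.simple
  obtain ⟨K, hK⟩ := hm.ne
  exact CoreOne.index_ne_two (OneLeafBase.not_isMulCommutative hm.hyp hK) N

/-- the twisted alternative holds -/
theorem tw1 {LL : Subgroup G → Subgroup G} (hm : MinS Om) (h : Two Om) (hL : LPiece Om LL) (hO : OutP Om LL) :
    Tw1 Om LL := by
  rcases hL.dichotomy h with h0 | h1
  · obtain ⟨N, hN, hi⟩ := hL.exists_index_two h ⟨h0, hO⟩
    exact absurd hi (index_ne_two hm N)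
  · exact h1

theorem tw {LL : Subgroup G → Subgroup G} (hm : MinS Om) (h : Two Om) (hni : ¬ Iso Om) (hL : LPiece Om LL)
    (hO : OutP Om LL) : Tw Om := hL.toTw h hni (tw1 hm h hL hO)

/-- an elementary abelian subgroup of order 8 contains a four-group avoiding a given involution -/
theorem exists_four_of_eight {X : Type*} [Group X] {E : Subgroup X} (hE : Nat.card E = 8)
    (h2 : ∀ x ∈ E, x * x = 1) {z : X} (hz : z ∈ E) (hz1 : z ≠ 1) : ∃ a ∈ E, ∃ b ∈ E, a ≠ 1 ∧ b ≠ 1 ∧ a ≠ b ∧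
      a ≠ z ∧ b ≠ z ∧ a * b ≠ z := by
  classical
  haveI : Finite E := Nat.finite_of_card_ne_zero (by rw [hE]; norm_num)
  have hE' : (E : Set X).ncard = 8 := by
    rw [← Nat.card_coe_set_eq]
    exact hE
  obtain ⟨a, ha, ha1⟩ : ∃ a ∈ E, a ∉ ({1, z} : Set X) := by
    by_contra hcon
    push Not at hcon
    have h3 : (E : Set X) ⊆ ({1, z} : Set X) := hcon
    have h4 := Set.ncard_le_ncard h3 (Set.toFinite _)
    rw [hE'] at h4
    have h5 : ({1, z} : Set X).ncard ≤ 2 := Set.ncard_insert_le _ _ |>.trans (by rw [Set.ncard_singleton])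
    omega
  obtain ⟨b, hb, hb1⟩ : ∃ b ∈ E, b ∉ ({1, z, a, a * z} : Set X) := by
    by_contra hcon
    push Not at hcon
    have h3 : (E : Set X) ⊆ ({1, z, a, a * z} : Set X) := hcon
    have h4 := Set.ncard_le_ncard h3 (Set.toFinite _)
    rw [hE'] at h4
    have h5 : ({1, z, a, a * z} : Set X).ncard ≤ 4 := by
      refine (Set.ncard_insert_le _ _).trans ?_
      have h6 := Set.ncard_insert_le z ({a, a * z} : Set X)
      have h7 := Set.ncard_insert_le a ({a * z} : Set X)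
      rw [Set.ncard_singleton] at h7
      omega
    omega
  simp only [Set.mem_insert_iff, Set.mem_singleton_iff, not_or] at ha1 hb1
  refine ⟨a, ha, b, hb, ha1.1, hb1.1, fun h => hb1.2.2.1 h.symm, ha1.2, hb1.2.1, fun h => hb1.2.2.2 ?_⟩
  rw [← h, ← mul_assoc, h2 a ha, one_mul]

variable (hm : MinS Om) (h : Two Om) (hni : ¬ Iso Om)
include hm h hni

/-- the piece does not contain an elementary abelian subgroup of order 8 containing `z_M` -/
theorem not_eight (hs : IsSimpleGroup (DK Om K)) (hL : LPiece Om (LLd Om)) (h1 : Tw1 Om (LLd Om)) (hP : Pt Om K M) :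
    ¬ LEight (zz (JK Om K M)) := by
  rintro ⟨E, hzE, hE8, hE2⟩
  have hK := hP.left
  have hep := epi hm h hni hK hs
  -- `φ` has odd kernel
  have hker : ¬ 2 ∣ Nat.card (phi hm h hni hK hs).ker := by
    intro h2
    haveI : Fact (Nat.Prime 2) := ⟨Nat.prime_two⟩
    obtain ⟨x, hx⟩ := exists_prime_orderOf_dvd_card' 2 h2
    have h3 : ((x : LLd Om K) : G) ∈ OO (CK K) := (hep.ker _ x.1.2).1 x.2
    have h4 : orderOf ((x : LLd Om K) : G) ∣ Nat.card (OO (CK K)) := by
      rw [← Nat.card_zpowers]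
      exact card_dvd_of_le (zpowers_le.2 h3)
    rw [Subgroup.orderOf_coe, Subgroup.orderOf_coe, hx] at h4
    exact odd_OO _ h4
  haveI : Fact (Nat.Prime 2) := ⟨Nat.prime_two⟩
  have hEp : IsPGroup 2 E := by
    rw [IsPGroup.iff_card]
    exact ⟨3, by rw [hE8]; norm_num⟩
  obtain ⟨T, hT, hTE⟩ := exists_lift hep.surj hEp
  have hinj := injOn_two hker hT
  have hz0 : phi hm h hni hK hs ⟨zz M, mem_sup_left (subset_closure ⟨M, hP, rfl⟩)⟩ = zz (JK Om K M) := by
    apply Subtype.ext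
    rw [coe_phi, zz_JK hm h hni hP]
  rw [← hTE] at hzE
  obtain ⟨z', hz'T, hz'⟩ := hzE
  have hsq : ∀ x ∈ T, x * x = 1 := by
    intro x hx
    have h2 : (phi hm h hni hK hs).comp T.subtype (⟨x, hx⟩ * ⟨x, hx⟩) = (phi hm h hni hK hs).comp T.subtype 1 := by
      rw [map_one, map_mul]
      exact hE2 _ (by rw [← hTE]; exact ⟨x, hx, rfl⟩)
    exact congrArg Subtype.val (hinj h2)
  have hzM2 : (⟨zz M, mem_sup_left (subset_closure ⟨M, hP, rfl⟩)⟩ : LLd Om K) *
      ⟨zz M, mem_sup_left (subset_closure ⟨M, hP, rfl⟩)⟩ = 1 := Subtype.ext (h.hyp.zz_mul hP.right)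
  obtain ⟨n, hn, hn2⟩ := exists_ker_conj hker (hsq z' hz'T) hzM2 (hz'.trans hz0.symm)
  -- a four-group in `T`
  have hz0ne : zz (JK Om K M) ≠ 1 := ((hyp_fam h.hyp hm.isType _).restr _).zz_ne (JK_mem hm h hni hP)
  obtain ⟨a, ha, b, hb, ha1, hb1, hab, haz, hbz, habz⟩ := exists_four_of_eight hE8 hE2
    (by rw [← hTE]; exact ⟨z', hz'T, hz'⟩) hz0ne
  rw [← hTE] at ha hb
  obtain ⟨a, haT, rfl⟩ := ha
  obtain ⟨b, hbT, rfl⟩ := hb
  have hcomm : ∀ x ∈ T, ∀ y ∈ T, x * y = y * x := by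
    intro x hx y hy
    have e1 := hsq _ (T.mul_mem hx hy)
    have e2 := hsq x hx
    have e3 := hsq y hy
    calc x * y = x⁻¹ * (x * x) * y := by group
      _ = x⁻¹ * y⁻¹ * (y * y) := by rw [e2]; group
      _ = (y * x)⁻¹ := by rw [e3]; group
      _ = y * x := by
        have e4 := hsq _ (T.mul_mem hy hx)
        exact inv_eq_of_mul_eq_one_left e4
  -- conjugate by `n`
  have hzM : ∀ x ∈ T, n * x * n⁻¹ * ⟨zz M, mem_sup_left (subset_closure ⟨M, hP, rfl⟩)⟩ =
      ⟨zz M, mem_sup_left (subset_closure ⟨M, hP, rfl⟩)⟩ * (n * x * n⁻¹) := by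
    intro x hx
    rw [← hn2]
    calc n * x * n⁻¹ * (n * z' * n⁻¹) = n * (x * z') * n⁻¹ := by group
      _ = n * (z' * x) * n⁻¹ := by rw [hcomm x hx z' hz'T]
      _ = _ := by group
  have hφ : ∀ x : LLd Om K, phi hm h hni hK hs (n * x * n⁻¹) = phi hm h hni hK hs x := by
    intro x
    rw [map_mul, map_mul, map_inv, MonoidHom.mem_ker.1 hn, one_mul, inv_one, mul_one]
  have hne : ∀ x y : LLd Om K, phi hm h hni hK hs x ≠ phi hm h hni hK hs y → (x : G) ≠ y := by
    intro x y hxy e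
    exact hxy (by rw [Subtype.ext e])
  refine hL.no_eight h h1 hP (n * a * n⁻¹ : LLd Om K).2 (n * b * n⁻¹ : LLd Om K).2 ?_ ?_ ?_ ?_ ?_ ?_ ?_ ?_ ?_ ?_ ?_
  · have e := hsq a haT
    have e2 : n * a * n⁻¹ * (n * a * n⁻¹) = 1 := by
      calc n * a * n⁻¹ * (n * a * n⁻¹) = n * (a * a) * n⁻¹ := by group
        _ = 1 := by rw [e]; group
    exact congrArg Subtype.val e2
  · have e := hsq b hbT
    have e2 : n * b * n⁻¹ * (n * b * n⁻¹) = 1 := by
      calc n * b * n⁻¹ * (n * b * n⁻¹) = n * (b * b) * n⁻¹ := by group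
        _ = 1 := by rw [e]; group
    exact congrArg Subtype.val e2
  · have e := hcomm a haT b hbT
    have e2 : n * a * n⁻¹ * (n * b * n⁻¹) = n * b * n⁻¹ * (n * a * n⁻¹) := by
      calc n * a * n⁻¹ * (n * b * n⁻¹) = n * (a * b) * n⁻¹ := by group
        _ = n * (b * a) * n⁻¹ := by rw [e]
        _ = _ := by group
    exact congrArg Subtype.val e2
  · exact congrArg Subtype.val (hzM a haT)
  · exact congrArg Subtype.val (hzM b hbT)
  · exact hne _ 1 (by rw [hφ, map_one]; exact ha1)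
  · exact hne _ 1 (by rw [hφ, map_one]; exact hb1)
  · exact hne _ _ (by rw [hφ, hφ]; exact hab)
  · exact hne _ ⟨zz M, mem_sup_left (subset_closure ⟨M, hP, rfl⟩)⟩ (by rw [hφ, hz0]; exact haz)
  · exact hne _ ⟨zz M, mem_sup_left (subset_closure ⟨M, hP, rfl⟩)⟩ (by rw [hφ, hz0]; exact hbz)
  · exact hne (n * a * n⁻¹ * (n * b * n⁻¹)) ⟨zz M, mem_sup_left (subset_closure ⟨M, hP, rfl⟩)⟩
      (by rw [map_mul, hφ, hφ, hz0]; exact habz)

end Cfsg.Agent.Cit.TwoB
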