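import Cfsg.Agent.Cit.TwoB.BackBig
import Cfsg.Agent.Cit.TwoB.BackA
import Cfsg.Agent.Cit.CoresG

/-!
# `|Om(S)| = 2`, `z₁ ≠ z₂`, back half, `q > 3`: `backBig`
-/

set_option autoImplicit false
set_option linter.style.haveILetI false
set_option linter.unusedSectionVars false

namespace Cfsg.Agent.Cit.TwoB

open Subgroup Cfsg UseT SubCent
open Cfsg.Agent.TypeLFive.JIdent (JData)

universe u

variable {G : Type u} [Group G] [Finite G] {Om : Set (Subgroup G)} {K : Subgroup G}

theorem backBig (hodd : CoresG.OddStmt.{u}) (hm : MinS Om) (h : Two Om) (hni : ¬ Iso Om) (hL : LPiece Om (LLd Om))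
    (hOut : OutP Om (LLd Om)) (hK : K ∈ Om) (hs : IsSimpleGroup (DK Om K)) (hc0 : center (DK Om K) = ⊥)
    (hp : LPair (DK Om K)) {F₀ : Type} [Field F₀] [Fintype F₀] {p : ℕ} (hJ : JData (DK Om K) F₀ p)
    (hq : 3 < Fintype.card F₀) (eK : ↥K ⧸ oddCore ↥K ≃* Matrix.SpecialLinearGroup (Fin 2) F₀) :
    CoreTwoNe.Five G := by
  haveI := hm.simple
  have h1 := tw1 hm h hL hOut
  obtain ⟨L, hP⟩ := exists_pt h hK
  obtain ⟨T, -, f⟩ := exists_frame h hP (A := ⊥) IsPGroup.of_bot bot_le bot_le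
  obtain ⟨F, D⟩ := hL.exists_frX h h1 hOut hni f
  have hnc : ¬ IsMulCommutative (DK Om K) := by
    intro h1
    have h2 : center (DK Om K) = ⊤ := by
      rw [eq_top_iff]
      intro x _
      rw [mem_center_iff]
      intro y
      exact h1.is_comm.comm y x
    haveI := hs.toNontrivial
    rw [hc0] at h2
    exact bot_ne_top h2
  exact D.concl_big (fun X hX => hodd X hX) (epi hm h hni hK hs) hJ hp hs hnc hq eK

end Cfsg.Agent.Cit.TwoB
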