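import Cfsg.Agent.Cit.LFactSU
import Cfsg.Agent.Cit.TwoB.CenDef

/-!
# `C(z0) / K0` is cyclic for `PSL_3(F)`, `PSU_3(q)`
-/

set_option autoImplicit false
set_option linter.unusedSectionVars false

namespace Cfsg.Agent.CitCycLU

open Matrix Cfsg Cfsg.Agent.Cit.TwoB
open Cfsg.Agent.Cit.LongQuot (D1 z0)
open Cfsg.Agent.Cit.LongInst (suRep slRep)
open Cfsg.Agent.LieClassical.HermBasic Cfsg.Agent.LieClassical.HermSiegel

variable {F : Type*} [Field F] [Fintype F]

section SL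

open Cfsg.Agent.CitLFactSL
open Cfsg.Agent.ClassicalGeometry.AutPSL.Root (pr pr_surjective)

/-- `diag(s, 1, s⁻¹)` -/
def ds (s : Fˣ) : SpecialLinearGroup (Fin 3) F := ⟨diagonal ![(s : F), 1, ((s⁻¹ : Fˣ) : F)], by
  rw [det_diagonal, Fin.prod_univ_three]; simp⟩

theorem ds_val (s : Fˣ) : (ds s).1 = diagonal ![(s : F), 1, ((s⁻¹ : Fˣ) : F)] := rfl

theorem ds_pow (s : Fˣ) (n : ℕ) : ds s ^ n = ds (s ^ n) := by
  induction n with
  | zero =>
    rw [pow_zero, pow_zero]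
    apply Subtype.ext
    rw [ds_val]
    ext i j
    fin_cases i <;> fin_cases j <;> simp
  | succ n ih =>
    rw [pow_succ, ih, pow_succ]
    apply Subtype.ext
    show (ds (s ^ n)).1 * (ds s).1 = _
    rw [ds_val, ds_val, ds_val, diagonal_mul_diagonal]
    congr 1
    ext i
    fin_cases i
    · simp
    · simp
    · simp [mul_comm]

theorem ds_zz (s : Fˣ) : ds s * zz F = zz F * ds s := by
  apply Subtype.ext
  show (ds s).1 * (zz F).1 = (zz F).1 * (ds s).1
  rw [ds_val, zz_val, diagonal_mul_diagonal, diagonal_mul_diagonal]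
  congr 1
  ext i
  rw [mul_comm]

/-- `C(z0) / K0` is cyclic for `PSL_3(F)`. -/
theorem cyc_sl (h2 : (2 : F) ≠ 0) :
    CycCent (ProjectiveSpecialLinearGroup (Fin 3) F) (D1 (slRep F 1)) (z0 (slRep F 1)) := by
  rw [z0_eq]
  obtain ⟨s, hs⟩ := IsCyclic.exists_generator (α := Fˣ)
  refine ⟨pr (ds s), by rw [← map_mul, ← map_mul, ds_zz], fun x hx => ?_⟩
  obtain ⟨g, rfl⟩ := pr_surjective x
  have hc : g * zz F = zz F * g := comm_of_lift center_three zz_sq hx
  obtain ⟨a02, a12, a20, a21⟩ := comm_zz' h2 hc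
  have h22 : g.1 2 2 ≠ 0 := by
    intro h0
    have hdet := g.2
    rw [det_fin_three, a02, a12, a20, a21, h0] at hdet
    simp at hdet
  have h3 := hs (Units.mk0 _ h22)
  rw [← mem_powers_iff_mem_zpowers] at h3
  obtain ⟨n, hn⟩ := h3
  have hn' : s ^ n = Units.mk0 _ h22 := hn
  refine ⟨n, g * ds s ^ n, ?_, by rw [map_mul, map_pow]⟩
  rw [ds_pow, hn']
  have hv : (g * ds (Units.mk0 _ h22)).1 = g.1 * diagonal ![g.1 2 2, 1, (g.1 2 2)⁻¹] := rfl
  apply mem_E1 <;> rw [hv, mul_diagonal]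
  · rw [a02, zero_mul]
  · rw [a12, zero_mul]
  · rw [a20, zero_mul]
  · rw [a21, zero_mul]
  · simp [h22]

end SL

section SU

open Cfsg.Agent.CitLFactSU
open Cfsg.Agent.CitLFactSL (comm_of_lift comm_zz')
open Cfsg.Agent.ClassicalGeometry.UnitAutBasic (pr pr_surjective)

variable {q : ℕ} (hF : Fintype.card F = q ^ 2)

/-- norm one units -/
def NN : Subgroup Fˣ where
  carrier := {s | (s : F) * (s : F) ^ q = 1}
  mul_mem' := by
    intro a b ha hb
    show ((a * b : Fˣ) : F) * ((a * b : Fˣ) : F) ^ q = 1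
    have ha' : (a : F) * (a : F) ^ q = 1 := ha
    have hb' : (b : F) * (b : F) ^ q = 1 := hb
    rw [Units.val_mul, Cfsg.Agent.LieClassical.HermBasic.norm_mul, ha', hb', one_mul]
  one_mem' := by
    show ((1 : Fˣ) : F) * ((1 : Fˣ) : F) ^ q = 1
    simp
  inv_mem' := by
    intro a ha
    show ((a⁻¹ : Fˣ) : F) * ((a⁻¹ : Fˣ) : F) ^ q = 1
    have ha' : (a : F) * (a : F) ^ q = 1 := ha
    rw [Units.val_inv_eq_inv_val, inv_pow, ← mul_inv, ha', inv_one]

/-- `diag(s, 1, s⁻¹)` -/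
def du (s : NN (F := F) (q := q)) : SU 3 F q := dg ![((s : Fˣ) : F), 1, (((s⁻¹ : NN (F := F) (q := q)) : Fˣ) : F)]
  (by simp) (by
    intro i
    fin_cases i
    · exact s.2
    · simp
    · exact (s⁻¹).2)

theorem mat_du (s : NN (F := F) (q := q)) :
    mat (du s) = diagonal ![((s : Fˣ) : F), 1, (((s⁻¹ : NN (F := F) (q := q)) : Fˣ) : F)] := rfl

theorem du_pow (s : NN (F := F) (q := q)) (n : ℕ) : du s ^ n = du (s ^ n) := by
  induction n with
  | zero =>
    rw [pow_zero, pow_zero]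
    apply mat_injective
    rw [mat_one, mat_du]
    ext i j
    fin_cases i <;> fin_cases j <;> simp
  | succ n ih =>
    rw [pow_succ, ih, pow_succ]
    apply mat_injective
    rw [mat_mul, mat_du, mat_du, mat_du, diagonal_mul_diagonal]
    congr 1
    ext i
    fin_cases i
    · simp
    · simp
    · simp [mul_comm]

theorem du_zu (s : NN (F := F) (q := q)) : du s * zu hF = zu hF * du s := by
  apply mat_injective
  rw [mat_mul, mat_mul, mat_du, mat_zu, diagonal_mul_diagonal, diagonal_mul_diagonal]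
  congr 1
  ext i
  rw [mul_comm]

/-- `C(z0) / K0` is cyclic for `PSU_3(q)`. -/
theorem cyc_su (h2 : (2 : F) ≠ 0) :
    CycCent (PSU 3 F q) (D1 (suRep hF 1 le_rfl)) (z0 (suRep hF 1 le_rfl)) := by
  rw [z0_eq]
  obtain ⟨s, hs⟩ := IsCyclic.exists_generator (α := NN (F := F) (q := q))
  refine ⟨pr 3 F q (du s), by rw [← map_mul, ← map_mul, du_zu], fun x hx => ?_⟩
  obtain ⟨g, rfl⟩ := pr_surjective x
  have hc : g * zu hF = zu hF * g := comm_of_lift (center_three hF) (zu_sq hF) hx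
  obtain ⟨a02, a12, a20, a21⟩ := comm_zz' h2 (g := g.1) (congrArg Subtype.val hc)
  have hnorm : g.1.1 2 2 * g.1.1 2 2 ^ q = 1 := by
    have h3 := CitLFactSU.herm_act g (Pi.single 2 1) (Pi.single 2 1)
    have h4 : act g (Pi.single 2 1) = Pi.single 2 (g.1.1 2 2) := by
      show g.1.1 *ᵥ _ = _
      ext i
      fin_cases i <;> simp [a02, a12]
    rw [h4, herm_single_right hF, herm_single_right hF] at h3
    simpa using h3
  have h22 : g.1.1 2 2 ≠ 0 := left_ne_zero_of_mul_eq_one hnorm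
  have h3 := hs ⟨Units.mk0 _ h22, hnorm⟩
  rw [← mem_powers_iff_mem_zpowers] at h3
  obtain ⟨n, hn⟩ := h3
  have hn' : s ^ n = ⟨Units.mk0 _ h22, hnorm⟩ := hn
  refine ⟨n, g * du s ^ n, ?_, by rw [map_mul, map_pow]; rfl⟩
  rw [du_pow, hn']
  have hv : mat (g * du ⟨Units.mk0 _ h22, hnorm⟩) = g.1.1 * diagonal ![g.1.1 2 2, 1, (g.1.1 2 2)⁻¹] := rfl
  apply mem_E1 <;> rw [hv, mul_diagonal]
  · rw [a02, zero_mul]
  · rw [a12, zero_mul]
  · rw [a20, zero_mul]
  · rw [a21, zero_mul]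
  · simp [h22]

end SU

end Cfsg.Agent.CitCycLU
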