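import Cfsg.Agent.Cit.TwoB.CenDef
import Cfsg.Agent.Cit.TwoB.LFact
import Cfsg.Agent.Cit.LongConj
import Cfsg.Agent.Cit.TBasic
import Cfsg.Agent.Cit.LFactSL
import Cfsg.Agent.Cit.LFactSU
import Cfsg.Agent.Cit.TwoB.CycLU
import Cfsg.Agent.Cit.ElevenFact
import Cfsg.Agent.ClassicalGeometry.PSL2Basic

/-!
# The members of `Om` in the simple groups `L₃(q)`, `U₃(q)`: they are the standard subgroups

`exists_std`: for `J ∈ Om`, `O(J) = 1`, in `L ≃ Γ ⧸ Z(Γ)` there is an isomorphism mapping `J` to `D1 R` and `z_J` to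
`z0 R`.  Then all facts about `(D1 R, z0 R)` are transported to `(J, z_J)`.
-/

set_option autoImplicit false
set_option linter.style.haveILetI false

namespace Cfsg.Agent.Cit.TwoB.Members

open Subgroup Cfsg Matrix Cfsg.Agent.Cit.LongAbs Cfsg.Agent.Cit.LongBlock Cfsg.Agent.Cit.LongQuot
  Cfsg.Agent.Cit.LongMain Cfsg.Agent.Cit.LongModel Cfsg.Agent.Cit.LongInst Cfsg.Agent.Cit.LongConj

/-! ### Transport -/

section Transport

variable {L L' : Type*} [Group L] [Group L'] {K0 : Subgroup L} {z0 : L}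

theorem lfact_iff (f : L ≃* L') {K : Subgroup L'} {z : L'} (hz : f z0 = z)
    (hK : K0.map f.toMonoidHom = K) (h : LFact L' K z) : LFact L K0 z0 := by
  have h1 := h.of_equiv f.symm
  have h2 : K.map f.symm.toMonoidHom = K0 := by
    rw [← hK, Subgroup.map_map]
    have : f.symm.toMonoidHom.comp f.toMonoidHom = MonoidHom.id L := by
      ext x; simp
    rw [this, Subgroup.map_id]
  rw [h2, ← hz, f.symm_apply_apply] at h1
  exact h1

theorem gen2_iff (f : L ≃* L') {K : Subgroup L'} (hK : K0.map f.toMonoidHom = K) (h : Gen2 K) : Gen2 K0 := by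
  have h1 := h.of_equiv f.symm
  have h2 : K.map f.symm.toMonoidHom = K0 := by
    rw [← hK, Subgroup.map_map]
    have : f.symm.toMonoidHom.comp f.toMonoidHom = MonoidHom.id L := by
      ext x; simp
    rw [this, Subgroup.map_id]
  rwa [h2] at h1

theorem cyc_iff (f : L ≃* L') {K : Subgroup L'} {z : L'} (hz : f z0 = z)
    (hK : K0.map f.toMonoidHom = K) (h : CycCent L' K z) : CycCent L K0 z0 := by
  obtain ⟨g, hg, h1⟩ := h
  refine ⟨f.symm g, ?_, fun x hx => ?_⟩
  · apply f.injective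
    rw [map_mul, map_mul, f.apply_symm_apply, hz, hg]
  · obtain ⟨n, hn⟩ := h1 (f x) (by rw [← hz, ← map_mul, hx, map_mul])
    refine ⟨n, ?_⟩
    rw [← hK] at hn
    obtain ⟨y, hy, hy'⟩ := hn
    have h2 : y = x * f.symm g ^ n := by
      apply f.injective
      rw [map_mul, map_pow, f.apply_symm_apply]
      exact hy'
    rwa [← h2]

theorem map_centralizer (f : L ≃* L') (z : L) :
    (centralizer {z}).map f.toMonoidHom = centralizer {f z} := by
  ext x
  rw [mem_centralizer_singleton_iff]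
  constructor
  · rintro ⟨y, hy, rfl⟩
    show f y * f z = f z * f y
    rw [← map_mul, ← map_mul, mem_centralizer_singleton_iff.1 hy]
  · intro h1
    refine ⟨f.symm x, mem_centralizer_singleton_iff.2 ?_, f.apply_symm_apply x⟩
    apply f.injective
    rw [map_mul, map_mul, f.apply_symm_apply, h1]

theorem map_hyp (f : L ≃* L') {K : Subgroup L} {z : L} (hK : K ≤ centralizer {z})
    (hsn : (K.subgroupOf (centralizer {z})).IsSubnormal) :
    K.map f.toMonoidHom ≤ centralizer {f z} ∧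
    ((K.map f.toMonoidHom).subgroupOf (centralizer {f z})).IsSubnormal := by
  refine ⟨?_, ?_⟩
  · rw [← map_centralizer]
    exact Subgroup.map_mono hK
  · let e := (centralizer {z}).equivMapOfInjective f.toMonoidHom f.injective
    have h1 := hsn.map (f := e.toMonoidHom) e.surjective
    have key : ∀ Z : Subgroup L', (centralizer {z}).map f.toMonoidHom = Z →
        ((K.map f.toMonoidHom).subgroupOf Z).IsSubnormal := by
      rintro Z rfl
      convert h1 using 1
      ext x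
      rw [mem_subgroupOf]
      constructor
      · rintro ⟨k, hk, hkx⟩
        refine ⟨⟨k, hK hk⟩, mem_subgroupOf.2 hk, ?_⟩
        exact Subtype.ext hkx
      · rintro ⟨k, hk, hkx⟩
        exact ⟨k, mem_subgroupOf.1 hk, congrArg Subtype.val hkx⟩
    exact key _ (map_centralizer f z)

end Transport

/-! ### `2.A₇` is not `SL(2,F)` -/

theorem not_cover {X : Type*} [Group X] (h : IsNonsplitDoubleCover X ↥(alternatingGroup (Fin 7)))
    (F : Type*) [Field F] [Fintype F] : ¬ Nonempty (X ≃* SpecialLinearGroup (Fin 2) F) := by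
  rintro ⟨e⟩
  obtain ⟨h1, ⟨f⟩, -⟩ := h
  have h2 : Nat.card X = 5040 := by
    rw [(center X).card_eq_card_quotient_mul_card_subgroup, h1, Nat.card_congr f.toEquiv,
      nat_card_alternatingGroup]
    simp [Nat.card_eq_fintype_card, Nat.factorial]
  rw [Nat.card_congr e.toEquiv, Cfsg.Agent.ClassicalGeometry.PSL2Basic.card_SL2] at h2
  generalize Fintype.card F = q at h2
  rcases Nat.lt_or_ge q 18 with hq | hq
  · interval_cases q <;> norm_num at h2
  · have h3 : 18 ^ 2 - 1 ≤ q ^ 2 - 1 := Nat.sub_le_sub_right (Nat.pow_le_pow_left hq 2) 1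
    have h4 : 18 * (18 ^ 2 - 1) ≤ q * (q ^ 2 - 1) := Nat.mul_le_mul hq h3
    norm_num at h4
    omega

/-! ### The standard form of the members -/

section Std

variable {L : Type*} [Group L] {Om : Set (Subgroup L)} {J : Subgroup L}

theorem isTy (hty : IsType J) (hO : OO J = ⊥) : IsTy J := by
  have h1 : oddCore ↥J = ⊥ := by
    rw [OO_def, map_eq_bot_iff_of_injective _ J.subtype_injective] at hO
    exact hO
  exact IsTy.congr ((QuotientGroup.quotientMulEquivOfEq h1).trans QuotientGroup.quotientBot) hty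

variable {Γ : Type*} [Group Γ] {F : Type*} [Field F] {κ : Type*} [Fintype κ] [DecidableEq κ]
  {F1 : Type*} [Field F1] [Fintype F1]

/-- **the members are the standard subgroups** -/
theorem exists_std [Finite Γ] {R : Rep Γ F κ} (h : Good R F1) (hsw : Swap R F1)
    (hone : ∀ z : Γ ⧸ center Γ, z * z = 1 → z ≠ 1 → ∃ g, g * z * g⁻¹ = z0 R) [Finite L]
    (hyp : Hyp Om) (hJ : J ∈ Om) (hty : IsType J) (hO : OO J = ⊥) (e : L ≃* Γ ⧸ center Γ) :
    ∃ f : L ≃* Γ ⧸ center Γ, f (zz J) = z0 R ∧ J.map f.toMonoidHom = D1 R := by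
  have hJC : J ≤ centralizer {zz J} := hyp.le_centralizer hJ
  obtain ⟨h1, h2⟩ := map_hyp e hJC (hyp.sub J hJ)
  obtain ⟨g, hg⟩ := hone (e (zz J)) (by rw [← map_mul, hyp.zz_mul hJ, map_one]) (by
    rw [Ne, e.map_eq_one_iff]
    exact hyp.zz_ne hJ)
  have hz : e (zz J) ∈ J.map e.toMonoidHom := ⟨_, hyp.zz_mem hJ, rfl⟩
  have eJ : J ≃* J.map e.toMonoidHom := J.equivMapOfInjective _ e.injective
  have key : ∃ g, g * e (zz J) * g⁻¹ = z0 R ∧
      (J.map e.toMonoidHom).map (MulAut.conj g).toMonoidHom = D1 R := by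
    rcases isTy hty hO with ⟨F', _, _, ho, ⟨e'⟩⟩ | hA
    · exact conj_exact h hsw hg h1 h2 hz ho ⟨eJ.symm.trans e'⟩
    · exfalso
      have hbig : Seven.IsBig (J.map e.toMonoidHom) := Seven.IsBig.congr eJ (Or.inr hA)
      have hbot : oddCore ↥(J.map e.toMonoidHom) = ⊥ := by
        have h3 : OO J = ⊥ := hO
        rw [OO_def, map_eq_bot_iff_of_injective _ J.subtype_injective] at h3
        have h4 : (oddCore ↥J).map eJ.toMonoidHom = oddCore ↥(J.map e.toMonoidHom) :=
          Lib.Cores.map_equiv_pPrimeCore eJ 2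
        rw [← h4, h3, Subgroup.map_bot]
      have e2 : (↥(J.map e.toMonoidHom) ⧸ oddCore ↥(J.map e.toMonoidHom)) ≃* J.map e.toMonoidHom :=
        (QuotientGroup.quotientMulEquivOfEq hbot).trans QuotientGroup.quotientBot
      refine conj_false h hg h1 h2 hz ?_ ?_
      · exact (Seven.IsBig.congr e2.symm hbig).quasisimple
      · rintro ⟨e3⟩
        exact not_cover hA F1 ⟨eJ.trans (e2.symm.trans e3)⟩
  obtain ⟨g, hg1, hg2⟩ := key
  refine ⟨e.trans (MulAut.conj g), ?_, ?_⟩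
  · show g * e (zz J) * g⁻¹ = z0 R
    exact hg1
  · rw [← hg2, Subgroup.map_map]
    rfl

/-- transport of the facts on `(D1 R, z0 R)` to `(J, z_J)` -/
theorem lfact_of [Finite Γ] {R : Rep Γ F κ} (h : Good R F1) (hsw : Swap R F1)
    (hf : LFact (Γ ⧸ center Γ) (D1 R) (z0 R)) [Finite L]
    (hyp : Hyp Om) (hJ : J ∈ Om) (hty : IsType J) (hO : OO J = ⊥) (e : L ≃* Γ ⧸ center Γ) :
    LFact L J (zz J) := by
  obtain ⟨f, h1, h2⟩ := exists_std h hsw (fun z hz hz1 => hf.one z (z0 R) hz hz1 hf.sq hf.ne)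
    hyp hJ hty hO e
  exact lfact_iff f h1 h2 hf

/-- transport of `C(z0) / D1` cyclic -/
theorem cyc_of [Finite Γ] {R : Rep Γ F κ} (h : Good R F1) (hsw : Swap R F1)
    (hf : LFact (Γ ⧸ center Γ) (D1 R) (z0 R)) (hc : CycCent (Γ ⧸ center Γ) (D1 R) (z0 R)) [Finite L]
    (hyp : Hyp Om) (hJ : J ∈ Om) (hty : IsType J) (hO : OO J = ⊥) (e : L ≃* Γ ⧸ center Γ) :
    CycCent L J (zz J) := by
  obtain ⟨f, h1, h2⟩ := exists_std h hsw (fun z hz hz1 => hf.one z (z0 R) hz hz1 hf.sq hf.ne)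
    hyp hJ hty hO e
  exact cyc_iff f h1 h2 hc

/-! ### `PSL₃(F)` -/

theorem lfact_psl {F : Type*} [Field F] [Fintype F] (ho : Odd (Fintype.card F)) [Finite L] (hyp : Hyp Om)
    (hJ : J ∈ Om) (hty : IsType J) (hO : OO J = ⊥)
    (e : L ≃* Matrix.ProjectiveSpecialLinearGroup (Fin 3) F) : LFact L J (zz J) :=
  lfact_of (sl_good1 ho) sl_swap1 (CitLFactSL.lfact ho) hyp hJ hty hO e

theorem lpair_psl {F : Type*} [Field F] [Fintype F] (ho : Odd (Fintype.card F))
    (e : L ≃* Matrix.ProjectiveSpecialLinearGroup (Fin 3) F) : LPair L :=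
  (CitLFactSL.lpair (SignalizersComponents.SLQuasisimple.two_ne_zero_of_odd ho)).of_equiv e.symm

theorem cyc_psl {F : Type*} [Field F] [Fintype F] (ho : Odd (Fintype.card F)) [Finite L] (hyp : Hyp Om)
    (hJ : J ∈ Om) (hty : IsType J) (hO : OO J = ⊥)
    (e : L ≃* Matrix.ProjectiveSpecialLinearGroup (Fin 3) F) : CycCent L J (zz J) :=
  cyc_of (sl_good1 ho) sl_swap1 (CitLFactSL.lfact ho)
    (CitCycLU.cyc_sl (SignalizersComponents.SLQuasisimple.two_ne_zero_of_odd ho)) hyp hJ hty hO e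

/-! ### `PSU₃(q)` -/

section Unitary

variable {q : ℕ} {F : Type*} [Field F] [Fintype F] (hF : Fintype.card F = q ^ 2) (ho : Odd (Fintype.card F))
include hF ho

theorem lfact_psu [Finite L] (hyp : Hyp Om) (hJ : J ∈ Om) (hty : IsType J) (hO : OO J = ⊥)
    (e : L ≃* PSU 3 F q) : LFact L J (zz J) :=
  lfact_of (su_good1 hF ho) (su_swap1 hF) (CitLFactSU.lfact hF ho) hyp hJ hty hO e

theorem cyc_psu [Finite L] (hyp : Hyp Om) (hJ : J ∈ Om) (hty : IsType J) (hO : OO J = ⊥)
    (e : L ≃* PSU 3 F q) : CycCent L J (zz J) :=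
  cyc_of (su_good1 hF ho) (su_swap1 hF) (CitLFactSU.lfact hF ho)
    (CitCycLU.cyc_su hF (SignalizersComponents.SLQuasisimple.two_ne_zero_of_odd ho)) hyp hJ hty hO e

theorem lpair_psu (e : L ≃* PSU 3 F q) : LPair L :=
  (CitLFactSU.lpair hF (SignalizersComponents.SLQuasisimple.two_ne_zero_of_odd ho)).of_equiv e.symm

end Unitary

/-! ### `M₁₁` -/

/-- in `M₁₁` the members are the subgroups `SL(2,3)` -/
theorem eq_SS (h : Cfsg.Spor.IsoM11 L) [Finite L] (hyp : Hyp Om) (hJ : J ∈ Om) (hty : IsType J) :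
    J = Eleven.SS (zz J) := by
  rcases hty with ⟨F', _, _, ho, ⟨e'⟩⟩ | hA
  · exact Eleven.eq_SS_of_SL h (hyp.orderOf_zz hJ) (hyp.le_centralizer hJ) ho e'
  · exact (Eleven.not_two_A7 h (hyp.orderOf_zz hJ) (hyp.le_centralizer hJ) hA).elim

theorem lfact_m11 (h : Cfsg.Spor.IsoM11 L) [Finite L] (hyp : Hyp Om) (hJ : J ∈ Om) (hty : IsType J)
    (hO : OO J = ⊥) : LFact L J (zz J) := by
  have hz2 := hyp.zz_mul hJ
  have hz1 := hyp.zz_ne hJ
  have hS := eq_SS h hyp hJ hty
  refine ⟨hz2, hz1, fun s t hs hs1 ht ht1 => ElevenFact.conj_of_sq h hs hs1 ht ht1, ?_, ?_,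
    ElevenFact.exists_comm h hz2 hz1, ?_⟩
  · intro a _ hx
    refine ElevenFact.aut_eq_SS h hz2 hz1 a fun x hx' => hx x ?_
    rw [hS]; exact hx'
  · intro a _ hl
    exact (ElevenFact.outer h hl).elim
  · intro N hN hn hodd
    have h1 := le_OO hN hn (fun h => (Nat.not_even_iff_odd.2 hodd) (even_iff_two_dvd.2 h))
    rw [hO] at h1
    exact le_bot_iff.1 h1

theorem cyc_m11 (h : Cfsg.Spor.IsoM11 L) [Finite L] (hyp : Hyp Om) (hJ : J ∈ Om) (hty : IsType J) :
    CycCent L J (zz J) := by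
  have hz := hyp.orderOf_zz hJ
  have hS := eq_SS h hyp hJ hty
  have h1 : (Eleven.SS (zz J)).relIndex (centralizer {zz J}) = 2 := by
    have h2 := relIndex_mul_relIndex ⊥ (Eleven.SS (zz J)) (centralizer {zz J}) bot_le (Eleven.SS_le _)
    rw [relIndex_bot_left, relIndex_bot_left, Eleven.card_SS h hz, Eleven.card_centralizer h hz] at h2
    omega
  obtain ⟨a, ha, h2⟩ := relIndex_eq_two_iff.1 h1
  have hle : Eleven.SS (zz J) ≤ J := hS.symm.le
  refine ⟨a, mem_centralizer_singleton_iff.1 ha, fun x hx => ?_⟩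
  rcases h2 x (mem_centralizer_singleton_iff.2 hx) with ⟨h3, -⟩ | ⟨h3, -⟩
  · exact ⟨1, hle (by rwa [pow_one])⟩
  · exact ⟨0, hle (by rwa [pow_zero, mul_one])⟩

theorem lpair_m11 (h : Cfsg.Spor.IsoM11 L) : LPair L :=
  fun _ _ _ _ hs hs1 ht ht1 hst hc hs' hs1' ht' ht1' hst' hc' =>
    ElevenFact.pair h hs hs1 ht ht1 hst hc hs' hs1' ht' ht1' hst' hc'

end Std

end Cfsg.Agent.Cit.TwoB.Members
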