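import Cfsg.Agent.Cit.CoreTwoNe
import Cfsg.Agent.Cit.TwoB.Members

/-!
# `CoreTwoNe.FactA`: the members of `PSL₃(q)`, `PSU₃(q)`, `M₁₁`
-/

set_option autoImplicit false

namespace Cfsg.Agent.Cit.CoreTwoNe

open Subgroup Cfsg Cfsg.Agent.Cit.TwoB Cfsg.Agent.Cit.CoreOne

universe u

theorem factA : FactA.{u} := by
  intro X _ _ _ Om h hT hO hX K hK
  have hty : IsType K := (hT K hK).isType
  have hOK := hO K hK
  rcases hX with ⟨F, _, _, ho, ⟨e⟩⟩ | ⟨F, _, _, q, hF, hq, ⟨e⟩⟩ | hM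
  · exact ⟨Members.lfact_psl ho h.hyp hK hty hOK e, Members.cyc_psl ho h.hyp hK hty hOK e,
      Members.lpair_psl ho e⟩
  · have ho : Odd (Fintype.card F) := by rw [hF]; exact hq.pow
    exact ⟨Members.lfact_psu hF ho h.hyp hK hty hOK e, Members.cyc_psu hF ho h.hyp hK hty hOK e,
      Members.lpair_psu hF ho e⟩
  · exact ⟨Members.lfact_m11 hM h.hyp hK hty hOK, Members.cyc_m11 hM h.hyp hK hty, Members.lpair_m11 hM⟩

end Cfsg.Agent.Cit.CoreTwoNe
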