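import Cfsg.Agent.Cit.TwoB.Tools

/-!
# The `Z*`-theorem modulo a central subgroup of order two
-/

set_option autoImplicit false
set_option maxHeartbeats 400000
set_option linter.style.haveILetI false

namespace Cfsg.Agent.Cit.TwoB

open Subgroup Cfsg

variable {G : Type*} [Group G]

/-- a group of order twice an odd number with a central involution `z` is `O × ⟨z⟩` -/
theorem exists_odd_part [Finite G] {N : Subgroup G} {z : G} {m : ℕ} (hm : Odd m) (hz : z ∈ N)
    (hz2 : z * z = 1) (hz1 : z ≠ 1) (hzc : ∀ n ∈ N, n * z = z * n) (hcard : Nat.card N = 2 * m) :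
    ∃ H : Subgroup G, H ≤ N ∧ Odd (Nat.card H) ∧ (∀ n ∈ N, n ∈ H ∨ z * n ∈ H) ∧
      ∀ g : G, (∀ n ∈ N, g * n * g⁻¹ ∈ N) → ∀ x ∈ H, g * x * g⁻¹ ∈ H := by
  set z' : N := ⟨z, hz⟩ with hz'
  have hz'o : orderOf z' = 2 := by
    rw [← Subgroup.orderOf_coe]
    exact orderOf_eq_prime (by rw [pow_two]; exact hz2) hz1
  have hnorm : (zpowers z').Normal := by
    refine ⟨fun x hx g => ?_⟩
    have h1 : g * z' = z' * g := Subtype.ext (hzc g g.2)
    have h2 : g * x * g⁻¹ = x := by
      obtain ⟨k, rfl⟩ := hx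
      have h3 : Commute g z' := h1
      have h4 := (h3.zpow_right k).eq
      simp only [h4, mul_inv_cancel_right]
    rw [h2]; exact hx
  have hcZ : Nat.card (zpowers z') = 2 := by rw [Nat.card_zpowers, hz'o]
  have hidx : (zpowers z').index = m := by
    have h1 := (zpowers z').card_mul_index
    rw [hcZ, hcard] at h1
    exact Nat.eq_of_mul_eq_mul_left (by norm_num) h1
  obtain ⟨H', hH'⟩ := Subgroup.exists_right_complement'_of_coprime (N := zpowers z')
    (by rw [hcZ, hidx]; exact (Nat.coprime_two_left).2 hm)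
  have hcH : Nat.card H' = m := by rw [← hidx]; exact hH'.symm.index_eq_card.symm
  have hiH : H'.index = 2 := by rw [← hcZ]; exact hH'.index_eq_card
  have hpow : ∀ x ∈ H', x ^ m = 1 := by
    intro x hx
    have h1 : orderOf x ∣ m := by
      rw [← hcH]
      have := orderOf_dvd_natCard (⟨x, hx⟩ : H')
      rwa [← Subgroup.orderOf_coe] at this
    exact orderOf_dvd_iff_pow_eq_one.1 h1
  have hzm : z' ^ m = z' := by
    obtain ⟨k, rfl⟩ := hm
    have h1 : z' ^ 2 = 1 := by rw [← hz'o]; exact pow_orderOf_eq_one _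
    rw [pow_succ, pow_mul, h1, one_pow, one_mul]
  have hz'1 : z' ≠ 1 := fun h1 => hz1 (congrArg Subtype.val h1)
  have hzH : z' ∉ H' := by
    intro h1
    have h2 := hpow z' h1
    rw [hzm] at h2
    exact hz'1 h2
  have hor : ∀ n : N, n ∈ H' ∨ z' * n ∈ H' := by
    intro n
    rw [mul_mem_iff_of_index_two hiH]
    tauto
  refine ⟨H'.map N.subtype, map_subtype_le _, ?_, ?_, ?_⟩
  · rw [card_map_of_injective N.subtype_injective, hcH]
    exact hm
  · intro n hn
    rcases hor ⟨n, hn⟩ with h1 | h1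
    · exact Or.inl ⟨_, h1, rfl⟩
    · exact Or.inr ⟨_, h1, rfl⟩
  · rintro g hg _ ⟨x, hx, rfl⟩
    have hy := hg x x.2
    rcases hor ⟨g * x * g⁻¹, hy⟩ with h1 | h1
    · exact ⟨_, h1, rfl⟩
    · exfalso
      have h2 := hpow _ h1
      have h3 : Commute z' (⟨g * x * g⁻¹, hy⟩ : N) := Subtype.ext (hzc _ hy).symm
      rw [h3.mul_pow, hzm] at h2
      have h4 : (⟨g * x * g⁻¹, hy⟩ : N) ^ m = 1 := by
        apply Subtype.ext
        change (g * (x : G) * g⁻¹) ^ m = 1
        rw [_root_.conj_pow]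
        have h5 : (x : G) ^ m = 1 := congrArg Subtype.val (hpow x hx)
        rw [h5]; group
      rw [h4, mul_one] at h2
      exact hz'1 h2

/-- **`Z*` modulo a central involution** -/
theorem zstar_mod [Finite G] {C : Subgroup G} {z t : G} (hz : z ∈ C) (hzc : ∀ c ∈ C, c * z = z * c)
    (hz2 : z * z = 1) (hz1 : z ≠ 1) (ht : t ∈ C) (ht2 : t * t = 1) (ht1 : t ≠ 1) (htz : t ≠ z)
    (hiso : ∀ g ∈ C, (g * t * g⁻¹ * t = t * (g * t * g⁻¹) ∨ g * t * g⁻¹ * t = z * (t * (g * t * g⁻¹))) →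
      g * t * g⁻¹ = t ∨ g * t * g⁻¹ = z * t) :
    ∃ O : Subgroup G, O ≤ C ∧ Odd (Nat.card O) ∧ (∀ c ∈ C, ∀ o ∈ O, c * o * c⁻¹ ∈ O) ∧
      ∀ c ∈ C, c * t * c⁻¹ * t ∈ O ∨ z * (c * t * c⁻¹ * t) ∈ O := by
  set z' : C := ⟨z, hz⟩ with hz'
  set t' : C := ⟨t, ht⟩ with ht'
  have hz'o : orderOf z' = 2 := by
    rw [← Subgroup.orderOf_coe]
    exact orderOf_eq_prime (by rw [pow_two]; exact hz2) hz1
  have hz'2 : z' * z' = 1 := Subtype.ext hz2
  have hmemZ : ∀ x : C, x ∈ zpowers z' ↔ x = 1 ∨ x = z' := by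
    intro x
    constructor
    · rintro ⟨k, rfl⟩
      have h2 : z' ^ (2 : ℤ) = 1 := by rw [zpow_two]; exact hz'2
      rcases Int.even_or_odd' k with ⟨j, rfl | rfl⟩
      · left
        show z' ^ (2 * j) = 1
        rw [zpow_mul, h2, one_zpow]
      · right
        show z' ^ (2 * j + 1) = z'
        rw [zpow_add, zpow_mul, h2, one_zpow, one_mul, zpow_one]
    · rintro (rfl | rfl)
      · exact Subgroup.one_mem _
      · exact mem_zpowers _
  haveI hnorm : (zpowers z').Normal := by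
    refine ⟨fun x hx g => ?_⟩
    have h1 : g * z' = z' * g := Subtype.ext (hzc g g.2)
    have h2 : g * x * g⁻¹ = x := by
      obtain ⟨k, rfl⟩ := hx
      have h3 : Commute g z' := h1
      have h4 := (h3.zpow_right k).eq
      simp only [h4, mul_inv_cancel_right]
    rw [h2]; exact hx
  have hq : ∀ x y : C, ((x : C ⧸ zpowers z') = y ↔ x = y ∨ x = z' * y) := by
    intro x y
    rw [QuotientGroup.eq, hmemZ]
    have hc : y * z' = z' * y := Subtype.ext (hzc y y.2)
    constructor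
    · rintro (h1 | h1)
      · left
        exact inv_mul_eq_one.1 h1
      · right
        have h2 : y = x * z' := by rw [← h1]; group
        have h3 : x * z' = z' * x := Subtype.ext (hzc x x.2)
        rw [h2, h3, ← mul_assoc, hz'2, one_mul]
    · rintro (rfl | rfl)
      · left; group
      · right
        have h3 : z'⁻¹ = z' := inv_eq_of_mul_eq_one_left hz'2
        rw [mul_inv_rev, h3]
        calc y⁻¹ * z' * y = y⁻¹ * (z' * y) := by group
          _ = y⁻¹ * (y * z') := by rw [hc]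
          _ = z' := by group
  set tb : C ⧸ zpowers z' := (t' : C ⧸ zpowers z') with htb
  have htbo : orderOf tb = 2 := by
    apply orderOf_eq_prime
    · rw [pow_two, htb, ← QuotientGroup.mk_mul, show t' * t' = 1 from Subtype.ext ht2, QuotientGroup.mk_one]
    · intro h1
      rw [htb, ← QuotientGroup.mk_one, hq] at h1
      rcases h1 with h1 | h1
      · exact ht1 (congrArg Subtype.val h1)
      · rw [mul_one] at h1
        exact htz (congrArg Subtype.val h1)
  obtain ⟨N, hN, hNodd, hNt⟩ := Parab.zstar htbo (by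
    intro gb hgb
    obtain ⟨g, rfl⟩ := QuotientGroup.mk_surjective gb
    rw [htb, ← QuotientGroup.mk_inv, ← QuotientGroup.mk_mul, ← QuotientGroup.mk_mul, ← QuotientGroup.mk_mul,
      ← QuotientGroup.mk_mul, hq] at hgb
    have h1 : (g : G) * t * (g : G)⁻¹ * t = t * (g * t * (g : G)⁻¹) ∨
        (g : G) * t * (g : G)⁻¹ * t = z * (t * (g * t * (g : G)⁻¹)) := by
      rcases hgb with h1 | h1
      · exact Or.inl (congrArg Subtype.val h1)
      · exact Or.inr (congrArg Subtype.val h1)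
    rw [htb, ← QuotientGroup.mk_inv, ← QuotientGroup.mk_mul, ← QuotientGroup.mk_mul, hq]
    rcases hiso g g.2 h1 with h2 | h2
    · exact Or.inl (Subtype.ext h2)
    · exact Or.inr (Subtype.ext h2))
  set N₁ : Subgroup C := N.comap (QuotientGroup.mk' (zpowers z')) with hN₁
  set N₂ : Subgroup G := N₁.map C.subtype with hN₂
  have hcard : Nat.card N₂ = 2 * Nat.card N := by
    rw [hN₂, card_map_of_injective C.subtype_injective]
    have h1 : zpowers z' ≤ N₁ := by
      intro x hx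
      rw [hN₁, mem_comap, QuotientGroup.mk'_apply, (QuotientGroup.eq_one_iff x).2 hx]
      exact N.one_mem
    have h2 : N₁.index = N.index := index_comap_of_surjective N (QuotientGroup.mk'_surjective _)
    have h3 := N₁.card_mul_index
    have h4 := N.card_mul_index
    have h5 := (zpowers z').card_mul_index
    have h6 : (zpowers z').index = Nat.card (C ⧸ zpowers z') := rfl
    have h7 : Nat.card (zpowers z') = 2 := by rw [Nat.card_zpowers, hz'o]
    rw [h2] at h3
    rw [h7, h6, ← h4, ← h3] at h5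
    have h8 : N.index ≠ 0 := FiniteIndex.index_ne_zero
    have h9 : (2 * Nat.card N) * N.index = Nat.card N₁ * N.index := by rw [← h5]; ring
    exact (Nat.eq_of_mul_eq_mul_right (Nat.pos_of_ne_zero h8) h9).symm
  have hzN₂ : z ∈ N₂ := by
    refine ⟨z', ?_, rfl⟩
    show z' ∈ N₁
    rw [hN₁, mem_comap, QuotientGroup.mk'_apply, (QuotientGroup.eq_one_iff z').2 (mem_zpowers z')]
    exact N.one_mem
  have hN₂C : N₂ ≤ C := map_subtype_le _
  obtain ⟨O, hO, hOodd, hOor, hOinv⟩ := exists_odd_part hNodd hzN₂ hz2 hz1 (fun n hn => hzc n (hN₂C hn)) hcard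
  refine ⟨O, hO.trans hN₂C, hOodd, ?_, ?_⟩
  · intro c hc o ho
    refine hOinv c ?_ o ho
    rintro _ ⟨n, hn, rfl⟩
    refine ⟨⟨c, hc⟩ * n * ⟨c, hc⟩⁻¹, ?_, rfl⟩
    exact (hN.comap _).conj_mem n hn _
  · intro c hc
    apply hOor
    refine ⟨⟨c, hc⟩ * t' * ⟨c, hc⟩⁻¹ * t', ?_, rfl⟩
    show _ ∈ N₁
    rw [hN₁, mem_comap, QuotientGroup.mk'_apply]
    have h1 := hN.conj_mem _ (N.inv_mem (hNt (((⟨c, hc⟩ : C) : C ⧸ zpowers z')))) 1
    have h2 : tb⁻¹ = tb := by
      apply inv_eq_of_mul_eq_one_left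
      rw [← pow_two, ← htbo]; exact pow_orderOf_eq_one _
    have h3 : 1 * (tb * ((⟨c, hc⟩ : C) : C ⧸ zpowers z') * tb⁻¹ * ((⟨c, hc⟩ : C) : C ⧸ zpowers z')⁻¹)⁻¹ * 1⁻¹ =
        ((⟨c, hc⟩ : C) : C ⧸ zpowers z') * tb * ((⟨c, hc⟩ : C) : C ⧸ zpowers z')⁻¹ * tb⁻¹ := by group
    rw [h3, h2] at h1
    exact h1

end Cfsg.Agent.Cit.TwoB
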