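import Cfsg.Agent.Cit.TwoB.One
import Cfsg.Agent.Cit.TwoB.LFact
import Cfsg.Agent.Cit.Types
import Cfsg.Agent.TypeLFive.CoreOut

/-!
# `|Om(S)| = 2`, `z₁ ≠ z₂`, case B, twisted: the input of the back half of S0511

`LPiece.exists_frX`: the frame with the closing property (`SylowLFive.Frame.FrX`);
`XData.cenOut`, `XData.cenK`: the structure of `C(t) / O(C(t))`, `t = F.T 0 1 = z_K` (`CoreOut.CenK`), if `LL K / O` is a
simple group `Lb` (`L₃(q)`, `U₃(q)`, `M₁₁`) with `LPair Lb`.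
-/

set_option autoImplicit false
set_option maxHeartbeats 400000
set_option linter.style.haveILetI false
set_option linter.unusedSectionVars false

namespace Cfsg.Agent.Cit.TwoB

open Subgroup Cfsg

universe u

variable {G : Type u} [Group G] {Om : Set (Subgroup G)} {K L T : Subgroup G}
  {LL : Subgroup G → Subgroup G}

/-- the frame in `G`: all data -/
structure XData (Om : Set (Subgroup G)) (LL : Subgroup G → Subgroup G) (K L T : Subgroup G)
    (F : SylowLFive.Frame.FrX G) : Prop where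
  pc : LPiece Om LL
  two : Two Om
  tw : Tw1 Om LL
  fr : Fr Om K L T
  a01 : F.T 0 1 = zz K
  a23 : F.T 2 3 = zz L
  mem : ∀ i j, F.T i j ∈ T
  m23 : F.T 2 3 ∈ LL K
  m24 : F.T 2 4 ∈ LL K
  m34 : F.T 3 4 ∈ LL K
  m01 : F.T 0 1 ∈ LL L
  m04 : F.T 0 4 ∈ LL L
  m14 : F.T 1 4 ∈ LL L

/-- **the frame with the closing property** -/
theorem LPiece.exists_frX [Finite G] [IsSimpleGroup G] (hL : LPiece Om LL) (h : Two Om) (h1 : Tw1 Om LL)
    (hO : OutP Om LL) (hni : ¬ Iso Om) (f : Fr Om K L T) :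
    ∃ F : SylowLFive.Frame.FrX G, XData Om LL K L T F := by
  obtain ⟨F, a01, a23, am, m23, m24, m34, m01, m04, m14, hT, hz⟩ := hL.exists_fr h h1 f
  have t : Tw Om := hL.toTw h hni h1
  have hl : Link Om := hL.link h hO
  refine ⟨{ F with ne := ?_, close := ?_ }, hL, h, h1, f, a01, a23, am, m23, m24, m34, m01, m04, m14⟩
  · intro g hg
    rw [a01, a23, ← h.hyp.zz_cj f.kT.1] at hg
    refine h.disj (h.hyp.conj K f.kT.1 g) ?_
    rw [hg]
    exact ⟨K, L, f.pt, rfl⟩
  · intro M hC hI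
    exact h.frame_close (fun K hK L hL' => t.ptCn hl hK hL') F f.pt a01.symm a23.symm M hC hI

end Cfsg.Agent.Cit.TwoB
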