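import Cfsg.Agent.Cit.TwoB.BackA
import Cfsg.Agent.TypeLFive.CoreOut
import Cfsg.Agent.TypeLFive.JIdent
import Cfsg.Agent.SylowLFive.Centre

/-!
# `|Om(S)| = 2`, `z₁ ≠ z₂`, back half: the frame and the structure of `C(z_K) / O(C(z_K))`

* `exists_bfr` : the frame `F : FrX G` with `F.T 0 1 = z_K`, `F.T 2 3 = z_L`, and `m ∈ K` inducing `(0 1)`;
* `cenOut` : `CoreLoc.CenOut` for the piece `DK Om K`.
-/

set_option autoImplicit false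
set_option linter.style.haveILetI false
set_option linter.unusedSectionVars false

namespace Cfsg.Agent.Cit.TwoB

open Subgroup Cfsg UseT SubCent
open Cfsg.Agent.TypeLFive
open Cfsg.Agent.SylowLFive.Frame (FrX)
open Cfsg.Agent.SylowLFive.Centre (Act)

universe u

variable {G : Type u} [Group G] {Om : Set (Subgroup G)} {K L T : Subgroup G} {LL : Subgroup G → Subgroup G}

theorem act_of {t : Fin 5 → G} {a : G} (ha : a * a = 1)
    (hat : ∀ i, a * t i = t i * a) {σ : Equiv.Perm (Fin 5)} {n : G}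
    (hn : ∀ i, n * t i * n⁻¹ = a * t (σ i)) (i j : Fin 5) : n * (t i * t j) * n⁻¹ = t (σ i) * t (σ j) := by
  calc n * (t i * t j) * n⁻¹ = (n * t i * n⁻¹) * (n * t j * n⁻¹) := by group
    _ = (a * t (σ i)) * (a * t (σ j)) := by rw [hn, hn]
    _ = (t (σ i) * a) * (a * t (σ j)) := by rw [hat]
    _ = t (σ i) * (a * a) * t (σ j) := by group
    _ = t (σ i) * t (σ j) := by rw [ha, mul_one]

variable [Finite G]

namespace EData

variable {e₁ e₂ : G}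

/-- the element of `L ⊓ T` inducing `(2 3)` -/
theorem exists_two' (hL : LPiece Om LL) (h : Two Om) (d : EData Om LL K L T e₁ e₂) :
    ∃ n ∈ L ⊓ T, n * zz K = zz K * n ∧ n * zz L = zz L * n ∧ n * e₁ = e₁ * n ∧ n * e₂ * n⁻¹ = zz L * e₂ := by
  obtain ⟨M, hM, hMe⟩ := hL.exists_pt_of_mem h d.fr.kT.1 d.m2 d.s2 d.n2
  have hn : zz M ∈ normalizer ((L ⊓ T : Subgroup G) : Set G) := by
    rw [hMe, mem_normalizer_iff_cj, cj_inf, (h.cj_eq_iff d.fr.lT.1).2 (d.fr.commL d.t2),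
      mem_normalizer_iff_cj.1 (le_normalizer d.t2)]
  have hne : L ≠ M := by
    rintro rfl
    exact d.z2 hMe.symm
  obtain ⟨n, hnLT, hn1⟩ := (h.zz_or d.fr.lT.1 hM.right hne (syl_inf d.fr.hT d.fr.lT) hn).resolve_left
    (d.not_pt hL h hMe)
  rw [hMe] at hn1
  have hnK := hL.part K L T d.fr.hT d.fr.kT d.fr.lT d.fr.ne hnLT
  exact ⟨n, hnLT, d.fr.commK hnLT.2, d.fr.commL hnLT.2, (hL.comm_inf h d.fr d.m1 d.t1 hnK hnLT.2).symm, hn1⟩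

/-- an element of `K ⊓ T` inducing `(0 1)` -/
theorem exists_act (hL : LPiece Om LL) (h : Two Om) (h1 : Tw1 Om LL) (d : EData Om LL K L T e₁ e₂) :
    ∃ n ∈ K ⊓ T, Act (d.toFr hL h h1) (Equiv.swap 0 1) n := by
  obtain ⟨cKL, cK1, cK2, cL1, cL2, c12⟩ := d.comms hL h
  obtain ⟨ka, kb, kc, kd, kk⟩ := tt_comm cKL cK1 cK2 cL1 cL2 c12
  have hK2 := h.hyp.zz_mul d.fr.kT.1
  have cj2 : ∀ {n x y : G}, n * x = x * n → n * (x * y) * n⁻¹ = x * (n * y * n⁻¹) := by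
    intro n x y hx
    calc n * (x * y) * n⁻¹ = (n * x) * y * n⁻¹ := by group
      _ = _ := by rw [hx]; group
  have cj1 : ∀ {n x : G}, n * x = x * n → n * x * n⁻¹ = x := by
    intro n x hx
    rw [hx, mul_inv_cancel_right]
  obtain ⟨n, hn, n1, n2, n3, n4⟩ := d.symm.exists_two' hL h
  refine ⟨n, hn, ?_⟩
  refine act_of (one_mul 1) (fun i => by simp) (σ := Equiv.swap 0 1) (n := n) ?_
  intro i
  rw [one_mul]
  fin_cases i
  · show n * e₁ * n⁻¹ = zz K * e₁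
    exact n4
  · show n * (zz K * e₁) * n⁻¹ = e₁
    rw [cj2 n2, n4, ← mul_assoc, hK2, one_mul]
  · show n * e₂ * n⁻¹ = e₂
    exact cj1 n3
  · show n * (zz L * e₂) * n⁻¹ = zz L * e₂
    rw [cj2 n1, cj1 n3]
  · show n * 1 * n⁻¹ = 1
    group

end EData

/-- the frame of the back half -/
structure BFr (Om : Set (Subgroup G)) (LL : Subgroup G → Subgroup G) (K L T : Subgroup G) (F : FrX G) (m : G) :
    Prop where
  fr : Fr Om K L T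
  t01 : F.T 0 1 = zz K
  t23 : F.T 2 3 = zz L
  mem : ∀ i j, F.T i j ∈ T
  k23 : F.T 2 3 ∈ LL K
  k24 : F.T 2 4 ∈ LL K
  k34 : F.T 3 4 ∈ LL K
  l01 : F.T 0 1 ∈ LL L
  l04 : F.T 0 4 ∈ LL L
  l14 : F.T 1 4 ∈ LL L
  zzN : ∀ i j, i ≠ j → ∃ N ∈ Om, F.T i j = zz N
  mK : m ∈ K ⊓ T
  act : Act F.toFr (Equiv.swap 0 1) m

theorem exists_bfr (hm : MinS Om) (h : Two Om) (hni : ¬ Iso Om) (hL : LPiece Om LL) (hO : OutP Om LL)
    (hK : K ∈ Om) : ∃ L T F m, BFr Om LL K L T F m := by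
  haveI := hm.simple
  have h1 := tw1 hm h hL hO
  obtain ⟨L, hP⟩ := exists_pt h hK
  obtain ⟨T, -, f⟩ := exists_frame h hP (A := ⊥) IsPGroup.of_bot bot_le bot_le
  obtain ⟨e₁, e₂, d⟩ := hL.exists_edata h f
  obtain ⟨m, hmK, hact⟩ := d.exists_act hL h h1
  have a01 := d.toFr_01 hL h h1
  have a23 := d.toFr_23 hL h h1
  have a04 := d.toFr_04 hL h h1
  have a24 := d.toFr_24 hL h h1
  have am := d.toFr_mem hL h h1
  set F := d.toFr hL h h1 with hF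
  have m23 : F.T 2 3 ∈ LL K := by rw [a23]; exact hL.mem_of_pt h f.pt
  have m24 : F.T 2 4 ∈ LL K := by rw [a24]; exact d.m2
  have m01 : F.T 0 1 ∈ LL L := by rw [a01]; exact hL.mem_of_pt h f.symm.pt
  have m04 : F.T 0 4 ∈ LL L := by rw [a04]; exact d.m1
  have hcn : ∀ K ∈ Om, ∀ L ∈ Om, PtCn Om K L := fun K hK L hLm =>
    (tw hm h hni hL hO).ptCn (hL.link h hO) hK hLm
  let F' : FrX G :=
    { toFr := F
      ne := by
        intro g hg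
        rw [a01, a23, ← h.hyp.zz_cj hK] at hg
        exact h.disj (h.hyp.conj K hK g) (by rw [hg]; exact ⟨K, L, f.pt, rfl⟩)
      close := fun M hC hI => h.frame_close hcn F f.pt a01.symm a23.symm M hC hI }
  refine ⟨L, T, F', m, f, a01, a23, am, m23, m24, ?_, m01, m04, ?_, ?_, hmK, hact⟩
  · have h2 := (LL K).mul_mem m23 m24
    have h3 : F.T 3 4 = F.T 2 3 * F.T 2 4 := by
      rw [F.T_symm 2 3, F.T_mul]
    show F.T 3 4 ∈ LL K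
    rw [h3]; exact h2
  · have h2 := (LL L).mul_mem m01 m04
    have h3 : F.T 1 4 = F.T 0 1 * F.T 0 4 := by
      rw [F.T_symm 0 1, F.T_mul]
    show F.T 1 4 ∈ LL L
    rw [h3]; exact h2
  · intro i j hij
    obtain ⟨n, -, hn⟩ := F.exists_conj hij
    refine ⟨cj n K, h.hyp.conj K hK n, ?_⟩
    show F.T i j = _
    rw [h.hyp.zz_cj hK, ← a01, hn]

namespace BFr

variable {F : FrX G} {m : G}

theorem cK (B : BFr Om LL K L T F m) (i j : Fin 5) : F.T i j ∈ CK K :=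
  mem_centralizer_singleton_iff.2 (B.fr.commK (B.mem i j))

theorem z_mem (B : BFr Om LL K L T F m) (i : Fin 5) : F.toFr.z i ∈ CK K :=
  (CK K).mul_mem (B.cK _ _) (B.cK _ _)

/-- `z 0` acts trivially on the piece of `K` -/
theorem tv_z (B : BFr Om LL K L T F m) (h1 : Tw1 Om LL) : TV LL K (F.toFr.z 0) := by
  have h2 := h1 K L B.fr.pt (F.T 1 4) B.l14 (B.fr.commK (B.mem _ _)) (F.toFr.T_sq _ _)
    (F.toFr.T_ne_one (by decide)) (by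
      intro h3
      rw [← B.t01] at h3
      apply F.toFr.T_ne_one (i := 0) (j := 4) (by decide)
      rw [← F.T_mul 0 1 4, h3, F.toFr.T_sq])
  rw [← B.t23] at h2
  have h3 : F.T 1 4 * F.T 2 3 = F.toFr.z 0 :=
    F.toFr.TT_eq_z (by decide) (by decide) (by decide) (by decide) (by decide) (by decide) (by decide) (by decide)
      (by decide) (by decide)
  rwa [h3] at h2

end BFr

section CenOut

variable (hm : MinS Om) (h : Two Om) (hni : ¬ Iso Om)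
include hm h hni

theorem qm_ne {x : G} (hx : x ∈ CK K) (h1 : x ≠ 1) (h2 : x * x = 1) : qm (CK K) ⟨x, hx⟩ ≠ 1 := by
  intro h3
  rw [← MonoidHom.mem_ker] at h3
  apply h1
  exact congrArg Subtype.val (eq_one_of_odd (not_dvd_ker (CK K)) h3 (a := 1) (Subtype.ext (by
    change x ^ 2 ^ 1 = 1
    rw [pow_one, pow_two, h2])))

/-- **the structure of `C(z_K) / O(C(z_K))`** -/
theorem cenOut {F : FrX G} {m : G} (B : BFr Om (LLd Om) K L T F m) (h1 : Tw1 Om (LLd Om))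
    (hs : IsSimpleGroup (DK Om K)) (hp : LPair (DK Om K)) {p : ℕ} (hf : LThreeDef.Facts (DK Om K) p) :
    CoreLoc.CenOut (zz K) (F.T 2 3) (F.T 3 4) (F.toFr.z 0) p (DK Om K) := by
  have hK := B.fr.kT.1
  have m1 := (mem_LLd_iff hm h hni hK hs (x := ⟨F.T 2 3, B.cK 2 3⟩)).1 B.k23
  have m2 := (mem_LLd_iff hm h hni hK hs (x := ⟨F.T 3 4, B.cK 3 4⟩)).1 B.k34
  have hN := (sit hm h hni hK).normal
  have hsq : ∀ i j, qm (CK K) ⟨F.T i j, B.cK i j⟩ * qm (CK K) ⟨F.T i j, B.cK i j⟩ = 1 := by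
    intro i j
    have : (⟨F.T i j, B.cK i j⟩ : CK K) * ⟨F.T i j, B.cK i j⟩ = 1 := Subtype.ext (F.toFr.T_sq i j)
    rw [← map_mul, this, map_one]
  have hne : ∀ i j, i ≠ j → qm (CK K) ⟨F.T i j, B.cK i j⟩ ≠ 1 := fun i j hij =>
    qm_ne hm h hni (B.cK i j) (F.toFr.T_ne_one hij) (F.toFr.T_sq i j)
  have hcm : qm (CK K) ⟨F.T 2 3, B.cK 2 3⟩ * qm (CK K) ⟨F.T 3 4, B.cK 3 4⟩ =
      qm (CK K) ⟨F.T 3 4, B.cK 3 4⟩ * qm (CK K) ⟨F.T 2 3, B.cK 2 3⟩ := by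
    rw [← map_mul, ← map_mul]
    congr 1
    exact Subtype.ext (F.toFr.comm 2 3 3 4)
  have hne2 : qm (CK K) ⟨F.T 2 3, B.cK 2 3⟩ ≠ qm (CK K) ⟨F.T 3 4, B.cK 3 4⟩ := by
    intro h2
    apply hne 2 4 (by decide)
    have h3 : (⟨F.T 2 4, B.cK 2 4⟩ : CK K) = ⟨F.T 2 3, B.cK 2 3⟩ * ⟨F.T 3 4, B.cK 3 4⟩ :=
      Subtype.ext (F.T_mul 2 3 4).symm
    rw [h3, map_mul, h2, hsq]
  refine ⟨B.cK 2 3, B.cK 3 4, B.z_mem 0, hN, m1, m2, ?_, ?_, hf⟩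
  · intro j hj
    obtain ⟨y, rfl⟩ := qm_surjective (CK K) j
    have hy := (mem_LLd_iff hm h hni hK hs (x := y)).2 hj
    have h2 := B.tv_z h1 _ hy
    have h3 : (⟨F.toFr.z 0, B.z_mem 0⟩ : CK K) * y * ⟨F.toFr.z 0, B.z_mem 0⟩⁻¹ * y⁻¹ ∈ (qm (CK K)).ker := by
      rw [ker_qm]
      obtain ⟨w, hw, hw2⟩ := h2
      have : w = (⟨F.toFr.z 0, B.z_mem 0⟩ : CK K) * y * ⟨F.toFr.z 0, B.z_mem 0⟩⁻¹ * y⁻¹ := Subtype.ext hw2
      rwa [← this]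
    rw [MonoidHom.mem_ker, map_mul, map_mul, map_mul, map_inv, map_inv, mul_inv_eq_one, mul_inv_eq_iff_eq_mul] at h3
    exact h3
  · intro x
    have c1 : x * qm (CK K) ⟨F.T 2 3, B.cK 2 3⟩ * x⁻¹ ∈ DK Om K := hN.conj_mem _ m1 x
    have c2 : x * qm (CK K) ⟨F.T 3 4, B.cK 3 4⟩ * x⁻¹ ∈ DK Om K := hN.conj_mem _ m2 x
    have e2 : ∀ y : HQ (CK K), y * y = 1 → x * y * x⁻¹ * (x * y * x⁻¹) = 1 := by
      intro y hy
      calc x * y * x⁻¹ * (x * y * x⁻¹) = x * (y * y) * x⁻¹ := by group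
        _ = 1 := by rw [hy]; group
    have e3 : ∀ y : HQ (CK K), y ≠ 1 → x * y * x⁻¹ ≠ 1 := by
      intro y hy h2
      apply hy
      rw [mul_inv_eq_one] at h2
      exact mul_eq_left.1 h2
    obtain ⟨g, hg1, hg2⟩ := hp ⟨_, m1⟩ ⟨_, m2⟩ ⟨_, c1⟩ ⟨_, c2⟩ (Subtype.ext (hsq 2 3))
      (fun h2 => hne 2 3 (by decide) (congrArg Subtype.val h2)) (Subtype.ext (hsq 3 4))
      (fun h2 => hne 3 4 (by decide) (congrArg Subtype.val h2)) (fun h2 => hne2 (congrArg Subtype.val h2))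
      (Subtype.ext hcm) (Subtype.ext (e2 _ (hsq 2 3)))
      (fun h2 => e3 _ (hne 2 3 (by decide)) (congrArg Subtype.val h2)) (Subtype.ext (e2 _ (hsq 3 4)))
      (fun h2 => e3 _ (hne 3 4 (by decide)) (congrArg Subtype.val h2))
      (fun h2 => hne2 (by
        have h3 := congrArg Subtype.val h2
        exact mul_left_cancel (mul_right_cancel h3)))
      (Subtype.ext (by
        change x * qm (CK K) ⟨F.T 2 3, B.cK 2 3⟩ * x⁻¹ * (x * qm (CK K) ⟨F.T 3 4, B.cK 3 4⟩ * x⁻¹) =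
          x * qm (CK K) ⟨F.T 3 4, B.cK 3 4⟩ * x⁻¹ * (x * qm (CK K) ⟨F.T 2 3, B.cK 2 3⟩ * x⁻¹)
        calc x * qm (CK K) ⟨F.T 2 3, B.cK 2 3⟩ * x⁻¹ * (x * qm (CK K) ⟨F.T 3 4, B.cK 3 4⟩ * x⁻¹)
            = x * (qm (CK K) ⟨F.T 2 3, B.cK 2 3⟩ * qm (CK K) ⟨F.T 3 4, B.cK 3 4⟩) * x⁻¹ := by group
          _ = x * (qm (CK K) ⟨F.T 3 4, B.cK 3 4⟩ * qm (CK K) ⟨F.T 2 3, B.cK 2 3⟩) * x⁻¹ := by rw [hcm]
          _ = _ := by group))
    have h5 : (g : HQ (CK K)) * qm (CK K) ⟨F.T 2 3, B.cK 2 3⟩ * (g : HQ (CK K))⁻¹ =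
        x * qm (CK K) ⟨F.T 2 3, B.cK 2 3⟩ * x⁻¹ := congrArg Subtype.val hg1
    have h6 : (g : HQ (CK K)) * qm (CK K) ⟨F.T 3 4, B.cK 3 4⟩ * (g : HQ (CK K))⁻¹ =
        x * qm (CK K) ⟨F.T 3 4, B.cK 3 4⟩ * x⁻¹ := congrArg Subtype.val hg2
    refine ⟨g, g.2, (g : HQ (CK K))⁻¹ * x, by group, ?_, ?_⟩
    · change (g : HQ (CK K))⁻¹ * x * qm (CK K) ⟨F.T 2 3, B.cK 2 3⟩ =
        qm (CK K) ⟨F.T 2 3, B.cK 2 3⟩ * ((g : HQ (CK K))⁻¹ * x)
      calc (g : HQ (CK K))⁻¹ * x * qm (CK K) ⟨F.T 2 3, B.cK 2 3⟩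
          = (g : HQ (CK K))⁻¹ * (x * qm (CK K) ⟨F.T 2 3, B.cK 2 3⟩ * x⁻¹) * x := by group
        _ = _ := by rw [← h5]; group
    · change (g : HQ (CK K))⁻¹ * x * qm (CK K) ⟨F.T 3 4, B.cK 3 4⟩ =
        qm (CK K) ⟨F.T 3 4, B.cK 3 4⟩ * ((g : HQ (CK K))⁻¹ * x)
      calc (g : HQ (CK K))⁻¹ * x * qm (CK K) ⟨F.T 3 4, B.cK 3 4⟩
          = (g : HQ (CK K))⁻¹ * (x * qm (CK K) ⟨F.T 3 4, B.cK 3 4⟩ * x⁻¹) * x := by group
        _ = _ := by rw [← h6]; group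

end CenOut

end Cfsg.Agent.Cit.TwoB
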