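import Cfsg.Agent.Cit.TwoB.BackCen
import Cfsg.Agent.TypeLFive.CoreEnd

/-!
# `|Om(S)| = 2`, `z₁ ≠ z₂`, case B, twisted, `q > 3`: `G ≅ PSL₅(q)` or `PSU₅(q)`
-/

set_option autoImplicit false
set_option maxHeartbeats 400000
set_option linter.style.haveILetI false
set_option linter.unusedSectionVars false

namespace Cfsg.Agent.Cit.TwoB

open Subgroup Cfsg
open Cfsg.Agent.SignalizersComponents.GoldschmidtFunctor (bar mem_bar)
open Cfsg.Agent.TypeLFive.CoreBalance (Q M M_odd mem_bar_iff)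
open Cfsg.Agent.TypeLFive.CoreLoc (CenOut EE TT)
open Cfsg.Agent.TypeLFive.CoreOut (CenK mk_eq_one_iff not_mem_M)
open Cfsg.Agent.TypeLFive.LThreeDef (Facts)
open Cfsg.Agent.TypeLFive.JIdent (JData)

universe u

local notation "mkQ" => Cfsg.Agent.TypeLFive.CoreLoc.mk

variable {G : Type u} [Group G] {Om : Set (Subgroup G)} {K L T : Subgroup G}
  {LL : Subgroup G → Subgroup G} {F : SylowLFive.Frame.FrX G} {Lb : Type*} [Group Lb]

/-- the odd core of a simple group with an involution is trivial -/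
theorem core_eq_bot [Finite G] [hs : IsSimpleGroup G] {t : G} (h1 : t ≠ 1) (h2 : t * t = 1) : pPrimeCore 2 G = ⊥ := by
  have hn : (pPrimeCore 2 G).Normal := Lib.Cores.pPrimeCore_normal 2
  rcases hn.eq_bot_or_eq_top with h | h
  · exact h
  · exfalso
    have h3 := Lib.Cores.pPrimeCore_coprime (G := G) 2
    rw [h, Subgroup.card_top] at h3
    have h4 : orderOf t = 2 := orderOf_eq_prime (by rw [pow_two]; exact h2) h1
    have h5 : 2 ∣ Nat.card G := by rw [← h4]; exact orderOf_dvd_natCard t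
    have := Nat.dvd_gcd h5 (dvd_refl 2)
    rw [h3] at this
    omega

/-- the odd order theorem for the subgroups of `G` -/
def OddSolv (G : Type u) [Group G] : Prop := ∀ X : Subgroup G, ¬ 2 ∣ Nat.card X → Group.IsSolvable X

namespace XData

variable [Finite G] (D : XData Om LL K L T F)

include D

/-- **the cores centralise the frame** -/
theorem hE [IsSimpleGroup G] (hOO : OddSolv G) {φ : LL K →* Lb} (hφ : Epi (LL K) (OO (centralizer {zz K})) φ) {p : ℕ}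
    (hf : Facts Lb p) (hp : LPair Lb) : ⁅M (F.T 0 1), EE F⁆ = ⊥ :=
  TypeLFive.CoreLoc.main F (core_eq_bot (F.toFr.T_ne_one (i := 0) (j := 1) (by decide)) (F.toFr.T_sq 0 1))
    hOO (D.cenOut hφ hf hp) _ (TypeLFive.CoreLoc.T_mem_TT F (by decide))

theorem mem_M_iff {x : G} (hx : x ∈ K) : x ∈ M (F.T 0 1) ↔ (⟨x, hx⟩ : K) ∈ oddCore ↥K := by
  have h1 : x ∈ OO K ↔ (⟨x, hx⟩ : K) ∈ oddCore ↥K := by
    constructor
    · rintro ⟨y, hy, hyx⟩
      have : y = ⟨x, hx⟩ := Subtype.ext hyx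
      rwa [← this]
    · exact fun h => ⟨_, h, rfl⟩
  rw [← h1]
  constructor
  · intro h
    have h2 : K ⊓ M (F.T 0 1) ≤ OO K := by
      refine le_OO inf_le_left ?_ fun h2 => M_odd (F.T 0 1) (h2.trans (card_dvd_of_le inf_le_right))
      refine TypeLFive.CoreBalance.le_normalizer_inf le_normalizer ?_
      exact D.K_le.trans (TypeLFive.CoreBalance.cen_le_normalizer_M _)
    exact h2 ⟨hx, h⟩
  · intro h
    rw [D.M_eq]
    refine le_OO ((OO_le K).trans (D.two.hyp.le_centralizer D.fr.kT.1)) ?_ (odd_OO K) h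
    intro c hc
    rw [mem_normalizer_iff_cj, ← OO_cj, (D.two.cj_eq_iff D.fr.kT.1).2 (mem_centralizer_singleton_iff.1 hc)]

/-- the image of `K` in `C(t) / O(C(t))` is `K / O(K)` -/
theorem exists_equivK : Nonempty (bar (F.T 0 1) K ≃* ↥K ⧸ oddCore ↥K) := by
  let ρ : K →* bar (F.T 0 1) K :=
    { toFun := fun x => ⟨mkQ (F.T 0 1) x (D.K_le x.2), mem_bar (D.K_le x.2) x.2⟩
      map_one' := rfl
      map_mul' := fun _ _ => rfl }
  have hρ : Function.Surjective ρ := by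
    rintro ⟨y, hy⟩
    obtain ⟨x, hx, hxL, rfl⟩ := mem_bar_iff.1 hy
    exact ⟨⟨x, hxL⟩, rfl⟩
  obtain ⟨e, -⟩ := exists_equiv_of_iff ρ (QuotientGroup.mk' (oddCore ↥K)) hρ (QuotientGroup.mk'_surjective _) (by
    rintro ⟨x, hx⟩
    rw [QuotientGroup.mk'_apply, QuotientGroup.eq_one_iff, ← D.mem_M_iff hx, ← mk_eq_one_iff (D.K_le hx)]
    exact ⟨fun h => congrArg Subtype.val h, fun h => Subtype.ext h⟩)
  exact ⟨e⟩

theorem not_comm : ∃ x ∈ K ⊓ T, ∃ y ∈ K ⊓ T, x * y ≠ y * x := by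
  obtain ⟨c, v, n, hgq⟩ := D.two.hyp.exists_gq D.fr.kT.1 (syl_inf D.fr.hT D.fr.kT)
  exact ⟨v, hgq.v_mem, c, hgq.c_mem, hgq.not_comm⟩

/-- **`q > 3`** -/
theorem concl_big [IsSimpleGroup G] (hOO : OddSolv G) {φ : LL K →* Lb} (hφ : Epi (LL K) (OO (centralizer {zz K})) φ)
    {F₀ : Type} [Field F₀] [Fintype F₀] {p : ℕ} (hJ : JData Lb F₀ p) (hp : LPair Lb) (hs : IsSimpleGroup Lb)
    (hna : ¬ IsMulCommutative Lb) (h3 : 3 < Fintype.card F₀)
    (eK : (↥K ⧸ oddCore ↥K) ≃* Matrix.SpecialLinearGroup (Fin 2) F₀) :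
    (∃ (K : Type) (_ : Field K) (_ : Fintype K), Odd (Fintype.card K) ∧
        Nonempty (G ≃* Matrix.ProjectiveSpecialLinearGroup (Fin 5) K)) ∨
      (∃ (K : Type) (_ : Field K) (_ : Fintype K) (r : ℕ), Fintype.card K = r ^ 2 ∧ Odd r ∧
        Nonempty (G ≃* Cfsg.PSU 5 K r)) := by
  obtain ⟨e, -⟩ := D.exists_equiv hφ
  obtain ⟨eK'⟩ := D.exists_equivK
  have hty : IsType K := Or.inl ⟨F₀, inferInstance, inferInstance, hJ.odd, ⟨eK⟩⟩
  have hKn : (bar (F.T 0 1) K).Normal := bar_normal_of fun c hc x hx => D.K_nml hc hx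
  have hP2 : IsPGroup 2 ↥(K ⊓ T) := D.fr.hT.to_le inf_le_right
  have hPC : K ⊓ T ≤ centralizer ({F.T 0 1} : Set G) := inf_le_left.trans D.K_le
  obtain ⟨w, H⟩ := D.exists_cenK hφ hJ.facts hp hs hna hty hKn le_rfl
    (TypeLFive.CoreOut.bar_mono inf_le_left) (by
      intro N hN hPN
      have h1 := TypeLFive.CoreBig.eq_of_normal h3 (eK'.trans eK) (N := N ⊓ bar (F.T 0 1) K) inf_le_right
        (fun k hk n hn => ⟨hN.conj_mem n hn.1 k, hKn.conj_mem n hn.2 k⟩) (by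
          obtain ⟨x, hx, y, hy, hxy⟩ := D.not_comm
          have m : ∀ z, ∀ hz : z ∈ K ⊓ T, mkQ (F.T 0 1) z (hPC hz) ∈ N ⊓ bar (F.T 0 1) K := fun z hz =>
            ⟨hPN (mem_bar (hPC hz) hz), mem_bar (hPC hz) hz.1⟩
          exact ⟨_, m x hx, _, m y hy, fun h =>
            hxy (TypeLFive.CoreBig.comm_of_two hP2 hPC hx hy h)⟩)
      rw [← h1]
      exact inf_le_left)
  exact TypeLFive.CoreEnd.concl (hJ.congr e.symm) h3 (eK'.trans eK) D.not_comm H (D.hE hOO hφ hJ.facts hp)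

end XData

end Cfsg.Agent.Cit.TwoB
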