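import Cfsg.Agent.Cit.TwoB.Link
import Cfsg.Agent.Cit.TwoB.LFact
import Cfsg.Agent.Cit.AutAct

/-!
# `|Om(S)| = 2`, `z₁ ≠ z₂`, case B: `LPiece` and `OutP` from the facts on the simple group
-/

set_option autoImplicit false
set_option maxHeartbeats 400000
set_option linter.style.haveILetI false
set_option linter.unusedSectionVars false

namespace Cfsg.Agent.Cit.TwoB

open Subgroup Cfsg

variable {G : Type*} [Group G] {Om : Set (Subgroup G)} {K M T : Subgroup G}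
  {LL : Subgroup G → Subgroup G} {C L O : Subgroup G} {Lb : Type*} [Group Lb]

/-- an epimorphism `L → Lb` with kernel `O` -/
structure Epi (L O : Subgroup G) (φ : L →* Lb) : Prop where
  surj : Function.Surjective φ
  ker : ∀ x (hx : x ∈ L), φ ⟨x, hx⟩ = 1 ↔ x ∈ O

namespace Epi

variable {φ : L →* Lb}

theorem exists_mem (h : Epi L O φ) (y : Lb) : ∃ x, ∃ hx : x ∈ L, φ ⟨x, hx⟩ = y := by
  obtain ⟨⟨x, hx⟩, h1⟩ := h.surj y
  exact ⟨x, hx, h1⟩

theorem eq_iff (h : Epi L O φ) {x y : G} (hx : x ∈ L) (hy : y ∈ L) :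
    φ ⟨x, hx⟩ = φ ⟨y, hy⟩ ↔ x * y⁻¹ ∈ O := by
  rw [← h.ker (x * y⁻¹) (L.mul_mem hx (L.inv_mem hy))]
  have h1 : (⟨x * y⁻¹, L.mul_mem hx (L.inv_mem hy)⟩ : L) = ⟨x, hx⟩ * ⟨y, hy⟩⁻¹ := rfl
  rw [h1, map_mul, map_inv, mul_inv_eq_one]

theorem map_mul' (φ : L →* Lb) {x y : G} (hx : x ∈ L) (hy : y ∈ L) :
    φ ⟨x * y, L.mul_mem hx hy⟩ = φ ⟨x, hx⟩ * φ ⟨y, hy⟩ := by
  rw [← map_mul]; rfl

theorem map_inv' (φ : L →* Lb) {x : G} (hx : x ∈ L) :
    φ ⟨x⁻¹, L.inv_mem hx⟩ = (φ ⟨x, hx⟩)⁻¹ := by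
  rw [← map_inv]; rfl

theorem map_one' (φ : L →* Lb) : φ ⟨1, L.one_mem⟩ = 1 := by
  rw [← map_one φ]; rfl

theorem congr' (φ : L →* Lb) {x y : G} (hx : x ∈ L) (h : x = y) : φ ⟨x, hx⟩ = φ ⟨y, h ▸ hx⟩ := by
  subst h; rfl

/-- the centre of `L / O` is trivial if `Z(Lb) = 1` -/
theorem cent (h : Epi L O φ) (hc : Subgroup.center Lb = ⊥) : ∀ t ∈ L, Tv L O t → t ∈ O := by
  intro t ht hT
  have h1 : φ ⟨t, ht⟩ ∈ Subgroup.center Lb := by
    rw [mem_center_iff]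
    intro w
    obtain ⟨y, hy, rfl⟩ := h.exists_mem w
    rw [← map_mul' φ hy ht, ← map_mul' φ ht hy, eq_comm, h.eq_iff]
    have h2 := hT y hy
    have h3 : t * y * t⁻¹ * y⁻¹ = t * y * (y * t)⁻¹ := by group
    rwa [h3] at h2
  rw [hc, mem_bot, h.ker] at h1
  exact h1

/-- the automorphism of `Lb` induced by an element of `C` -/
theorem exists_aut (h : Epi L O φ) (hP : Pc C L O) {x : G} (hx : x ∈ C) :
    ∃ a : MulAut Lb, ∀ y (hy : y ∈ L), a (φ ⟨y, hy⟩) = φ ⟨x * y * x⁻¹, hP.conjL hx hy⟩ := by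
  have key : ∀ z ∈ C, ∃ f : Lb → Lb, ∀ y (hy : y ∈ L), ∀ hy' : z * y * z⁻¹ ∈ L,
      f (φ ⟨y, hy⟩) = φ ⟨z * y * z⁻¹, hy'⟩ := by
    intro z hz
    choose s hs hs' using h.exists_mem
    refine ⟨fun w => φ ⟨z * s w * z⁻¹, hP.conjL hz (hs w)⟩, fun y hy hy' => ?_⟩
    show φ ⟨z * s (φ ⟨y, hy⟩) * z⁻¹, _⟩ = _
    rw [h.eq_iff]
    have h1 : s (φ ⟨y, hy⟩) * y⁻¹ ∈ O := (h.eq_iff (hs _) hy).1 (hs' _)
    have h2 := hP.conjO hz h1
    have h3 : z * (s (φ ⟨y, hy⟩) * y⁻¹) * z⁻¹ = z * s (φ ⟨y, hy⟩) * z⁻¹ * (z * y * z⁻¹)⁻¹ := by group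
    rwa [h3] at h2
  obtain ⟨f, hf⟩ := key x hx
  obtain ⟨g, hg⟩ := key x⁻¹ (C.inv_mem hx)
  refine ⟨⟨⟨f, g, ?_, ?_⟩, ?_⟩, fun y hy => hf y hy (hP.conjL hx hy)⟩
  · intro w
    obtain ⟨y, hy, rfl⟩ := h.exists_mem w
    have h1 : x⁻¹ * (x * y * x⁻¹) * x⁻¹⁻¹ = y := by group
    rw [hf y hy (hP.conjL hx hy), hg _ _ (by rw [h1]; exact hy)]
    congr 1
    exact Subtype.ext h1
  · intro w
    obtain ⟨y, hy, rfl⟩ := h.exists_mem w
    have h1 : x * (x⁻¹ * y * x⁻¹⁻¹) * x⁻¹ = y := by group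
    rw [hg y hy (hP.conjL (C.inv_mem hx) hy), hf _ _ (by rw [h1]; exact hy)]
    congr 1
    exact Subtype.ext h1
  · intro w v
    obtain ⟨y, hy, rfl⟩ := h.exists_mem w
    obtain ⟨y', hy', rfl⟩ := h.exists_mem v
    show f (φ ⟨y, hy⟩ * φ ⟨y', hy'⟩) = f (φ ⟨y, hy⟩) * f (φ ⟨y', hy'⟩)
    rw [← map_mul' φ hy hy', hf _ _ (hP.conjL hx (L.mul_mem hy hy')), hf _ _ (hP.conjL hx hy),
      hf _ _ (hP.conjL hx hy'), ← map_mul' φ (hP.conjL hx hy) (hP.conjL hx hy')]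
    congr 1
    exact Subtype.ext (by show x * (y * y') * x⁻¹ = x * y * x⁻¹ * (x * y' * x⁻¹); group)

/-- the automorphism induced by an involution -/
theorem exists_aut_sq (h : Epi L O φ) (hP : Pc C L O) {x : G} (hx : x ∈ C) (hx2 : x * x = 1) :
    ∃ a : MulAut Lb, a * a = 1 ∧ ∀ y (hy : y ∈ L), a (φ ⟨y, hy⟩) = φ ⟨x * y * x⁻¹, hP.conjL hx hy⟩ := by
  obtain ⟨a, ha⟩ := h.exists_aut hP hx
  refine ⟨a, ?_, ha⟩
  ext w
  obtain ⟨y, hy, rfl⟩ := h.exists_mem w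
  show a (a (φ ⟨y, hy⟩)) = φ ⟨y, hy⟩
  rw [ha, ha]
  congr 1
  apply Subtype.ext
  show x * (x * y * x⁻¹) * x⁻¹ = y
  calc x * (x * y * x⁻¹) * x⁻¹ = (x * x) * y * (x * x)⁻¹ := by group
    _ = y := by rw [hx2]; group

/-- an element acting as an inner automorphism -/
theorem tv_of_conj (h : Epi L O φ) (hP : Pc C L O) {x y : G} (hx : x ∈ C) (hy : y ∈ L) {a : MulAut Lb}
    (ha : ∀ y (hy : y ∈ L), a (φ ⟨y, hy⟩) = φ ⟨x * y * x⁻¹, hP.conjL hx hy⟩)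
    (hay : a = MulAut.conj (φ ⟨y, hy⟩)) : Tv L O (y⁻¹ * x) := by
  intro w hw
  have h1 := ha w hw
  rw [hay, MulAut.conj_apply, ← map_inv' φ hy, ← map_mul' φ hy hw,
    ← map_mul' φ (L.mul_mem hy hw) (L.inv_mem hy), eq_comm, h.eq_iff] at h1
  have h2 := hP.conjO' (hP.le hy) h1
  have h3 : y⁻¹ * (x * w * x⁻¹ * (y * w * y⁻¹)⁻¹) * y = y⁻¹ * x * w * (y⁻¹ * x)⁻¹ * w⁻¹ := by group
  rwa [h3] at h2

theorem tv_of_one (h : Epi L O φ) (hP : Pc C L O) {x : G} (hx : x ∈ C) {a : MulAut Lb}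
    (ha : ∀ y (hy : y ∈ L), a (φ ⟨y, hy⟩) = φ ⟨x * y * x⁻¹, hP.conjL hx hy⟩)
    (ha1 : a = 1) : Tv L O x := by
  intro w hw
  have h1 := ha w hw
  rw [ha1, MulAut.one_apply, eq_comm, h.eq_iff] at h1
  exact h1

end Epi

/-- the epimorphism `φ : L → Lb` maps `M ⊓ L` onto a subgroup which contains and normalises `K0` -/
structure MFact (L O M : Subgroup G) (z : G) (φ : L →* Lb) (K0 : Subgroup Lb) (z0 : Lb) : Prop
    extends Epi L O φ where
  zL : z ∈ L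
  hz : φ ⟨z, zL⟩ = z0
  le : ∀ k ∈ K0, ∃ x, ∃ hx : x ∈ L, x ∈ M ∧ φ ⟨x, hx⟩ = k
  nrm : ∀ x (hx : x ∈ L), x ∈ M → ∀ k ∈ K0, φ ⟨x, hx⟩ * k * (φ ⟨x, hx⟩)⁻¹ ∈ K0
  gen : (∀ x (hx : x ∈ L), x ∈ M → φ ⟨x, hx⟩ ∈ K0) ∨ Gen2 K0
  fact : LFact Lb K0 z0

namespace MFact

variable {φ : L →* Lb} {K0 : Subgroup Lb} {z0 : Lb} {z : G}

/-- transport by conjugation -/
theorem cj (h : MFact L O M z φ K0 z0) (g : G) :
    MFact (Cit.cj g L) (Cit.cj g O) (Cit.cj g M) (g * z * g⁻¹)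
      (φ.comp (cjEquiv g L).symm.toMonoidHom) K0 z0 := by
  have hφ : ∀ x (hx : x ∈ Cit.cj g L), (φ.comp (cjEquiv g L).symm.toMonoidHom) ⟨x, hx⟩ =
      φ ⟨g⁻¹ * x * g, mem_cj.1 hx⟩ := by
    intro x hx
    show φ ((cjEquiv g L).symm ⟨x, hx⟩) = _
    congr 1
    apply (cjEquiv g L).injective
    rw [MulEquiv.apply_symm_apply]
    apply Subtype.ext
    rw [coe_cjEquiv]
    show x = g * (g⁻¹ * x * g) * g⁻¹
    group
  refine ⟨⟨?_, ?_⟩, conj_mem_cj h.zL, ?_, ?_, ?_, ?_, h.fact⟩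
  · exact h.surj.comp (cjEquiv g L).symm.surjective
  · intro x hx
    rw [hφ, h.ker, mem_cj]
  · rw [hφ]
    refine Eq.trans ?_ h.hz
    congr 1
    apply Subtype.ext
    show g⁻¹ * (g * z * g⁻¹) * g = z
    group
  · intro k hk
    obtain ⟨x, hx, hxM, hxk⟩ := h.le k hk
    refine ⟨g * x * g⁻¹, conj_mem_cj hx, conj_mem_cj hxM, ?_⟩
    rw [hφ, ← hxk]
    congr 1
    apply Subtype.ext
    show g⁻¹ * (g * x * g⁻¹) * g = x
    group
  · intro x hx hxM k hk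
    rw [hφ]
    exact h.nrm _ (mem_cj.1 hx) (mem_cj.1 hxM) k hk
  · rcases h.gen with h1 | h1
    · left
      intro x hx hxM
      rw [hφ]
      exact h1 _ (mem_cj.1 hx) (mem_cj.1 hxM)
    · exact Or.inr h1

variable [Finite G]

/-- **an element acting trivially on `M / O(M)` acts trivially on `K0`** -/
theorem fix (h : MFact L O M z φ K0 z0) (hP : Pc C L O) {x : G} (hx : x ∈ C)
    (ht : AutAct.Triv x M) {a : MulAut Lb}
    (ha : ∀ y (hy : y ∈ L), a (φ ⟨y, hy⟩) = φ ⟨x * y * x⁻¹, hP.conjL hx hy⟩) : ∀ k ∈ K0, a k = k := by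
  -- `N1 = φ (O(M) ⊓ L)`
  obtain ⟨N1, hN1⟩ : ∃ N1 : Subgroup Lb, N1 = ((OO M).subgroupOf L).map φ := ⟨_, rfl⟩
  have hmem : ∀ w, w ∈ N1 ↔ ∃ y, ∃ hy : y ∈ L, y ∈ OO M ∧ φ ⟨y, hy⟩ = w := by
    intro w
    rw [hN1]
    constructor
    · rintro ⟨⟨y, hy⟩, h1, h2⟩
      exact ⟨y, hy, h1, h2⟩
    · rintro ⟨y, hy, h1, h2⟩
      exact ⟨⟨y, hy⟩, h1, h2⟩
  have hodd : Odd (Nat.card N1) := by
    have h1 : Nat.card N1 ∣ Nat.card (OO M) := by
      rw [hN1]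
      refine (card_map_dvd _ _).trans ?_
      have h2 := Subgroup.card_dvd_of_injective
        (⟨⟨fun y => (⟨((y : L) : G), y.2⟩ : OO M), rfl⟩, fun _ _ => rfl⟩ : ((OO M).subgroupOf L) →* OO M)
        (fun a b hab => Subtype.ext (Subtype.ext (congrArg (fun w : OO M => (w : G)) hab)))
      exact h2
    exact Odd.of_dvd_nat (Nat.odd_iff.2 (Nat.two_dvd_ne_zero.1 (odd_OO M))) h1
  have hkN : ∀ k ∈ K0, a k * k⁻¹ ∈ N1 := by
    intro k hk
    obtain ⟨m, hm, hmM, rfl⟩ := h.le k hk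
    rw [ha, ← Epi.map_inv' φ hm, ← Epi.map_mul' φ (hP.conjL hx hm) (L.inv_mem hm), hmem]
    exact ⟨_, _, ht m hmM, rfl⟩
  have hconj : ∀ k ∈ K0, ∀ w ∈ N1, k * w * k⁻¹ ∈ N1 := by
    intro k hk w hw
    obtain ⟨m, hm, hmM, rfl⟩ := h.le k hk
    obtain ⟨y, hy, hyO, rfl⟩ := (hmem w).1 hw
    rw [← Epi.map_inv' φ hm, ← Epi.map_mul' φ hm hy,
      ← Epi.map_mul' φ (L.mul_mem hm hy) (L.inv_mem hm), hmem]
    exact ⟨_, _, (mem_normalizer_iff.1 (le_normalizer_OO M hmM) y).1 hyO, rfl⟩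
  have hnorm : ∀ w ∈ N1, ∀ k ∈ K0, w * k * w⁻¹ ∈ K0 := by
    intro w hw k hk
    obtain ⟨y, hy, hyO, rfl⟩ := (hmem w).1 hw
    exact h.nrm y hy (OO_le M hyO) k hk
  have hinf : N1 ⊓ K0 = ⊥ := by
    apply h.fact.core _ inf_le_right
    · intro k hk
      rw [mem_normalizer_iff]
      intro w
      constructor
      · rintro ⟨h1, h2⟩
        exact ⟨hconj k hk w h1, K0.mul_mem (K0.mul_mem hk h2) (K0.inv_mem hk)⟩
      · rintro ⟨h1, h2⟩
        have h3 := hconj k⁻¹ (K0.inv_mem hk) _ h1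
        have h4 := K0.mul_mem (K0.mul_mem (K0.inv_mem hk) h2) hk
        have h5 : k⁻¹ * (k * w * k⁻¹) * k⁻¹⁻¹ = w := by group
        have h6 : k⁻¹ * (k * w * k⁻¹) * k = w := by group
        rw [h5] at h3
        rw [h6] at h4
        exact ⟨h3, h4⟩
    · exact Odd.of_dvd_nat hodd (card_dvd_of_le inf_le_left)
  have hcomm : ∀ w ∈ N1, ∀ k ∈ K0, w * k = k * w := by
    intro w hw k hk
    have h1 : w * k * w⁻¹ * k⁻¹ ∈ N1 ⊓ K0 := by
      refine ⟨?_, K0.mul_mem (hnorm w hw k hk) (K0.inv_mem hk)⟩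
      have h2 := N1.mul_mem hw (hconj k hk _ (N1.inv_mem hw))
      have h3 : w * (k * w⁻¹ * k⁻¹) = w * k * w⁻¹ * k⁻¹ := by group
      rwa [h3] at h2
    rw [hinf, mem_bot] at h1
    calc w * k = (w * k * w⁻¹ * k⁻¹) * (k * w) := by group
      _ = k * w := by rw [h1, one_mul]
  rcases h.gen with h1 | h1
  · -- `M1 = K0`
    have hN : N1 ≤ K0 := by
      intro w hw
      obtain ⟨y, hy, hyO, rfl⟩ := (hmem w).1 hw
      exact h1 y hy (OO_le M hyO)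
    intro k hk
    have h2 := hkN k hk
    have h3 : a k * k⁻¹ ∈ N1 ⊓ K0 := ⟨h2, hN h2⟩
    rw [hinf, mem_bot, mul_inv_eq_one] at h3
    exact h3
  · -- `K0` is generated by 2-elements
    let H : Subgroup Lb :=
      { carrier := {k | a k = k}
        mul_mem' := fun {x y} hx hy => by
          show a (x * y) = x * y
          rw [map_mul, show a x = x from hx, show a y = y from hy]
        one_mem' := map_one a
        inv_mem' := fun {x} hx => by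
          show a x⁻¹ = x⁻¹
          rw [map_inv, show a x = x from hx] }
    refine h1 H ?_
    rintro k hk ⟨n, hn⟩
    show a k = k
    have h2 := hkN k hk
    have h3 : (a k * k⁻¹) ^ 2 ^ n = 1 := by
      have h4 : Commute (a k * k⁻¹) k := hcomm _ h2 k hk
      have h5 : (a k * k⁻¹ * k) ^ 2 ^ n = 1 := by
        rw [inv_mul_cancel_right, ← map_pow, hn, map_one]
      rwa [h4.mul_pow, hn, mul_one] at h5
    have h6 : orderOf (a k * k⁻¹) = 1 := by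
      have h7 : orderOf (a k * k⁻¹) ∣ 2 ^ n := orderOf_dvd_of_pow_eq_one h3
      have h8 : orderOf (a k * k⁻¹) ∣ Nat.card N1 := by
        have h9 := orderOf_dvd_natCard (⟨_, h2⟩ : N1)
        rwa [← Subgroup.orderOf_coe] at h9
      have h10 : Nat.Coprime (2 ^ n) (Nat.card N1) := Nat.Coprime.pow_left n
        (Nat.coprime_two_left.mpr hodd)
      exact Nat.eq_one_of_dvd_coprimes h10 h7 h8
    rw [orderOf_eq_one_iff, mul_inv_eq_one] at h6
    exact h6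

/-- an involution of `C` centralising a Sylow 2-subgroup of `M` acts on `Lb` trivially or as `z0` -/
theorem tv_or (h : MFact L O M z φ K0 z0) (hP : Pc C L O) {x : G} (hx : x ∈ C) (hx2 : x * x = 1)
    (ht : AutAct.Triv x M) (hz2 : z * z = 1) : Tv L O x ∨ Tv L O (x * z) := by
  obtain ⟨a, ha2, ha⟩ := h.exists_aut_sq hP hx hx2
  rcases h.fact.inn a ha2 (h.fix hP hx ht ha) with h1 | h1
  · exact Or.inl (h.tv_of_one hP hx ha h1)
  · right
    have h2 := h.tv_of_conj hP hx h.zL ha (by rw [h1, h.hz])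
    have hzC := hP.le h.zL
    have h3 := hP.tv_conj hzC h2
    have h4 : z * (z⁻¹ * x) * z⁻¹ = x * z := by
      rw [mul_inv_cancel_left, inv_of_sq hz2]
    rwa [h4] at h3

/-- a lift of an involution of `Lb` commuting with `z0` -/
theorem exists_lift (h : MFact L O M z φ K0 z0) (hP : Pc C L O) (hz2 : z * z = 1) {t : Lb}
    (ht2 : t * t = 1) (htz : t * z0 = z0 * t) :
    ∃ l, ∃ hl : l ∈ L, φ ⟨l, hl⟩ = t ∧ l * l = 1 ∧ l * z = z * l := by
  obtain ⟨l, hl, hlt⟩ := h.exists_mem t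
  have h1 : l * l ∈ O := by
    rw [← h.ker _ (L.mul_mem hl hl), Epi.map_mul' φ hl hl, hlt, ht2]
  obtain ⟨l₀, hl₀, hl₀2, hl₀O⟩ := exists_sq_one hP.odd h1
  have hl₀L : l₀ ∈ L := (zpowers_le.2 hl) hl₀
  have h2 : φ ⟨l₀, hl₀L⟩ = t := by
    rw [← hlt, eq_comm, ← mul_right_inj (φ ⟨l, hl⟩)⁻¹, inv_mul_cancel, ← Epi.map_inv' φ hl,
      ← Epi.map_mul' φ (L.inv_mem hl) hl₀L, eq_comm, h.ker]
    exact hl₀O
  have h3 : z * l₀ * (z * l₀) ∈ O := by
    rw [← h.ker _ (L.mul_mem (L.mul_mem h.zL hl₀L) (L.mul_mem h.zL hl₀L)),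
      Epi.map_mul' φ (L.mul_mem h.zL hl₀L) (L.mul_mem h.zL hl₀L), Epi.map_mul' φ h.zL hl₀L, h.hz, h2]
    calc z0 * t * (z0 * t) = z0 * (t * z0) * t := by group
      _ = (z0 * z0) * (t * t) := by rw [htz]; group
      _ = 1 := by rw [h.fact.sq, ht2, one_mul]
  obtain ⟨n, hn, hnc⟩ := exists_comm_of_mem hP.odd hz2 hl₀2 h3
  have hnO : n ∈ O := (zpowers_le.2 h3) hn
  have hnL := hP.ole hnO
  refine ⟨n * l₀ * n⁻¹, L.mul_mem (L.mul_mem hnL hl₀L) (L.inv_mem hnL), ?_, ?_, hnc.symm⟩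
  · rw [Epi.map_mul' φ (L.mul_mem hnL hl₀L) (L.inv_mem hnL), Epi.map_mul' φ hnL hl₀L,
      Epi.map_inv' φ hnL, (h.ker n hnL).2 hnO, h2]
    group
  · calc n * l₀ * n⁻¹ * (n * l₀ * n⁻¹) = n * (l₀ * l₀) * n⁻¹ := by group
      _ = 1 := by rw [hl₀2]; group

end MFact

section Main

variable [Finite G]

/-- **`LPiece` and `OutP` from the facts on the simple group `LL K / O(C(z_K))`** -/
theorem of_fact (h : Two Om) (hty : ∀ K ∈ Om, IsType K)
    (cj : ∀ K ∈ Om, ∀ g, LL (Cit.cj g K) = Cit.cj g (LL K))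
    (pc : ∀ K ∈ Om, Pc (centralizer {zz K}) (LL K) (OO (centralizer {zz K})))
    (comm : ∀ K ∈ Om, ∀ k ∈ K, TV LL K k)
    (part : ∀ K L R : Subgroup G, IsPGroup 2 R → K ∈ OmS Om R → L ∈ OmS Om R → K ≠ L → L ⊓ R ≤ LL K)
    {Lb : Type*} [Group Lb] {K0 : Subgroup Lb} {z0 : Lb}
    (hM : ∃ K M, Pt Om K M ∧ ∃ φ : LL K →* Lb, MFact (LL K) (OO (centralizer {zz K})) M (zz M) φ K0 z0) :
    LPiece Om LL ∧ OutP Om LL := by
  have hM' : ∀ K M, Pt Om K M →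
      ∃ φ : LL K →* Lb, MFact (LL K) (OO (centralizer {zz K})) M (zz M) φ K0 z0 := by
    obtain ⟨K, M, hP, φ, hφ⟩ := hM
    intro K' M' hP'
    obtain ⟨g, rfl, rfl⟩ := h.pt_trans hP hP'
    have h1 := hφ.cj g
    rw [← OO_cj, cj_centralizer, ← h.hyp.zz_cj hP.left, ← h.hyp.zz_cj hP.right] at h1
    rw [cj K hP.left g]
    exact ⟨_, h1⟩
  have mem : ∀ K M, Pt Om K M → zz M ∈ LL K := by
    rintro K M ⟨hne, R, hR, hK, hM⟩
    exact part K M R hR hK hM hne (h.hyp.zz_mem_inf hR hM)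
  -- an involution centralising a Sylow 2-subgroup of a partner
  have key : ∀ K M, Pt Om K M → ∀ Q, Syl Q M → ∀ x, x * x = 1 → x * zz K = zz K * x →
      (∀ q ∈ Q, x * q = q * x) → TV LL K x ∨ TV LL K (x * zz M) := by
    intro K M hP Q hQ x hx2 hxK hxQ
    obtain ⟨φ, hφ⟩ := hM' K M hP
    have hzQ : zz M ∈ Q := by
      obtain ⟨R, hR⟩ := hQ.exists_sylow
      have h1 : Syl (M ⊓ Q) M := by
        rw [inf_eq_right.2 hQ.1]; exact hQ
      have h2 : M ∈ OmS Om Q := mem_OmS_of_le hP.right hQ le_rfl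
      exact (h.hyp.zz_mem_inf hQ.2.1 h2).2
    have hxM : x * zz M = zz M * x := hxQ _ hzQ
    have hxn := h.mem_normalizer hP.right hxM
    have ht := AutAct.triv_of_cent (hty M hP.right) hQ hxn (b := 1) (by rw [pow_one, pow_two, hx2]) hxQ
    exact hφ.tv_or (pc K hP.left) (mem_centralizer_singleton_iff.2 hxK) hx2 ht (h.hyp.zz_mul hP.right)
  refine ⟨⟨cj, pc, comm, part, ?_, ?_, ?_, ?_⟩, ?_⟩
  · -- (L1)
    intro K hK s hs t ht hs2 hs1 ht2 ht1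
    obtain ⟨M, hP⟩ := exists_pt h hK
    obtain ⟨φ, hφ⟩ := hM' K M hP
    have hp := pc K hK
    have hne : ∀ s (hs : s ∈ LL K), s * s = 1 → s ≠ 1 → φ ⟨s, hs⟩ ≠ 1 := by
      intro s hs hs2 hs1 h1
      exact hs1 (hp.eq_one ((hφ.ker s hs).1 h1) hs2)
    have hsq : ∀ s (hs : s ∈ LL K), s * s = 1 → φ ⟨s, hs⟩ * φ ⟨s, hs⟩ = 1 := by
      intro s hs hs2
      rw [← Epi.map_mul' φ hs hs, hφ.ker, hs2]
      exact one_mem _
    obtain ⟨g', hg'⟩ := hφ.fact.one _ _ (hsq s hs hs2) (hne s hs hs2 hs1) (hsq t ht ht2) (hne t ht ht2 ht1)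
    obtain ⟨g, hg, rfl⟩ := hφ.exists_mem g'
    have hgs : g * s * g⁻¹ ∈ LL K := (LL K).mul_mem ((LL K).mul_mem hg hs) ((LL K).inv_mem hg)
    have h1 : g * s * g⁻¹ * t ∈ OO (centralizer {zz K}) := by
      have h2 : g * s * g⁻¹ * t⁻¹ ∈ OO (centralizer {zz K}) := by
        rw [← hφ.eq_iff hgs ht, ← hg', ← Epi.map_inv' φ hg, ← Epi.map_mul' φ hg hs,
          ← Epi.map_mul' φ ((LL K).mul_mem hg hs) ((LL K).inv_mem hg)]
      rwa [inv_of_sq ht2] at h2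
    have h3 : g * s * g⁻¹ * (g * s * g⁻¹) = 1 := by
      calc g * s * g⁻¹ * (g * s * g⁻¹) = g * (s * s) * g⁻¹ := by group
        _ = 1 := by rw [hs2]; group
    obtain ⟨n, hn, hnt⟩ := Parab.exists_conj_of_mem hp.odd h3 ht2 h1
    refine ⟨n * g, (LL K).mul_mem (hp.ole hn) hg, ?_⟩
    rw [← hnt]; group
  · -- (L2), first part
    intro K M hP Q hQ hQL t ht ht2 ht1 htQ
    have hp := pc K hP.left
    have htK : t * zz K = zz K * t := mem_centralizer_singleton_iff.1 (hp.le ht)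
    have hzQ : zz M ∈ Q :=
      (h.hyp.zz_mem_inf hQ.2.1 (mem_OmS_of_le hP.right hQ le_rfl)).2
    rcases key K M hP Q hQ t ht2 htK htQ with h1 | h1
    · exact absurd (hp.eq_one (hp.cent t ht h1) ht2) ht1
    · have hzz := h.hyp.zz_mul hP.right
      have h2 := hp.cent _ ((LL K).mul_mem ht (mem K M hP)) h1
      have h3 := hp.eq_one h2 (by
        calc t * zz M * (t * zz M) = t * (zz M * t) * zz M := by group
          _ = (t * t) * (zz M * zz M) := by rw [← htQ _ hzQ]; group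
          _ = 1 := by rw [ht2, hzz, one_mul])
      rw [← inv_of_sq hzz]
      exact eq_inv_of_mul_eq_one_left h3
  · -- (L2), second part
    intro K M hP
    obtain ⟨φ, hφ⟩ := hM' K M hP
    obtain ⟨t, t1, t2, t3, t4⟩ := hφ.fact.four
    obtain ⟨l, hl, rfl, h2, h3⟩ := hφ.exists_lift (pc K hP.left) (h.hyp.zz_mul hP.right) t1 t4
    refine ⟨l, hl, h2, ?_, ?_, h3⟩
    · rintro rfl
      exact t2 (Epi.map_one' φ)
    · rintro rfl
      exact t3 hφ.hz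
  · -- (L3)
    intro K hK P hPs x hx hx2 hxP
    have hp := pc K hK
    obtain ⟨M, T, hPT, f⟩ := exists_frame' h hK hPs.2.1 (hPs.1.trans hp.le)
    have hPP := f.pt
    have h1 : LL K ⊓ T = P :=
      (OneBasic.syl_eq_of_le hPs (f.hT.to_le inf_le_right) inf_le_left (le_inf hPs.1 hPT)).symm
    have h2 : M ⊓ T ≤ P := by
      rw [← h1]
      exact le_inf (part K M T f.hT f.kT f.lT f.ne) inf_le_right
    have h3 : zz M ∈ P := h2 (h.hyp.zz_mem_inf f.hT f.lT)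
    rcases key K M hPP _ (syl_inf f.hT f.lT) x hx2 (mem_centralizer_singleton_iff.1 hx)
      (fun q hq => hxP q (h2 hq)) with h4 | h4
    · exact ⟨1, P.one_mem, by rwa [mul_one]⟩
    · exact ⟨zz M, h3, h4⟩
  · -- (F4')
    intro K M hP x hx2 hxK hxM hout
    have hp := pc K hP.left
    have hxC : x ∈ centralizer {zz K} := mem_centralizer_singleton_iff.2 hxK
    obtain ⟨φ, hφ⟩ := hM' K M hP
    obtain ⟨a, ha2, ha⟩ := hφ.exists_aut_sq hp hxC hx2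
    have h1 : ∀ l, a ≠ MulAut.conj l := by
      intro l hl
      obtain ⟨y, hy, rfl⟩ := hφ.exists_mem l
      have h2 := hφ.tv_of_conj hp hxC hy ha hl
      apply hout
      refine ⟨y⁻¹, (LL K).inv_mem hy, ?_⟩
      have h3 := hp.tv_conj (hp.le hy) h2
      have h4 : y * (y⁻¹ * x) * y⁻¹ = x * y⁻¹ := by group
      rwa [h4] at h3
    have hzz := h.hyp.zz_mul hP.right
    obtain ⟨t, t1, t2, t3, t4, t5⟩ := hφ.fact.out a ha2 h1 (by
      rw [← hφ.hz, ha]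
      congr 1
      apply Subtype.ext
      show x * zz M * x⁻¹ = zz M
      rw [hxM, mul_inv_cancel_right])
    obtain ⟨l, hl, rfl, hl2, hlz⟩ := hφ.exists_lift hp hzz t1 t4
    have hxi := inv_of_sq hx2
    -- make it commute with `x`
    have h5 : x * l * (x * l) ∈ OO (centralizer {zz K}) := by
      have h6 := (hφ.eq_iff (hp.conjL hxC hl) hl).1 ((ha l hl).symm.trans t5)
      rw [inv_of_sq hl2, hxi] at h6
      have h7 : x * l * x * l = x * l * (x * l) := by group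
      rwa [h7] at h6
    have h6 : x * l * (x * l) ∈ centralizer {zz M} := by
      have h7 : x * l ∈ centralizer {zz M} :=
        mul_mem (mem_centralizer_singleton_iff.2 hxM) (mem_centralizer_singleton_iff.2 hlz)
      exact mul_mem h7 h7
    have hodd : Odd (Nat.card (OO (centralizer {zz K}) ⊓ centralizer {zz M} : Subgroup G)) :=
      Odd.of_dvd_nat hp.odd (card_dvd_of_le inf_le_left)
    have h56 : x * l * (x * l) ∈ OO (centralizer {zz K}) ⊓ centralizer {zz M} := ⟨h5, h6⟩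
    obtain ⟨n, hn, hnc⟩ := exists_comm_of_mem hodd hx2 hl2 h56
    have hn' : n ∈ OO (centralizer {zz K}) ⊓ centralizer {zz M} := (zpowers_le.2 h56) hn
    have hnL := hp.ole hn'.1
    have hnz : n * zz M = zz M * n := mem_centralizer_singleton_iff.1 hn'.2
    have hφn : φ ⟨n * l * n⁻¹, (LL K).mul_mem ((LL K).mul_mem hnL hl) ((LL K).inv_mem hnL)⟩ = φ ⟨l, hl⟩ := by
      rw [Epi.map_mul' φ ((LL K).mul_mem hnL hl) ((LL K).inv_mem hnL), Epi.map_mul' φ hnL hl,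
        Epi.map_inv' φ hnL, (hφ.ker n hnL).2 hn'.1]
      group
    refine ⟨n * l * n⁻¹, (LL K).mul_mem ((LL K).mul_mem hnL hl) ((LL K).inv_mem hnL), ?_, ?_, ?_, ?_, hnc⟩
    · calc n * l * n⁻¹ * (n * l * n⁻¹) = n * (l * l) * n⁻¹ := by group
        _ = 1 := by rw [hl2]; group
    · intro h7
      apply t2
      rw [← hφn, ← Epi.map_one' φ]
      congr 1
      exact Subtype.ext h7
    · intro h7
      apply t3
      rw [← hφn, ← hφ.hz]
      congr 1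
      exact Subtype.ext h7
    · have h7 : n * l * n⁻¹ ∈ centralizer {zz M} :=
        mul_mem (mul_mem hn'.2 (mem_centralizer_singleton_iff.2 hlz)) (inv_mem hn'.2)
      exact mem_centralizer_singleton_iff.1 h7

end Main

end Cfsg.Agent.Cit.TwoB
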