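import Cfsg.Agent.Cit.TwoB.Back
import Cfsg.Agent.Cit.TwoB.OfFact

/-!
# `|Om(S)| = 2`, `z₁ ≠ z₂`, case B, twisted: the structure of `C(t) / O(C(t))`, `t = z_K`

`XData.cenOut`: `CoreLoc.CenOut` for the image of `LL K`; `XData.cenK`: `CoreOut.CenK`.
-/

set_option autoImplicit false
set_option maxHeartbeats 400000
set_option linter.style.haveILetI false
set_option linter.unusedSectionVars false

namespace Cfsg.Agent.Cit.TwoB

open Subgroup Cfsg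
open Cfsg.Agent.SignalizersComponents.GoldschmidtFunctor (bar mem_bar)
open Cfsg.Agent.TypeLFive.CoreBalance (Q M M_odd mem_bar_iff)
open Cfsg.Agent.TypeLFive.CoreLoc (CenOut EE)
open Cfsg.Agent.TypeLFive.CoreOut (CenK mk_eq_one_iff not_mem_M)
open Cfsg.Agent.TypeLFive.LThreeDef (Facts)

universe u

local notation "mkQ" => Cfsg.Agent.TypeLFive.CoreLoc.mk

/-- two epimorphisms with the same kernel -/
theorem exists_equiv_of_iff {A B C : Type*} [Group A] [Group B] [Group C] (f : A →* B) (g : A →* C)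
    (hf : Function.Surjective f) (hg : Function.Surjective g) (h : ∀ x, f x = 1 ↔ g x = 1) :
    ∃ e : B ≃* C, ∀ x, e (f x) = g x := by
  have hk : f.ker = g.ker := by
    ext x
    rw [MonoidHom.mem_ker, MonoidHom.mem_ker, h]
  refine ⟨((QuotientGroup.quotientKerEquivOfSurjective f hf).symm.trans
    (QuotientGroup.quotientMulEquivOfEq hk)).trans (QuotientGroup.quotientKerEquivOfSurjective g hg), ?_⟩
  intro x
  have h1 : (QuotientGroup.quotientKerEquivOfSurjective f hf).symm (f x) = (x : A ⧸ f.ker) := by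
    rw [MulEquiv.symm_apply_eq]
    rfl
  rw [MulEquiv.trans_apply, MulEquiv.trans_apply, h1]
  rfl

variable {G : Type u} [Group G] {Om : Set (Subgroup G)} {K L T : Subgroup G}
  {LL : Subgroup G → Subgroup G} {F : SylowLFive.Frame.FrX G} {Lb : Type*} [Group Lb]

theorem M_eq_OO (b : G) : M b = OO (centralizer {b}) := rfl

theorem mk_mul' {b x y : G} (hx : x ∈ centralizer ({b} : Set G)) (hy : y ∈ centralizer ({b} : Set G)) :
    mkQ b (x * y) (mul_mem hx hy) = mkQ b x hx * mkQ b y hy := rfl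

theorem mk_inv' {b x : G} (hx : x ∈ centralizer ({b} : Set G)) :
    mkQ b x⁻¹ (inv_mem hx) = (mkQ b x hx)⁻¹ := rfl

theorem exists_rep (b : G) (y : Q b) : ∃ (x : G) (h : x ∈ centralizer ({b} : Set G)), mkQ b x h = y := by
  obtain ⟨c, rfl⟩ := QuotientGroup.mk'_surjective _ y
  exact ⟨c, c.2, rfl⟩

theorem mk_comm_iff {b x y : G} (hx : x ∈ centralizer ({b} : Set G)) (hy : y ∈ centralizer ({b} : Set G)) :
    mkQ b x hx * mkQ b y hy = mkQ b y hy * mkQ b x hx ↔ x * y * x⁻¹ * y⁻¹ ∈ M b := by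
  rw [← mk_eq_one_iff (mul_mem (mul_mem (mul_mem hx hy) (inv_mem hx)) (inv_mem hy)),
    mk_mul' (mul_mem (mul_mem hx hy) (inv_mem hx)) (inv_mem hy), mk_mul' (mul_mem hx hy) (inv_mem hx),
    mk_mul' hx hy, mk_inv', mk_inv', mul_inv_eq_one, mul_inv_eq_iff_eq_mul]

theorem bar_normal_of [Finite G] {b : G} {H : Subgroup G} (hn : ∀ c ∈ centralizer ({b} : Set G), ∀ x ∈ H, c * x * c⁻¹ ∈ H) :
    (bar b H).Normal := by
  constructor
  intro x hx g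
  obtain ⟨c, hc, rfl⟩ := exists_rep b g
  obtain ⟨y, hy, hyH, rfl⟩ := mem_bar_iff.1 hx
  exact mem_bar (mul_mem (mul_mem hc hy) (inv_mem hc)) (hn c hc y hyH)

/-- the preimage of a subgroup of `C(b) / O(C(b))` -/
def up (b : G) (N : Subgroup (Q b)) : Subgroup G :=
  (N.comap (QuotientGroup.mk' (pPrimeCore 2 ↥(centralizer ({b} : Set G))))).map
    (centralizer ({b} : Set G)).subtype

theorem mem_up {b x : G} {N : Subgroup (Q b)} :
    x ∈ up b N ↔ ∃ h : x ∈ centralizer ({b} : Set G), mkQ b x h ∈ N := by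
  constructor
  · rintro ⟨y, hy, rfl⟩
    exact ⟨y.2, hy⟩
  · rintro ⟨h, hx⟩
    exact ⟨⟨x, h⟩, hx, rfl⟩

/-- the element inducing `(2 3)` lies in `L ⊓ T` -/
theorem EData.exists_twoLT [Finite G] {e₁ e₂ : G} (hL : LPiece Om LL) (h : Two Om) (d : EData Om LL K L T e₁ e₂) :
    ∃ n ∈ L ⊓ T, n * zz K = zz K * n ∧ n * zz L = zz L * n ∧ n * e₁ = e₁ * n ∧ n * e₂ * n⁻¹ = zz L * e₂ := by
  obtain ⟨M, hM, hMe⟩ := hL.exists_pt_of_mem h d.fr.kT.1 d.m2 d.s2 d.n2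
  have hn : zz M ∈ normalizer ((L ⊓ T : Subgroup G) : Set G) := by
    rw [hMe, mem_normalizer_iff_cj, cj_inf, (h.cj_eq_iff d.fr.lT.1).2 (d.fr.commL d.t2),
      mem_normalizer_iff_cj.1 (le_normalizer d.t2)]
  have hne : L ≠ M := by
    rintro rfl
    exact d.z2 hMe.symm
  obtain ⟨n, hnLT, hn1⟩ := (h.zz_or d.fr.lT.1 hM.right hne (syl_inf d.fr.hT d.fr.lT) hn).resolve_left
    (d.not_pt hL h hMe)
  rw [hMe] at hn1
  have hnK := hL.part K L T d.fr.hT d.fr.kT d.fr.lT d.fr.ne hnLT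
  exact ⟨n, hnLT, d.fr.commK hnLT.2, d.fr.commL hnLT.2, (hL.comm_inf h d.fr d.m1 d.t1 hnK hnLT.2).symm, hn1⟩

namespace XData

section

variable (D : XData Om LL K L T F)

include D

theorem cen_eq : centralizer ({F.T 0 1} : Set G) = centralizer {zz K} := by rw [D.a01]

theorem M_eq : M (F.T 0 1) = OO (centralizer {zz K}) := by rw [D.a01]; rfl

theorem LL_le {x : G} (hx : x ∈ LL K) : x ∈ centralizer ({F.T 0 1} : Set G) := by
  rw [D.cen_eq]; exact (D.pc.pc K D.fr.kT.1).le hx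

theorem nml {c x : G} (hc : c ∈ centralizer ({F.T 0 1} : Set G)) (hx : x ∈ LL K) : c * x * c⁻¹ ∈ LL K := by
  rw [D.cen_eq] at hc
  exact (D.pc.pc K D.fr.kT.1).conjL hc hx

theorem tv_iff {x : G} : TV LL K x ↔ ∀ y ∈ LL K, x * y * x⁻¹ * y⁻¹ ∈ M (F.T 0 1) := by
  rw [D.M_eq]; rfl

theorem comm_of_TV [Finite G] {x : G} (hx : x ∈ centralizer ({F.T 0 1} : Set G)) (ht : TV LL K x) :
    ∀ j ∈ bar (F.T 0 1) (LL K), mkQ (F.T 0 1) x hx * j = j * mkQ (F.T 0 1) x hx := by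
  intro j hj
  obtain ⟨y, hy, hyL, rfl⟩ := mem_bar_iff.1 hj
  exact (mk_comm_iff hx hy).2 (D.tv_iff.1 ht y hyL)

variable [Finite G]

theorem T_cen (i j : Fin 5) : F.T i j ∈ centralizer ({F.T 0 1} : Set G) :=
  mem_centralizer_singleton_iff.2 (F.toFr.comm i j 0 1)

/-- `z_1 = t_04 t_23` acts trivially on `LL K / O` -/
theorem tv_one : TV LL K (F.T 0 4 * F.T 2 3) := by
  rw [D.a23]
  refine D.tw K L D.fr.pt _ D.m04 ?_ (F.toFr.T_sq 0 4) (F.toFr.T_ne_one (by decide)) ?_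
  · rw [← D.a01]; exact F.toFr.comm 0 4 0 1
  · rw [← D.a01]
    intro h1
    apply F.toFr.T_ne_one (i := 1) (j := 4) (by decide)
    rw [← F.T_mul 1 0 4, F.T_symm 1 0, h1, F.toFr.T_sq]

theorem tv_zz : TV LL K (F.T 0 1) := by
  rw [D.a01]
  exact D.pc.comm K D.fr.kT.1 _ (D.two.hyp.zz_mem D.fr.kT.1)

/-- `z_0` acts trivially on `LL K / O` -/
theorem tv_zero : TV LL K (F.toFr.z 0) := by
  have e1 : F.toFr.z 0 = F.T 0 4 * F.T 2 3 * F.T 0 1 := by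
    have h1 : F.T 0 4 * F.T 2 3 = F.toFr.z 1 :=
      F.toFr.TT_eq_z (by decide) (by decide) (by decide) (by decide) (by decide) (by decide) (by decide)
        (by decide) (by decide) (by decide)
    rw [h1, F.T_symm 0 1, F.toFr.z_mul_T]
  rw [e1]
  refine (D.pc.pc K D.fr.kT.1).tv_mul ?_ D.tv_one D.tv_zz
  rw [← D.cen_eq]
  exact mul_mem (D.T_cen 0 4) (D.T_cen 2 3)

/-- the isomorphism of the image of `LL K` in `C(t) / O(C(t))` with `Lb` -/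
theorem exists_equiv {φ : LL K →* Lb} (hφ : Epi (LL K) (OO (centralizer {zz K})) φ) :
    ∃ e : bar (F.T 0 1) (LL K) ≃* Lb, ∀ x (hx : x ∈ LL K),
      e ⟨mkQ (F.T 0 1) x (D.LL_le hx), mem_bar (D.LL_le hx) hx⟩ = φ ⟨x, hx⟩ := by
  let ρ : LL K →* bar (F.T 0 1) (LL K) :=
    { toFun := fun x => ⟨mkQ (F.T 0 1) x (D.LL_le x.2), mem_bar (D.LL_le x.2) x.2⟩
      map_one' := rfl
      map_mul' := fun _ _ => rfl }
  have hρ : Function.Surjective ρ := by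
    rintro ⟨y, hy⟩
    obtain ⟨x, hx, hxL, rfl⟩ := mem_bar_iff.1 hy
    exact ⟨⟨x, hxL⟩, rfl⟩
  obtain ⟨e, he⟩ := exists_equiv_of_iff ρ φ hρ hφ.surj (by
    rintro ⟨x, hx⟩
    rw [hφ.ker x hx, ← D.M_eq, ← mk_eq_one_iff (D.LL_le hx)]
    exact ⟨fun h => congrArg Subtype.val h, fun h => Subtype.ext h⟩)
  exact ⟨e, fun x hx => he ⟨x, hx⟩⟩

theorem mk_ne_one {x : G} (hx : x ∈ centralizer ({F.T 0 1} : Set G)) (h1 : x ≠ 1) (h2 : x * x = 1) :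
    mkQ (F.T 0 1) x hx ≠ 1 := fun h3 => not_mem_M h1 h2 ((mk_eq_one_iff hx).1 h3)

theorem mk_sq {x : G} (hx : x ∈ centralizer ({F.T 0 1} : Set G)) (h2 : x * x = 1) :
    mkQ (F.T 0 1) x hx * mkQ (F.T 0 1) x hx = 1 := by
  rw [← mk_mul' hx hx, mk_eq_one_iff, h2]
  exact one_mem _

theorem mk_T_ne {i j k : Fin 5} (hik : i ≠ k) :
    mkQ (F.T 0 1) (F.T i j) (D.T_cen i j) ≠ mkQ (F.T 0 1) (F.T j k) (D.T_cen j k) := by
  intro h1
  apply D.mk_ne_one (D.T_cen i k) (F.toFr.T_ne_one hik) (F.toFr.T_sq i k)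
  have h2 : mkQ (F.T 0 1) (F.T i j * F.T j k) (mul_mem (D.T_cen i j) (D.T_cen j k)) = 1 := by
    rw [mk_mul' (D.T_cen i j) (D.T_cen j k), h1]
    exact D.mk_sq (D.T_cen j k) (F.toFr.T_sq j k)
  rw [mk_eq_one_iff] at h2 ⊢
  rwa [F.T_mul] at h2

theorem pair_mk (x y : Q (F.T 0 1)) (hxy : x * y = y * x) (g : Q (F.T 0 1)) :
    g * x * g⁻¹ * (g * y * g⁻¹) = g * y * g⁻¹ * (g * x * g⁻¹) := by
  calc g * x * g⁻¹ * (g * y * g⁻¹) = g * (x * y) * g⁻¹ := by group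
    _ = g * (y * x) * g⁻¹ := by rw [hxy]
    _ = _ := by group

/-- `CenOut` -/
theorem cenOut {φ : LL K →* Lb} (hφ : Epi (LL K) (OO (centralizer {zz K})) φ) {p : ℕ} (hf : Facts Lb p)
    (hp : LPair Lb) : CenOut (F.T 0 1) (F.T 2 3) (F.T 3 4) (F.toFr.z 0) p (bar (F.T 0 1) (LL K)) := by
  obtain ⟨e, he⟩ := D.exists_equiv hφ
  have hn : (bar (F.T 0 1) (LL K)).Normal := bar_normal_of fun c hc x hx => D.nml hc hx
  have hz : F.toFr.z 0 ∈ centralizer ({F.T 0 1} : Set G) := mul_mem (D.T_cen _ _) (D.T_cen _ _)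
  have hp' : LPair (bar (F.T 0 1) (LL K)) := hp.of_equiv e.symm
  have m1 : mkQ (F.T 0 1) (F.T 2 3) (D.T_cen 2 3) ∈ bar (F.T 0 1) (LL K) := mem_bar (D.T_cen 2 3) D.m23
  have m2 : mkQ (F.T 0 1) (F.T 3 4) (D.T_cen 3 4) ∈ bar (F.T 0 1) (LL K) := mem_bar (D.T_cen 3 4) D.m34
  refine ⟨D.T_cen 2 3, D.T_cen 3 4, hz, hn, m1, m2, D.comm_of_TV hz D.tv_zero, ?_, hf.congr e.symm⟩
  intro x
  set s : Q (F.T 0 1) := mkQ (F.T 0 1) (F.T 2 3) (D.T_cen 2 3) with hs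
  set t : Q (F.T 0 1) := mkQ (F.T 0 1) (F.T 3 4) (D.T_cen 3 4) with ht
  have s1 : s ≠ 1 := D.mk_ne_one (D.T_cen 2 3) (F.toFr.T_ne_one (by decide)) (F.toFr.T_sq 2 3)
  have t1 : t ≠ 1 := D.mk_ne_one (D.T_cen 3 4) (F.toFr.T_ne_one (by decide)) (F.toFr.T_sq 3 4)
  have s2 : s * s = 1 := D.mk_sq (D.T_cen 2 3) (F.toFr.T_sq 2 3)
  have t2 : t * t = 1 := D.mk_sq (D.T_cen 3 4) (F.toFr.T_sq 3 4)
  have hst : s ≠ t := D.mk_T_ne (by decide)
  have hc : s * t = t * s := by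
    rw [hs, ht, mk_comm_iff, F.toFr.comm 2 3 3 4]
    simp
  have cj1 : ∀ y : Q (F.T 0 1), x * y * x⁻¹ = 1 → y = 1 := by
    intro y hy
    calc y = x⁻¹ * (x * y * x⁻¹) * x := by group
      _ = 1 := by rw [hy]; group
  have cj2 : ∀ y : Q (F.T 0 1), y * y = 1 → x * y * x⁻¹ * (x * y * x⁻¹) = 1 := by
    intro y hy
    calc x * y * x⁻¹ * (x * y * x⁻¹) = x * (y * y) * x⁻¹ := by group
      _ = 1 := by rw [hy]; group
  have cj3 : ∀ y z : Q (F.T 0 1), x * y * x⁻¹ = x * z * x⁻¹ → y = z := by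
    intro y z h
    calc y = x⁻¹ * (x * y * x⁻¹) * x := by group
      _ = x⁻¹ * (x * z * x⁻¹) * x := by rw [h]
      _ = z := by group
  obtain ⟨g, hg1, hg2⟩ := hp' ⟨s, m1⟩ ⟨t, m2⟩ ⟨x * s * x⁻¹, hn.conj_mem s m1 x⟩ ⟨x * t * x⁻¹, hn.conj_mem t m2 x⟩
    (Subtype.ext s2) (fun h => s1 (congrArg Subtype.val h)) (Subtype.ext t2)
    (fun h => t1 (congrArg Subtype.val h)) (fun h => hst (congrArg Subtype.val h)) (Subtype.ext hc)
    (Subtype.ext (cj2 s s2)) (fun h => s1 (cj1 s (congrArg Subtype.val h))) (Subtype.ext (cj2 t t2))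
    (fun h => t1 (cj1 t (congrArg Subtype.val h))) (fun h => hst (cj3 _ _ (congrArg Subtype.val h)))
    (Subtype.ext (pair_mk D s t hc x))
  have h1 : (g : Q (F.T 0 1)) * s * (g : Q (F.T 0 1))⁻¹ = x * s * x⁻¹ := congrArg Subtype.val hg1
  have h2 : (g : Q (F.T 0 1)) * t * (g : Q (F.T 0 1))⁻¹ = x * t * x⁻¹ := congrArg Subtype.val hg2
  have key : ∀ y : Q (F.T 0 1), (g : Q (F.T 0 1)) * y * (g : Q (F.T 0 1))⁻¹ = x * y * x⁻¹ →
      (g : Q (F.T 0 1))⁻¹ * x * y = y * ((g : Q (F.T 0 1))⁻¹ * x) := by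
    intro y hy
    calc (g : Q (F.T 0 1))⁻¹ * x * y = (g : Q (F.T 0 1))⁻¹ * (x * y * x⁻¹) * x := by group
      _ = (g : Q (F.T 0 1))⁻¹ * ((g : Q (F.T 0 1)) * y * (g : Q (F.T 0 1))⁻¹) * x := by rw [hy]
      _ = y * ((g : Q (F.T 0 1))⁻¹ * x) := by group
  exact ⟨g, g.2, (g : Q (F.T 0 1))⁻¹ * x, by group, key s h1, key t h2⟩

theorem edata : EData Om LL K L T (F.T 0 4) (F.T 2 4) where
  fr := D.fr
  m1 := D.m04
  t1 := D.mem 0 4
  s1 := F.toFr.T_sq 0 4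
  n1 := F.toFr.T_ne_one (by decide)
  z1 := by
    rw [← D.a01]
    intro h1
    apply F.toFr.T_ne_one (i := 1) (j := 4) (by decide)
    rw [← F.T_mul 1 0 4, F.T_symm 1 0, h1, F.toFr.T_sq]
  m2 := D.m24
  t2 := D.mem 2 4
  s2 := F.toFr.T_sq 2 4
  n2 := F.toFr.T_ne_one (by decide)
  z2 := by
    rw [← D.a23]
    intro h1
    apply F.toFr.T_ne_one (i := 3) (j := 4) (by decide)
    rw [← F.T_mul 3 2 4, F.T_symm 3 2, h1, F.toFr.T_sq]

/-- an element of `K ⊓ T` inducing `(0 1)` -/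
theorem exists_swap01 : ∃ n ∈ K ⊓ T, n * F.T 0 1 = F.T 0 1 * n ∧ n * F.T 2 3 = F.T 2 3 * n ∧
    n * F.T 2 4 = F.T 2 4 * n ∧ n * F.T 0 4 * n⁻¹ = F.T 1 4 := by
  obtain ⟨n, hn, h1, h2, h3, h4⟩ := D.edata.symm.exists_twoLT D.pc D.two
  rw [← D.a01] at h2 h4
  rw [← D.a23] at h1
  refine ⟨n, hn, h2, h1, h3, ?_⟩
  rw [h4, F.T_symm 0 1, F.T_mul]

/-- an element of `L ⊓ T` inducing `(2 3)` -/
theorem exists_swap23 : ∃ n ∈ L ⊓ T, n * F.T 0 1 = F.T 0 1 * n ∧ n * F.T 2 3 = F.T 2 3 * n ∧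
    n * F.T 0 4 = F.T 0 4 * n ∧ n * F.T 2 4 * n⁻¹ = F.T 3 4 := by
  obtain ⟨n, hn, h1, h2, h3, h4⟩ := D.edata.exists_twoLT D.pc D.two
  rw [← D.a23] at h2 h4
  rw [← D.a01] at h1
  refine ⟨n, hn, h1, h2, h3, ?_⟩
  rw [h4, F.T_symm 2 3, F.T_mul]

theorem K_le : K ≤ centralizer ({F.T 0 1} : Set G) := by
  rw [D.cen_eq]; exact D.two.hyp.le_centralizer D.fr.kT.1

theorem K_nml {c x : G} (hc : c ∈ centralizer ({F.T 0 1} : Set G)) (hx : x ∈ K) : c * x * c⁻¹ ∈ K := by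
  rw [D.cen_eq] at hc
  have h1 := (D.two.cj_eq_iff D.fr.kT.1).2 (mem_centralizer_singleton_iff.1 hc)
  have h2 := conj_mem_cj (g := c) hx
  rwa [h1] at h2

/-- a normal subgroup of `C(t) / O(C(t))` containing the image of `E` contains the image of `K ⊓ T` -/
theorem cov_aux (hty : IsType K) {N : Subgroup (Q (F.T 0 1))} (hN : N.Normal)
    (hE : bar (F.T 0 1) (EE F) ≤ N) : bar (F.T 0 1) (K ⊓ T) ≤ N := by
  set P := up (F.T 0 1) N with hPd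
  have hPc : ∀ c ∈ centralizer ({F.T 0 1} : Set G), ∀ x ∈ P, c * x * c⁻¹ ∈ P := by
    intro c hc x hx
    obtain ⟨hxC, hxN⟩ := mem_up.1 hx
    refine mem_up.2 ⟨mul_mem (mul_mem hc hxC) (inv_mem hc), ?_⟩
    rw [mk_mul' (mul_mem hc hxC) (inv_mem hc), mk_mul' hc hxC, mk_inv']
    exact hN.conj_mem _ hxN _
  have hPn : centralizer {zz K} ≤ normalizer (P : Set G) := by
    rw [← D.cen_eq]
    intro c hc
    rw [mem_normalizer_iff]
    intro x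
    refine ⟨hPc c hc x, fun hx => ?_⟩
    have h1 := hPc c⁻¹ (inv_mem hc) _ hx
    have h2 : c⁻¹ * (c * x * c⁻¹) * c⁻¹⁻¹ = x := by group
    rwa [h2] at h1
  have hPC : P ≤ centralizer {zz K} := by
    rw [← D.cen_eq]
    intro x hx
    exact (mem_up.1 hx).1
  have hKn : K ≤ normalizer (P : Set G) := (D.two.hyp.le_centralizer D.fr.kT.1).trans hPn
  rcases hty.tyOne (K ⊓ P) inf_le_left (fun k hk => by
      rw [mem_normalizer_iff_cj, cj_inf, mem_normalizer_iff_cj.1 (le_normalizer hk),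
        mem_normalizer_iff_cj.1 (hKn hk)]) with h1 | h1
  · intro x hx
    obtain ⟨y, hy, hyK, rfl⟩ := mem_bar_iff.1 hx
    have h2 : y ∈ P := (h1 (K ⊓ T) (syl_inf D.fr.hT D.fr.kT) hyK).2
    exact (mem_up.1 h2).2
  · exfalso
    obtain ⟨n, ⟨hnK, -⟩, -, -, -, hn⟩ := D.exists_swap01
    have heP : F.T 0 4 ∈ P :=
      mem_up.2 ⟨D.T_cen 0 4, hE (mem_bar (D.T_cen 0 4) (TypeLFive.CoreLoc.T_mem_EE F 0 4))⟩
    have h2 := D.two.hyp.core_comm D.fr.kT.1 hty.tyTwo hKn h1 hnK ⟨heP, hPC heP⟩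
    rw [inf_eq_left.2 hPC, hn] at h2
    have h3 : F.T 1 4 * (F.T 0 4)⁻¹ = zz K := by
      rw [F.toFr.T_inv, F.T_symm 0 4, F.T_mul, F.T_symm 1 0, D.a01]
    rw [h3] at h2
    have h4 : OO P ≤ OO (centralizer {zz K}) := by
      refine le_OO ((OO_le P).trans hPC) ?_ (odd_OO P)
      intro c hc
      rw [mem_normalizer_iff_cj, ← OO_cj, mem_normalizer_iff_cj.1 (hPn hc)]
    have h5 := h4 h2
    rw [← D.M_eq] at h5
    exact not_mem_M (D.two.hyp.zz_ne D.fr.kT.1) (D.two.hyp.zz_mul D.fr.kT.1) h5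

/-- an element swapping `K` and `L` -/
theorem exists_w : ∃ w : G, cj w K = L ∧ cj w L = K ∧ ∀ x ∈ K ⊓ T, w * x * w⁻¹ ∈ L ⊓ T := by
  obtain ⟨S, hK, hL, hT⟩ := D.fr.exists_sylow D.two
  obtain ⟨s, hs, h1, h2⟩ := D.two.exists_swap S hK hL D.fr.ne
  refine ⟨s, h1, h2, ?_⟩
  rintro x ⟨hxK, hxT⟩
  have h3 : s * x * s⁻¹ ∈ L := by rw [← h1]; exact conj_mem_cj hxK
  have h4 : s * x * s⁻¹ ∈ (S : Subgroup G) := by
    rw [hT] at hxT
    exact (S : Subgroup G).mul_mem ((S : Subgroup G).mul_mem hs hxT.1) ((S : Subgroup G).inv_mem hs)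
  refine ⟨h3, ?_⟩
  rw [hT, inf_centralizer_eq D.two S hK hL D.fr.ne]
  exact ⟨h4, D.two.hyp.le_centralizer D.fr.lT.1 h3⟩

/-- **`CenK`** for a normal subgroup `KQ` of `C(t) / O(C(t))` between the images of `K ⊓ T` and `K` -/
theorem exists_cenK {φ : LL K →* Lb} (hφ : Epi (LL K) (OO (centralizer {zz K})) φ) {p : ℕ} (hf : Facts Lb p)
    (hp : LPair Lb) (hs : IsSimpleGroup Lb) (hna : ¬ IsMulCommutative Lb) (hty : IsType K)
    {KQ : Subgroup (Q (F.T 0 1))} (hKn : KQ.Normal) (hKQ : KQ ≤ bar (F.T 0 1) K)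
    (hPK : bar (F.T 0 1) (K ⊓ T) ≤ KQ)
    (hgen : ∀ N : Subgroup (Q (F.T 0 1)), N.Normal → bar (F.T 0 1) (K ⊓ T) ≤ N → KQ ≤ N) :
    ∃ w, CenK F p (bar (F.T 0 1) (LL K)) KQ (K ⊓ T) w := by
  obtain ⟨w, w1, w2, w3⟩ := D.exists_w
  obtain ⟨e, -⟩ := D.exists_equiv hφ
  refine ⟨w, D.cenOut hφ hf hp, ?_, ?_, hKn, ?_, ?_, ?_, hPK, ?_, ?_, ?_, ?_⟩
  · exact e.isSimpleGroup_congr.2 hs
  · intro h
    apply hna
    refine ⟨⟨fun a b => ?_⟩⟩
    apply e.symm.injective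
    rw [map_mul, map_mul]
    exact h.is_comm.comm _ _
  · intro k hk j hj
    obtain ⟨x, hx, hxK, rfl⟩ := mem_bar_iff.1 (hKQ hk)
    exact D.comm_of_TV hx (D.pc.comm K D.fr.kT.1 x hxK) j hj
  · exact D.fr.hT.to_le inf_le_right
  · exact inf_le_left.trans D.K_le
  · rw [D.a01, D.a23, ← D.two.hyp.zz_cj D.fr.kT.1, w1]
  · rw [D.a01, D.a23, ← D.two.hyp.zz_cj D.fr.lT.1, w2]
  · intro x hx
    have h1 := D.pc.part K L T D.fr.hT D.fr.kT D.fr.lT D.fr.ne (w3 x hx)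
    exact ⟨D.LL_le h1, mem_bar (D.LL_le h1) h1⟩
  · intro N hN hE
    exact hgen N hN (D.cov_aux hty hN hE)

end

end XData

end Cfsg.Agent.Cit.TwoB
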