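import Cfsg.Agent.Cit.CoreOne
import Cfsg.Agent.Cit.Eleven
import Cfsg.Agent.TypeLFive.JIdent

/-!
# `|Om(S)| = 2`, `z₁ ≠ z₂`, back half: the data `JData` for the piece
-/

set_option autoImplicit false

namespace Cfsg.Agent.Cit.TwoB

/-- the uniform data for the simple groups `PSL₃(q)`, `PSU₃(q)`, `M₁₁` -/
theorem exists_jData_of {X : Type*} [Group X] [Finite X]
    (h : CoreOne.L3 X ∨ CoreOne.U3 X ∨ Spor.IsoM11 X) :
    ∃ (F₀ : Type) (_ : Field F₀) (_ : Fintype F₀) (p : ℕ), TypeLFive.JIdent.JData X F₀ p := by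
  apply TypeLFive.JIdent.exists_jData'
  rcases h with h | h | h
  · exact Or.inl h
  · exact Or.inr (Or.inl h)
  · exact Or.inr (Or.inr (Eleven.isM11 h))

end Cfsg.Agent.Cit.TwoB
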