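import Cfsg.Agent.Cit.TwoB.CenDef
import Cfsg.Agent.Cit.TwoB.Members
import Cfsg.Agent.TypeLFive.JIdent

/-!
# The members of `Om` in `PSL₃(q)`, `PSU₃(q)`, `M₁₁` are the subgroups `Y p z`
-/

set_option autoImplicit false
set_option linter.style.haveILetI false

namespace Cfsg.Agent.Cit.TwoB

open Subgroup Cfsg
open Cfsg.Agent.TypeLFive Cfsg.Agent.TypeLFive.LThreeDef Cfsg.Agent.TypeLFive.YCard

namespace MemY

/-! ### `SL(2,3)` -/

section Three

/-- an element of order 3 -/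
def dX : SolvTwo.X := ⟨!![1, 0; 1, 1], by decide⟩

set_option maxRecDepth 100000 in
theorem gen_X : ∀ x : SolvTwo.X, ∃ i j k l : Fin 3,
    x = SolvTwo.cX ^ (i : ℕ) * dX ^ (j : ℕ) * SolvTwo.cX ^ (k : ℕ) * dX ^ (l : ℕ) := by
  decide +kernel

theorem cube_cX : SolvTwo.cX ^ 3 = 1 := by decide +kernel
theorem cube_dX : dX ^ 3 = 1 := by decide +kernel

set_option maxRecDepth 100000 in
theorem comm_X : (∃ a b : SolvTwo.X, a * b * a⁻¹ * b⁻¹ = SolvTwo.iX) ∧
    ∃ a b : SolvTwo.X, a * b * a⁻¹ * b⁻¹ = SolvTwo.jX := by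
  decide +kernel

/-- the quaternion subgroup -/
def ker_X : Subgroup SolvTwo.X where
  carrier := {x | x = 1 ∨ x = SolvTwo.zX ∨ x * x = SolvTwo.zX}
  one_mem' := Or.inl rfl
  mul_mem' := by
    have : ∀ a b : SolvTwo.X, (a = 1 ∨ a = SolvTwo.zX ∨ a * a = SolvTwo.zX) →
        (b = 1 ∨ b = SolvTwo.zX ∨ b * b = SolvTwo.zX) →
        (a * b = 1 ∨ a * b = SolvTwo.zX ∨ a * b * (a * b) = SolvTwo.zX) := by
      decide +kernel
    exact fun {a b} ha hb => this a b ha hb
  inv_mem' := by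
    have : ∀ a : SolvTwo.X, (a = 1 ∨ a = SolvTwo.zX ∨ a * a = SolvTwo.zX) →
        (a⁻¹ = 1 ∨ a⁻¹ = SolvTwo.zX ∨ a⁻¹ * a⁻¹ = SolvTwo.zX) := by
      decide +kernel
    exact fun {a} ha => this a ha

set_option maxRecDepth 100000 in
theorem comm_mem_ker : ∀ a b : SolvTwo.X, a * b * a⁻¹ * b⁻¹ ∈ ker_X := by
  have : ∀ a b : SolvTwo.X, a * b * a⁻¹ * b⁻¹ = 1 ∨ a * b * a⁻¹ * b⁻¹ = SolvTwo.zX ∨
      (a * b * a⁻¹ * b⁻¹) * (a * b * a⁻¹ * b⁻¹) = SolvTwo.zX := by
    decide +kernel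
  exact this

theorem cX_not_mem : SolvTwo.cX ∉ ker_X := by
  have : ¬ (SolvTwo.cX = 1 ∨ SolvTwo.cX = SolvTwo.zX ∨ SolvTwo.cX * SolvTwo.cX = SolvTwo.zX) := by
    decide +kernel
  exact this

theorem closure_X : Subgroup.closure {x : SolvTwo.X | x ^ 3 = 1} = ⊤ := by
  rw [eq_top_iff]
  intro x _
  obtain ⟨i, j, k, l, rfl⟩ := gen_X x
  have h1 : SolvTwo.cX ∈ Subgroup.closure {x : SolvTwo.X | x ^ 3 = 1} := subset_closure cube_cX
  have h2 : dX ∈ Subgroup.closure {x : SolvTwo.X | x ^ 3 = 1} := subset_closure cube_dX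
  exact mul_mem (mul_mem (mul_mem (pow_mem h1 _) (pow_mem h2 _)) (pow_mem h1 _)) (pow_mem h2 _)

theorem card_X : Nat.card SolvTwo.X = 24 :=
  TwoFusion.SLTwoFacts.card_eq_24 (by simp [ZMod.card])

end Three

variable {X : Type*} [Group X] {N : Subgroup X} {z : X}

/-- `[C(z), C(z)] ≤ N` -/
theorem commutator_mem (hn : centralizer {z} ≤ normalizer (N : Set X)) (hcyc : CycCent X N z) {x y : X}
    (hx : x * z = z * x) (hy : y * z = z * y) : x * y * x⁻¹ * y⁻¹ ∈ N := by
  obtain ⟨g, hg, hc⟩ := hcyc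
  obtain ⟨n, hn1⟩ := hc x hx
  obtain ⟨m, hm1⟩ := hc y hy
  obtain ⟨a, ha⟩ : ∃ a, a = x * g ^ n := ⟨_, rfl⟩
  obtain ⟨b, hb⟩ : ∃ b, b = y * g ^ m := ⟨_, rfl⟩
  rw [← ha] at hn1
  rw [← hb] at hm1
  have hgN : ∀ k : ℕ, (g ^ k)⁻¹ ∈ normalizer (N : Set X) := fun k =>
    inv_mem (pow_mem (hn (mem_centralizer_singleton_iff.2 hg)) k)
  have h1 : (g ^ n)⁻¹ * b * (g ^ n)⁻¹⁻¹ ∈ N := (mem_normalizer_iff.1 (hgN n) b).1 hm1
  have h2 : (g ^ m)⁻¹ * a⁻¹ * (g ^ m)⁻¹⁻¹ ∈ N := (mem_normalizer_iff.1 (hgN m) a⁻¹).1 (N.inv_mem hn1)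
  have hcm : g ^ n * (g ^ m)⁻¹ = (g ^ m)⁻¹ * g ^ n :=
    (((Commute.refl g).pow_pow n m).inv_right).eq
  have h3 : x * y * x⁻¹ * y⁻¹ = a * ((g ^ n)⁻¹ * b * (g ^ n)⁻¹⁻¹) * ((g ^ m)⁻¹ * a⁻¹ * (g ^ m)⁻¹⁻¹) * b⁻¹ := by
    have hx' : x = a * (g ^ n)⁻¹ := by rw [ha]; group
    have hy' : y = b * (g ^ m)⁻¹ := by rw [hb]; group
    rw [hx', hy', mul_inv_rev, mul_inv_rev, inv_inv, inv_inv]
    calc a * (g ^ n)⁻¹ * (b * (g ^ m)⁻¹) * (g ^ n * a⁻¹) * (g ^ m * b⁻¹)
        = a * (g ^ n)⁻¹ * b * ((g ^ m)⁻¹ * g ^ n) * a⁻¹ * g ^ m * b⁻¹ := by simp only [mul_assoc]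
      _ = a * (g ^ n)⁻¹ * b * (g ^ n * (g ^ m)⁻¹) * a⁻¹ * g ^ m * b⁻¹ := by rw [hcm]
      _ = _ := by simp only [mul_assoc]
  rw [h3]
  exact mul_mem (mul_mem (mul_mem hn1 h1) h2) (inv_mem hm1)

/-- a big member has more than 24 elements -/
theorem card_big {H : Type*} [Group H] (h : Seven.IsBig H) : 24 < Nat.card H := by
  rcases h with ⟨F, i1, i2, h1, h2, ⟨f⟩⟩ | hA
  · rw [Nat.card_congr f.toEquiv, ClassicalGeometry.PSL2Basic.card_SL2]
    have h3 : 4 ≤ Fintype.card F := h2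
    have h4 : 4 ^ 2 - 1 ≤ Fintype.card F ^ 2 - 1 := Nat.sub_le_sub_right (Nat.pow_le_pow_left h3 2) 1
    have h5 := Nat.mul_le_mul h3 h4
    norm_num at h5
    omega
  · obtain ⟨h1, ⟨f⟩, -⟩ := hA
    rw [(center H).card_eq_card_quotient_mul_card_subgroup, h1, Nat.card_congr f.toEquiv,
      nat_card_alternatingGroup]
    simp [Nat.card_eq_fintype_card, Nat.factorial]

end MemY

open MemY

/-- **the members are the `Y p z`** -/
theorem mem_eq_Y {X : Type*} [Group X] [Finite X] {N : Subgroup X} {z : X} (hz : z ∈ N) (hz1 : z ≠ 1)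
    (hz2 : z * z = 1) (hN : N ≤ centralizer {z}) (hn : centralizer {z} ≤ normalizer (N : Set X))
    (hT : Ty N) (hO : OO N = ⊥) (hcyc : CycCent X N z) {F₀ : Type} [Field F₀] [Fintype F₀] {p : ℕ}
    (hJ : JIdent.JData X F₀ p) : N = Y p z := by
  have hbot : oddCore ↥N = ⊥ := by
    rw [OO_def, map_eq_bot_iff_of_injective _ N.subtype_injective] at hO
    exact hO
  have eN : (↥N ⧸ oddCore ↥N) ≃* N := (QuotientGroup.quotientMulEquivOfEq hbot).trans QuotientGroup.quotientBot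
  obtain ⟨eY⟩ := hJ.yiso z hz1 hz2
  have hYC : Y p z ≤ centralizer {z} := fun x hx => mem_centralizer_singleton_iff.2 (Y_le_cent hx)
  -- `[Y, Y] ≤ N`
  have hYN : ⁅Y p z, Y p z⁆ ≤ N := by
    rw [Subgroup.commutator_le]
    intro x hx y hy
    exact commutator_mem hn hcyc (Y_le_cent hx) (Y_le_cent hy)
  have hq : 3 ≤ Fintype.card F₀ := by
    have h1 : 1 < Fintype.card F₀ := Fintype.one_lt_card
    obtain ⟨k, hk⟩ := hJ.odd
    omega
  have hcardY : Nat.card (Y p z) = Fintype.card F₀ * (Fintype.card F₀ ^ 2 - 1) := by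
    rw [Nat.card_congr eY.toEquiv, ClassicalGeometry.PSL2Basic.card_SL2]
  -- `Y` is perfect if `q > 3`
  have hperf : 3 < Fintype.card F₀ → ⁅Y p z, Y p z⁆ = Y p z := by
    intro h3
    have h1 : commutator (Y p z) = ⊤ := by
      have h2 : (commutator (Y p z)).map eY.toMonoidHom = ⊤ := by
        rw [_root_.commutator_def, Subgroup.map_commutator, ← MonoidHom.range_eq_map,
          MonoidHom.range_eq_top.2 eY.surjective]
        exact TwoFusion.SLTwoFacts.commutator_eq_top h3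
      rw [eq_top_iff]
      intro x _
      have h4 : eY x ∈ (commutator (Y p z)).map eY.toMonoidHom := by rw [h2]; trivial
      obtain ⟨y, hy, hyx⟩ := h4
      rwa [← eY.injective hyx]
    have h2 : (commutator (Y p z)).map (Y p z).subtype = ⁅Y p z, Y p z⁆ := by
      rw [_root_.commutator_def, Subgroup.map_commutator, ← MonoidHom.range_eq_map,
        Subgroup.range_subtype]
    rw [← h2, h1, ← MonoidHom.range_eq_map, Subgroup.range_subtype]
  -- `[Y, Y]` is not abelian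
  have hnab : ∃ a ∈ ⁅Y p z, Y p z⁆, ∃ b ∈ ⁅Y p z, Y p z⁆, a * b ≠ b * a := by
    rcases Nat.lt_or_ge 3 (Fintype.card F₀) with h3 | h3
    · rw [hperf h3]
      by_contra hcon
      push Not at hcon
      apply Cfsg.Agent.Cit.LongConj.nonComm_SL2 F₀
      intro x y
      apply eY.symm.injective
      rw [map_mul, map_mul]
      exact Subtype.ext (hcon _ (eY.symm x).2 _ (eY.symm y).2)
    · obtain ⟨e3⟩ := Ty.three_iff (F := F₀) (by omega)
      obtain ⟨⟨a, b, hab⟩, c, d, hcd⟩ := comm_X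
      obtain ⟨-, -, -, -, -, -, hij⟩ := SolvTwo.X_rel
      let f := (eY.trans e3).symm
      have hf : ∀ u v : SolvTwo.X, ((f (u * v * u⁻¹ * v⁻¹) : Y p z) : X) ∈ ⁅Y p z, Y p z⁆ := by
        intro u v
        rw [map_mul, map_mul, map_mul, map_inv, map_inv]
        exact commutator_mem_commutator (f u).2 (f v).2
      refine ⟨f SolvTwo.iX, hab ▸ hf a b, f SolvTwo.jX, hcd ▸ hf c d, fun h => hij ?_⟩
      apply f.injective
      rw [map_mul, map_mul]
      exact Subtype.ext h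
  rcases hT with ⟨⟨e⟩⟩ | ⟨hty, hNN⟩
  · -- `N ≃ SL(2,3)`
    have e' : N ≃* SolvTwo.X := eN.symm.trans e
    have hcN : Nat.card N = 24 := by rw [Nat.card_congr e'.toEquiv, card_X]
    rcases Nat.lt_or_ge 3 (Fintype.card F₀) with h3 | h3
    · exfalso
      rw [hperf h3] at hYN
      have h1 := Subgroup.card_le_of_le hYN
      have h4 : 4 ^ 2 - 1 ≤ Fintype.card F₀ ^ 2 - 1 :=
        Nat.sub_le_sub_right (Nat.pow_le_pow_left h3 2) 1
      have h5 := Nat.mul_le_mul h3 h4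
      rw [hcN, hcardY] at h1
      have h6 : 3 < Fintype.card F₀ := h3
      norm_num at h5
      have h7 : (3 + 1) * 15 ≤ Fintype.card F₀ * (Fintype.card F₀ ^ 2 - 1) := h5
      omega
    · have h3' : Fintype.card F₀ = 3 := by omega
      have hp : p = 3 := by
        haveI := hJ.char
        have h4 : (p : ℕ) ∣ Fintype.card F₀ := by
          rw [← CharP.cast_eq_zero_iff F₀ p]
          exact FiniteField.cast_card_eq_zero F₀
        rw [h3'] at h4
        exact ((Nat.dvd_prime Nat.prime_three).1 h4).resolve_left hJ.prime.ne_one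
      have hle : N ≤ Y p z := by
        intro x hx
        have h4 : e' ⟨x, hx⟩ ∈ Subgroup.closure {x : SolvTwo.X | x ^ 3 = 1} := by rw [closure_X]; trivial
        have h5 : Subgroup.closure {x : SolvTwo.X | x ^ 3 = 1} ≤ ((Y p z).subgroupOf N).map e'.toMonoidHom := by
          rw [Subgroup.closure_le]
          intro y hy
          refine ⟨e'.symm y, ?_, e'.apply_symm_apply y⟩
          refine mem_Y ?_ ?_
          · exact mem_centralizer_singleton_iff.1 (hN (e'.symm y).2)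
          · have h6 : (e'.symm y) ^ 3 = 1 := by
              rw [← map_pow, show y ^ 3 = 1 from hy, map_one]
            rw [hp]
            exact congrArg Subtype.val h6
        obtain ⟨w, hw, hwx⟩ := h5 h4
        have h6 : w = ⟨x, hx⟩ := e'.injective hwx
        rw [h6] at hw
        exact hw
      refine Subgroup.eq_of_le_of_card_ge hle ?_
      rw [hcardY, hcN, h3']
      norm_num
  · -- `N` is quasisimple
    have hbig : Seven.IsBig N := by
      rcases Ty.IsTy.cases (Members.isTy hty hO) with h1 | ⟨⟨e⟩⟩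
      · exact h1
      · exfalso
        -- `SL(2,3)` is not perfect
        have hsol : ∀ x ∈ N, x ∈ ⁅N, N⁆ := fun x hx => by rw [hNN]; exact hx
        have key : ∀ y : SolvTwo.X, y ∈ Subgroup.closure {x : SolvTwo.X | ∃ a b, x = a * b * a⁻¹ * b⁻¹} := by
          intro y
          have h1 : ⁅N, N⁆ ≤ ((Subgroup.closure {x : SolvTwo.X | ∃ a b, x = a * b * a⁻¹ * b⁻¹}).comap
              e.toMonoidHom).map N.subtype := by
            rw [Subgroup.commutator_le]
            intro a ha b hb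
            refine ⟨⟨a, ha⟩ * ⟨b, hb⟩ * ⟨a, ha⟩⁻¹ * ⟨b, hb⟩⁻¹, ?_, rfl⟩
            refine subset_closure ⟨e ⟨a, ha⟩, e ⟨b, hb⟩, ?_⟩
            show e _ = _
            rw [map_mul, map_mul, map_mul, map_inv, map_inv]
          obtain ⟨w, hw, hwy⟩ := h1 (hsol _ (e.symm y).2)
          have h2 : w = e.symm y := Subtype.ext hwy
          rw [h2] at hw
          have h3 : e (e.symm y) ∈ Subgroup.closure {x : SolvTwo.X | ∃ a b, x = a * b * a⁻¹ * b⁻¹} := hw
          rwa [e.apply_symm_apply] at h3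
        have h4 := key SolvTwo.cX
        have h5 : Subgroup.closure {x : SolvTwo.X | ∃ a b, x = a * b * a⁻¹ * b⁻¹} ≤ ker_X := by
          rw [Subgroup.closure_le]
          rintro _ ⟨a, b, rfl⟩
          exact comm_mem_ker a b
        exact cX_not_mem (h5 h4)
    have hqs := hbig.quasisimple
    have hcN := card_big hbig
    -- `[Y, Y]` is normal in `N`
    have hYn : ((⁅Y p z, Y p z⁆).subgroupOf N).Normal := by
      refine (normal_subgroupOf_iff_le_normalizer hYN).2 ?_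
      intro g hg
      have hgz : g * z = z * g := mem_centralizer_singleton_iff.1 (hN hg)
      rw [mem_normalizer_iff_cj, cj_commutator]
      have h1 : cj g (Y p z) = Y p z := by
        rw [cj_def, map_Y]
        congr 1
        rw [MulAut.conj_apply, hgz, mul_inv_cancel_right]
      rw [h1]
    rcases Lib.ComponentSolvable.quasisimple_normal_cases hqs hYn with h1 | h1
    · have h2 : N = ⁅Y p z, Y p z⁆ := by
        apply le_antisymm _ hYN
        rwa [subgroupOf_eq_top] at h1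
      have h3 : N ≤ Y p z := by
        rw [h2]
        exact commutator_le_self _
      rcases Nat.lt_or_ge 3 (Fintype.card F₀) with h4 | h4
      · rw [h2, hperf h4]
      · exfalso
        have h5 : Fintype.card F₀ = 3 := by omega
        have h6 := Subgroup.card_le_of_le h3
        rw [hcardY, h5] at h6
        omega
    · exfalso
      obtain ⟨a, ha, b, hb, hab⟩ := hnab
      have h2 := mem_center_iff.1 (h1 (show (⟨b, hYN hb⟩ : N) ∈ _ from hb)) ⟨a, hYN ha⟩
      exact hab (congrArg Subtype.val h2)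

end Cfsg.Agent.Cit.TwoB
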