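import Cfsg.Agent.Cit.TwoB.BackThree
import Cfsg.Agent.Cit.TwoB.BackData
import Cfsg.Agent.Cit.TwoB.MemY

/-!
# `|Om(S)| = 2`, `z₁ ≠ z₂`, back half: assembly

`backStmt` : `CoreTwoNe.BackStmt` from the odd order theorem and `BigStmt` (`q > 3`).
-/

set_option autoImplicit false
set_option linter.style.haveILetI false
set_option linter.unusedSectionVars false

namespace Cfsg.Agent.Cit.TwoB

open Subgroup Cfsg UseT SubCent
open Cfsg.Agent.TypeLFive
open Cfsg.Agent.TypeLFive.LThreeDef (Y)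
open Cfsg.Agent.TypeLFive.JIdent (JData)
open CoreTwoNe (Five)

universe u

/-- the case `q > 3` -/
def BigStmt : Prop := ∀ (G : Type u) [Group G] [Finite G] (Om : Set (Subgroup G)) (K : Subgroup G), MinS Om →
  Two Om → ¬ Iso Om → LPiece Om (LLd Om) → OutP Om (LLd Om) → K ∈ Om → IsSimpleGroup (DK Om K) →
  center (DK Om K) = ⊥ → LPair (DK Om K) → ∀ (F₀ : Type) [Field F₀] [Fintype F₀] (p : ℕ),
  JData (DK Om K) F₀ p → 3 < Fintype.card F₀ →
  Nonempty ((↥K ⧸ oddCore ↥K) ≃* Matrix.SpecialLinearGroup (Fin 2) F₀) → Five G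

variable {G : Type u} [Group G] [Finite G] {Om : Set (Subgroup G)} {K N : Subgroup G}
variable (hm : MinS Om) (h : Two Om) (hni : ¬ Iso Om)
include hm h hni

/-- the members of the piece are the groups `Y` -/
theorem jk_eq_Y (hP : Pt Om K N) (hcyc : CycCent (DK Om K) (JK Om K N) (zz (JK Om K N)))
    {F₀ : Type} [Field F₀] [Fintype F₀] {p : ℕ} (hJ : JData (DK Om K) F₀ p) :
    JK Om K N = Y p (zz (JK Om K N)) := by
  have hK := hP.left
  have hsit := sit hm h hni hK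
  have hone := hsit.one
  have hmem := JK_mem hm h hni hP
  have hcz := hone.centralizer_zz hmem
  refine mem_eq_Y (hone.hyp.zz_mem hmem) (hone.hyp.zz_ne hmem) (hone.hyp.zz_mul hmem)
    (by rw [hcz]; exact le_normalizer) hcz.le ?_ ?_ hcyc hJ
  · exact Ty.of_map _ (DK Om K).subtype_injective (ty_fam hm.isType (CK K) _ hmem)
  · have h1 := hsit.pieces.core _ hmem
    rw [OO_map _ (DK Om K).subtype_injective,
      Subgroup.map_eq_bot_iff_of_injective _ (DK Om K).subtype_injective] at h1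
    exact h1

/-- the isomorphism type of the members -/
theorem exists_eK (hP : Pt Om K N) {F₀ : Type} [Field F₀] [Fintype F₀] {p : ℕ} (hJ : JData (DK Om K) F₀ p)
    (hY : JK Om K N = Y p (zz (JK Om K N))) :
    Nonempty ((↥K ⧸ oddCore ↥K) ≃* Matrix.SpecialLinearGroup (Fin 2) F₀) := by
  have hK := hP.left
  have hTy := hm.isType
  have hM := pt_mem_cov h hP
  have hr := UseT.isRd hTy (CK K)
  have e1 := hr.quot (RdOm.mem_OmIn hM)
  have e2 := TyTrans.quotMapOdd (f := qm (CK K)) (rd (N.subgroupOf (CK K))) (not_dvd_ker _)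
  have e3 := SubCent.quotEquiv hM
  have e : (↥N ⧸ oddCore ↥N) ≃* (↥(tr (CK K) N) ⧸ oddCore ↥(tr (CK K) N)) := (e3.symm.trans e1.symm).trans e2
  have hc : OO (tr (CK K) N) = ⊥ := (hm.fam_cent (h.hyp.zz_ne hK)).core _ (tr_mem hM)
  have hc' : oddCore ↥(tr (CK K) N) = ⊥ := by
    rw [OO, Subgroup.map_eq_bot_iff_of_injective _ (tr (CK K) N).subtype_injective] at hc
    exact hc
  have e4 : (↥(tr (CK K) N) ⧸ oddCore ↥(tr (CK K) N)) ≃* ↥(tr (CK K) N) :=
    (QuotientGroup.quotientMulEquivOfEq hc').trans QuotientGroup.quotientBot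
  have e5 : ↥(JK Om K N) ≃* ↥(tr (CK K) N) := subgroupOfEquivOfLe (tr_le_DK hm h hni hP)
  have hmem := JK_mem hm h hni hP
  have hone := (sit hm h hni hK).one
  obtain ⟨e6⟩ := hJ.yiso _ (hone.hyp.zz_ne hmem) (hone.hyp.zz_mul hmem)
  have e7 : ↥(JK Om K N) ≃* Matrix.SpecialLinearGroup (Fin 2) F₀ := (MulEquiv.subgroupCongr hY).trans e6
  obtain ⟨g, hg⟩ := h.cls K hK N hP.right
  have e8 : (↥K ⧸ oddCore ↥K) ≃* (↥N ⧸ oddCore ↥N) := by
    have := TyTrans.quotCj g K
    rwa [hg] at this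
  exact ⟨e8.trans (e.trans (e4.trans (e5.symm.trans e7)))⟩

omit hm h hni [Group G] [Finite G] in
/-- **`BackStmt`** -/
theorem backStmt (hodd : CoresG.OddStmt.{u}) (hbig : BigStmt.{u}) : CoreTwoNe.BackStmt.{u} := by
  intro G _ _ Om hm h hni hL hOut hsc hcase
  obtain ⟨K, hK⟩ := hm.ne
  obtain ⟨hs, hc⟩ := hsc K hK
  rcases hcase K hK with ⟨h1, hp, hcyc⟩ | ⟨-, h8⟩
  · obtain ⟨F₀, i1, i2, p, hJ⟩ := exists_jData_of h1
    have hY : ∀ N, Pt Om K N → JK Om K N = Y p (zz (JK Om K N)) := fun N hP =>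
      jk_eq_Y hm h hni hP (hcyc N hP) hJ
    have hodd' := hJ.odd
    have h2 : 1 < Fintype.card F₀ := Fintype.one_lt_card
    rcases Nat.lt_or_ge 3 (Fintype.card F₀) with h3 | h3
    · obtain ⟨N, hP⟩ := exists_pt h hK
      exact hbig G Om K hm h hni hL hOut hK hs hc hp F₀ p hJ h3 (exists_eK hm h hni hP hJ (hY N hP))
    · have h4 : Fintype.card F₀ = 3 := by
        rw [Nat.odd_iff] at hodd'
        omega
      exact backThree hodd hm h hni hL hOut hK hs hc hp hJ h4 hY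
  · exfalso
    obtain ⟨M, hP⟩ := exists_pt h hK
    exact not_eight hm h hni hs hL (tw1 hm h hL hOut) hP (h8 M hP)

end Cfsg.Agent.Cit.TwoB
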