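import Mathlib
import Cfsg.Agent.TypeLFive.CoreOut
import Cfsg.Agent.SylowLFive.Centre
import Cfsg.Agent.SylowLFive.ThreeLoc
import Cfsg.Agent.SignalizersComponents.BalLocal

/-!
# `q = 3`: the cores in the frame are trivial

`M_eq_bot` : `O(C(t_01)) = 1`, if `J / O` is `PSL₃(3)`, `PSU₃(3)` or `M₁₁` (`JHyp`).  `O(C(t_23))` centralises
`J / O`; its image in `C(t_01) / O(C(t_01))` is normalised by `C(J / O) ≤ C(t_23)`, so it is trivial.
-/

set_option autoImplicit false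
set_option linter.unusedSectionVars false

namespace Cfsg.Agent.Cit.TwoB.CoreThree

open Subgroup hiding mk
open Cfsg.Agent.TypeLFive
open Cfsg
open Cfsg.Agent.SignalizersComponents
open Cfsg.Agent.SignalizersComponents.GoldschmidtFunctor
open Cfsg.Agent.TypeLFive.CoreBalance
open Cfsg.Agent.TypeLFive.CoreMain
open Cfsg.Agent.TypeLFive.CoreClose
open Cfsg.Agent.TypeLFive.CoreLoc
open Cfsg.Agent.TypeLFive.CoreOut
open Cfsg.Agent.SylowLFive.Frame
open Cfsg.Agent.SylowLFive.KFrame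
open Cfsg.Agent.SylowLFive.Centre
open Cfsg.Agent.SylowLFive.ThreeLoc

universe u

variable {G : Type u} [Group G] [Finite G]

theorem mk_mul' {b x y : G} (hx : x ∈ centralizer ({b} : Set G))
    (hy : y ∈ centralizer ({b} : Set G)) :
    CoreLoc.mk b (x * y) (mul_mem hx hy) = CoreLoc.mk b x hx * CoreLoc.mk b y hy := rfl

theorem M_conj (g b : G) : (M b).map (MulAut.conj g).toMonoidHom = M (g * b * g⁻¹) :=
  BalLocal.core_conj g b

variable {F : FrX G} {J : Subgroup (Q (F.T 0 1))}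
  {Fq : Type*} [Field Fq] [Fintype Fq] (hq : Fintype.card Fq = 3)
  (out : CenOut (F.T 0 1) (F.T 2 3) (F.T 3 4) (F.toFr.z 0) 3 J) (jh : JHyp J Fq)

include hq out jh

/-- an element of odd order centralising the frame centralises `J` modulo the core -/
theorem comm_J {x : G} (hx : Odd (orderOf x)) (hE : CE F.toFr x) (hxC : x ∈ centralizer ({F.T 0 1} : Set G)) :
    ∀ j ∈ J, CoreLoc.mk (F.T 0 1) x hxC * j = j * CoreLoc.mk (F.T 0 1) x hxC := by
  have hodd : Odd (orderOf (CoreLoc.mk (F.T 0 1) x hxC)) := by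
    refine Odd.of_dvd_nat ?_ (orderOf_map_dvd _ _)
    rw [← Subgroup.orderOf_coe]
    exact hx
  have hJn := out.nml
  have hne : ∀ x (hx : x ∈ centralizer ({F.T 0 1} : Set G)), x ≠ 1 → x * x = 1 →
      CoreLoc.mk (F.T 0 1) x hx ≠ 1 := by
    intro x hx h1 h2 h3
    rw [mk_eq_one_iff] at h3
    exact not_mem_M h1 h2 h3
  have hsq : ∀ x (hx : x ∈ centralizer ({F.T 0 1} : Set G)), x * x = 1 →
      CoreLoc.mk (F.T 0 1) x hx * CoreLoc.mk (F.T 0 1) x hx = 1 := by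
    intro x hx h1
    rw [← mk_mul' hx hx, mk_eq_one_iff, h1]
    exact one_mem _
  have hcm : ∀ x y (hx : x ∈ centralizer ({F.T 0 1} : Set G))
      (hy : y ∈ centralizer ({F.T 0 1} : Set G)), x * y = y * x →
      CoreLoc.mk (F.T 0 1) x hx * CoreLoc.mk (F.T 0 1) y hy =
        CoreLoc.mk (F.T 0 1) y hy * CoreLoc.mk (F.T 0 1) x hx := by
    intro x y hx hy h1
    rw [← mk_mul' hx hy, ← mk_mul' hy hx]
    exact mk_congr h1 _ _
  refine jh.odd_trivial hq out.t1J (hne _ _ (F.toFr.T_ne_one (by decide)) (F.T_sq 2 3))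
    (hsq _ _ (F.T_sq 2 3)) out.t2J (hne _ _ (F.toFr.T_ne_one (by decide)) (F.T_sq 3 4))
    (hsq _ _ (F.T_sq 3 4)) ?_ (hcm _ _ _ _ (F.comm 2 3 3 4)) ?_ hodd
    (hcm _ _ _ _ (hE 2 3)) (hcm _ _ _ _ (hE 3 4))
  · intro h1
    have h2 : CoreLoc.mk (F.T 0 1) (F.T 2 3 * F.T 3 4) (mul_mem out.t1C out.t2C) = 1 := by
      rw [mk_mul' out.t1C out.t2C, h1, hsq _ _ (F.T_sq 3 4)]
    rw [mk_eq_one_iff, F.T_mul] at h2
    exact not_mem_M (F.toFr.T_ne_one (by decide)) (F.T_sq 2 4) h2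
  · intro j
    refine ⟨fun hj => hJn.conj_mem j hj _, fun hj => ?_⟩
    have := hJn.conj_mem _ hj (CoreLoc.mk (F.T 0 1) x hxC)⁻¹
    simpa [mul_assoc] using this

variable (hE : ∀ t ∈ TT F, ⁅M t, EE F⁆ = ⊥)
include hE

theorem M_ce {t : G} (ht : t ∈ TT F) {x : G} (hx : x ∈ M t) : CE F.toFr x := by
  intro i j
  have h1 := hE t ht
  rw [commutator_eq_bot_iff_le_centralizer] at h1
  exact (mem_centralizer_iff.1 (h1 hx) _ (T_mem_EE F i j)).symm

/-- `O(C(t_23)) ≤ O(C(t_01))` -/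
theorem M_le_M : M (F.T 2 3) ≤ M (F.T 0 1) := by
  have ht : F.T 2 3 ∈ TT F := T_mem_TT F (by decide)
  have hle : M (F.T 2 3) ≤ centralizer ({F.T 0 1} : Set G) := fun x hx =>
    mem_centralizer_singleton_iff.2 (M_ce hq out jh hE ht hx 0 1)
  have hJn := out.nml
  refine le_of_bar_eq_bot hle ?_
  refine eq_bot_of_normalized (core_quot (F.T 0 1)) (C := centralizer (J : Set (Q (F.T 0 1)))) inferInstance
    ?_ (bar_odd hle (M_odd _)) ?_
  · intro y hy
    obtain ⟨x, hx, hxM, rfl⟩ := mem_bar_iff.1 hy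
    rw [mem_centralizer_iff]
    intro j hj
    refine (comm_J hq out jh ?_ (M_ce hq out jh hE ht hxM) hx j hj).symm
    have h1 : orderOf x ∣ Nat.card (M (F.T 2 3)) := by
      rw [← Subgroup.orderOf_mk x hxM]
      exact orderOf_dvd_natCard _
    exact Odd.of_dvd_nat (Nat.not_even_iff_odd.1 fun h => M_odd _ (even_iff_two_dvd.1 h)) h1
  · have h1 : IsPGroup 2 (zpowers (F.T 2 3)) := by
      rw [IsPGroup.iff_card]
      exact ⟨1, by rw [Nat.card_zpowers, F.toFr.orderOf_T (by decide), pow_one]⟩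
    have h2 : zpowers (F.T 2 3) ≤ centralizer ({F.T 0 1} : Set G) := zpowers_le.2 out.t1C
    refine le_trans ?_ (cen_bar_le (zpowers (F.T 2 3)) h2 h1 (M (F.T 2 3)) ?_)
    · intro x hx
      rw [mem_cen_zpowers out.t1C]
      exact (mem_centralizer_iff.1 hx _ out.t1J).symm
    · rw [cen_zpowers]
      exact cen_le_normalizer_M _

theorem M_le_of_perm (σ : Equiv.Perm (Fin 5)) : M (F.T (σ 2) (σ 3)) ≤ M (F.T (σ 0) (σ 1)) := by
  obtain ⟨n, hn⟩ := F.perm σ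
  rw [← hn, ← hn, ← M_conj, ← M_conj]
  exact Subgroup.map_mono (M_le_M hq out jh hE)

theorem M_eq_of_disj {i j k l : Fin 5} (h1 : k ≠ l) (h2 : k ≠ i) (h3 : k ≠ j) (h4 : l ≠ i) (h5 : l ≠ j)
    (h6 : i ≠ j) : M (F.T i j) = M (F.T k l) := by
  refine le_antisymm ?_ ?_
  · obtain ⟨σ, s0, s1, s2, s3⟩ := exists_perm4 h1 h2 h3 h4 h5 h6
    have := M_le_of_perm hq out jh hE σ
    rwa [s0, s1, s2, s3] at this
  · obtain ⟨σ, s0, s1, s2, s3⟩ := exists_perm4 h6 h2.symm h4.symm h3.symm h5.symm h1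
    have := M_le_of_perm hq out jh hE σ
    rwa [s0, s1, s2, s3] at this

theorem M_eq_M {i j : Fin 5} (h : i ≠ j) : M (F.T i j) = M (F.T 0 1) := by
  have key : ∀ i j : Fin 5, i ≠ j → (i ≠ 0 ∧ i ≠ 1 ∧ j ≠ 0 ∧ j ≠ 1) ∨
      ∃ k l : Fin 5, k ≠ l ∧ k ≠ i ∧ k ≠ j ∧ l ≠ i ∧ l ≠ j ∧ k ≠ 0 ∧ k ≠ 1 ∧ l ≠ 0 ∧ l ≠ 1 := by decide
  rcases key i j h with ⟨h1, h2, h3, h4⟩ | ⟨k, l, h0, h1, h2, h3, h4, h5, h6, h7, h8⟩
  · exact M_eq_of_disj hq out jh hE (by decide) h1.symm h3.symm h2.symm h4.symm h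
  · rw [M_eq_of_disj hq out jh hE h0 h1 h2 h3 h4 h]
    exact M_eq_of_disj hq out jh hE (by decide) h5.symm h7.symm h6.symm h8.symm h0

/-- **`O(C(t_01)) = 1`** -/
theorem M_eq_bot [IsSimpleGroup G] : M (F.T 0 1) = ⊥ := by
  have h1 : normalizer (M (F.T 0 1) : Set G) = ⊤ := by
    apply F.close
    · intro c hc
      exact cen_le_normalizer_M _ (mem_centralizer_singleton_iff.2 hc)
    · rintro n ⟨σ, hσ⟩
      have h2 : (M (F.T 0 1)).map (MulAut.conj n).toMonoidHom = M (F.T 0 1) := by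
        rw [M_conj, hσ]
        exact M_eq_M hq out jh hE (σ.injective.ne (by decide))
      exact mem_normalizer_iff_map_conj_eq.2 h2
  have h2 : (M (F.T 0 1)).Normal := normalizer_eq_top_iff.1 h1
  rcases h2.eq_bot_or_eq_top with h3 | h3
  · exact h3
  · exfalso
    apply not_mem_M F.T_ne (F.T_sq 0 1)
    rw [h3]
    exact mem_top _

end Cfsg.Agent.Cit.TwoB.CoreThree
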