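import Cfsg.Agent.Cit.TwoB.BackB
import Cfsg.Agent.Cit.TwoB.CoreThree
import Cfsg.Agent.Cit.CoresG
import Cfsg.Agent.SylowLFive.EndsThreePlus
import Cfsg.Agent.SylowLFive.EndsThreeMinus
import Cfsg.Agent.SylowLFive.ThreeMEleven

/-!
# `|Om(S)| = 2`, `z₁ ≠ z₂`, back half, `q = 3`

`O(C(z_K)) = 1` (`CoreThree.M_eq_bot`), so `J = LLd Om K` is the piece, the partners of `K` are contained in `J`, and
`K`, `J` form a `KFr`.  `backThree` : `G ≃ PSL₅(3)`, `PSU₅(3)`.
-/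

set_option autoImplicit false
set_option linter.style.haveILetI false
set_option linter.unusedSectionVars false

namespace Cfsg.Agent.Cit.TwoB

open Subgroup Cfsg UseT SubCent
open Cfsg.Agent.TypeLFive
open Cfsg.Agent.TypeLFive.LThreeDef (Y)
open Cfsg.Agent.TypeLFive.JIdent (JData)
open Cfsg.Agent.SylowLFive
open Cfsg.Agent.SylowLFive.Frame (FrX)
open Cfsg.Agent.SylowLFive.KFrame (KFr)
open Cfsg.Agent.SylowLFive.Centre (Act CE)
open Cfsg.Agent.SylowLFive.ThreeLoc (JHyp)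
open CoreTwoNe (Five)

universe u

variable {G : Type u} [Group G] {Om : Set (Subgroup G)} {K L T N : Subgroup G} [Finite G]

/-- the core of a member is contained in the core of `C(z)` -/
theorem OO_le_OO_CK (h : Two Om) (hN : N ∈ Om) : OO N ≤ OO (CK N) := by
  refine le_OO ((OO_le N).trans (le_CK h.hyp hN)) ?_ (odd_OO N)
  intro c hc
  rw [mem_normalizer_iff_cj, ← OO_cj, (h.cj_eq_iff hN).2 (mem_centralizer_singleton_iff.1 hc)]

/-- the transport of `K` along the frame -/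
theorem tr_member (h : Two Om) {F : FrX G} (hK : K ∈ Om) (hN : N ∈ Om) (h01 : F.T 0 1 = zz K) {i j : Fin 5}
    (hij : i ≠ j) (hz : F.T i j = zz N) : F.toFr.tr K (F.T i j) = N := by
  obtain ⟨n, -, hn⟩ := F.toFr.exists_conj hij
  have h1 : cj n K = N := by
    apply h.cj_eq hK hN
    rw [← h01, ← hz, hn]
  have hnml : F.toFr.Nml K := by
    intro c hc k hk
    rw [h01] at hc
    have h2 := (h.cj_eq_iff hK).2 hc
    have h3 := conj_mem_cj (g := c) hk
    rwa [h2] at h3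
  ext x
  rw [F.toFr.mem_tr_iff hnml hn, ← h1, mem_cj]

section

variable (hm : MinS Om) (h : Two Om) (hni : ¬ Iso Om)
include hm h hni

theorem not_comm_DK (hs : IsSimpleGroup (DK Om K)) (hc : center (DK Om K) = ⊥) : ¬ IsMulCommutative (DK Om K) := by
  intro h1
  have h2 : center (DK Om K) = ⊤ := by
    rw [eq_top_iff]
    intro x _
    rw [mem_center_iff]
    intro y
    exact h1.is_comm.comm y x
  haveI := hs.toNontrivial
  rw [hc] at h2
  exact bot_ne_top h2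

/-- the structure in the form of `CoreLoc` -/
theorem exists_out {F : FrX G} {m : G} (B : BFr Om (LLd Om) K L T F m) (h1 : Tw1 Om (LLd Om))
    (hs : IsSimpleGroup (DK Om K)) (hc : center (DK Om K) = ⊥) (hp : LPair (DK Om K))
    {F₀ : Type} [Field F₀] [Fintype F₀] {p : ℕ} (hJ : JData (DK Om K) F₀ p) :
    ∃ J : Subgroup (CoreBalance.Q (F.T 0 1)),
      CoreLoc.CenOut (F.T 0 1) (F.T 2 3) (F.T 3 4) (F.toFr.z 0) p J ∧ IsSimpleGroup J ∧ ¬ IsMulCommutative J ∧
        JData J F₀ p := by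
  rw [B.t01]
  exact ⟨DK Om K, cenOut hm h hni B h1 hs hp hJ.facts, hs, not_comm_DK hm h hni hs hc, hJ⟩

/-- `[O(C(t)), E] = 1` for all `t = t_ij` -/
theorem hE_of (hodd : CoresG.OddStmt.{u}) {F : FrX G} {p : ℕ} {J : Subgroup (CoreBalance.Q (F.T 0 1))}
    (out : CoreLoc.CenOut (F.T 0 1) (F.T 2 3) (F.T 3 4) (F.toFr.z 0) p J) :
    ∀ t ∈ CoreLoc.TT F, ⁅CoreBalance.M t, CoreLoc.EE F⁆ = ⊥ := by
  haveI := hm.simple
  obtain ⟨K, hK⟩ := hm.ne
  refine CoreLoc.main F (CoreOne.oddCore_eq_bot (CoreOne.two_dvd_card h.hyp hK)) ?_ out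
  intro X hX
  exact hodd X hX

/-- **`O(C(z_K)) = 1`**, `q = 3` -/
theorem core_bot (hodd : CoresG.OddStmt.{u}) {F : FrX G} {m : G} (B : BFr Om (LLd Om) K L T F m)
    (h1 : Tw1 Om (LLd Om)) (hs : IsSimpleGroup (DK Om K)) (hc : center (DK Om K) = ⊥) (hp : LPair (DK Om K))
    {F₀ : Type} [Field F₀] [Fintype F₀] (hJ : JData (DK Om K) F₀ 3) (hq : Fintype.card F₀ = 3)
    (hN : N ∈ Om) : OO (CK N) = ⊥ := by
  haveI := hm.simple
  have hK := B.fr.kT.1
  obtain ⟨J, out, js, jn, jd⟩ := exists_out hm h hni B h1 hs hc hp hJ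
  have h2 := CoreThree.M_eq_bot hq out ⟨js, jn, jd.facts, jd.yiso⟩ (hE_of hm h hni hodd out)
  rw [B.t01] at h2
  have h3 : OO (CK K) = ⊥ := h2
  obtain ⟨g, rfl⟩ := h.cls K hK N hN
  rw [CK, h.hyp.zz_cj hK, ← cj_centralizer, OO_cj, h3, cj, Subgroup.map_bot]

variable (hO : ∀ N ∈ Om, OO (CK N) = ⊥)
include hO

theorem qm_injective (hK : K ∈ Om) : Function.Injective (qm (CK K)) := by
  rw [← MonoidHom.ker_eq_bot_iff, ker_qm]
  have h1 := hO K hK
  rwa [OO, Subgroup.map_eq_bot_iff_of_injective _ (CK K).subtype_injective] at h1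

theorem pt_le_CK (hP : Pt Om K N) : N ≤ CK K := by
  have h1 : OO N = ⊥ := by
    have h2 := OO_le_OO_CK h hP.right
    rwa [hO N hP.right, le_bot_iff] at h2
  intro k hk
  obtain ⟨o, ho, hko⟩ := (pt_mem_cov h hP).2 k hk
  rw [h1, mem_bot] at ho
  rwa [ho, mul_one] at hko

theorem tr_eq_map (hP : Pt Om K N) : tr (CK K) N = (N.subgroupOf (CK K)).map (qm (CK K)) := by
  have h2 : rd (N.subgroupOf (CK K)) = N.subgroupOf (CK K) := by
    apply RdOm.rd_eq_self
    apply Ty.of_map (CK K).subtype (CK K).subtype_injective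
    rw [map_subgroupOf_eq_of_le (pt_le_CK hm h hni hO hP)]
    exact hm.ty N hP.right
  rw [tr, h2]

variable (hs : IsSimpleGroup (DK Om K))
include hs

theorem pt_le_LLd (hP : Pt Om K N) : N ≤ LLd Om K := by
  intro x hx
  have h1 := pt_le_CK hm h hni hO hP hx
  refine (mem_LLd_iff hm h hni hP.left hs (x := ⟨x, h1⟩)).2 (tr_le_DK hm h hni hP ?_)
  rw [tr_eq_map hm h hni hO hP]
  exact ⟨⟨x, h1⟩, hx, rfl⟩

/-- `LLd` is the piece -/
noncomputable def eqv (hK : K ∈ Om) : LLd Om K ≃* DK Om K :=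
  MulEquiv.ofBijective (phi hm h hni hK hs) (by
    have h1 := epi hm h hni hK hs
    refine ⟨?_, h1.surj⟩
    rw [injective_iff_map_eq_one]
    intro x hx
    have h2 := (h1.ker x x.2).1 hx
    rw [hO K hK, mem_bot] at h2
    exact Subtype.ext h2)

theorem eqv_apply (hK : K ∈ Om) (x : LLd Om K) : eqv hm h hni hO hs hK x = phi hm h hni hK hs x := rfl

theorem phi_mem_iff (hP : Pt Om K N) (x : LLd Om K) :
    phi hm h hni hP.left hs x ∈ JK Om K N ↔ (x : G) ∈ N := by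
  rw [JK, mem_subgroupOf, coe_phi, tr_eq_map hm h hni hO hP]
  constructor
  · rintro ⟨y, hy, hyx⟩
    have h1 := qm_injective hm h hni hO hP.left hyx
    have h2 : (y : G) = x := congrArg Subtype.val h1
    rw [← h2]
    exact hy
  · intro hx
    exact ⟨⟨x, LLd_le h x.2⟩, hx, rfl⟩

/-- the partners are the groups `Y` -/
theorem pt_eq_Y (hP : Pt Om K N) {p : ℕ} (hY : JK Om K N = Y p (zz (JK Om K N))) {t : LLd Om K}
    (ht : (t : G) = zz N) : N = (Y p t).map (LLd Om K).subtype := by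
  have hK := hP.left
  have h1 : eqv hm h hni hO hs hK t = zz (JK Om K N) := by
    apply Subtype.ext
    rw [eqv_apply, coe_phi, zz_JK hm h hni hP]
    congr 1
    exact Subtype.ext ht
  have key : ∀ x : LLd Om K, (x : G) ∈ N ↔ x ∈ Y p t := by
    intro x
    rw [← phi_mem_iff hm h hni hO hs hP, hY, ← h1]
    exact LThreeDef.mem_Y_iff (eqv hm h hni hO hs hK) p t x
  ext x
  constructor
  · intro hx
    have h2 := pt_le_LLd hm h hni hO hs hP hx
    exact ⟨⟨x, h2⟩, (key ⟨x, h2⟩).1 hx, rfl⟩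
  · rintro ⟨y, hy, rfl⟩
    exact (key y).2 hy

/-- the pieces satisfy `LPair` -/
theorem pair_LLd (hK : K ∈ Om) (hp : LPair (DK Om K)) : LPair (LLd Om K) :=
  hp.of_equiv (eqv hm h hni hO hs hK).symm

theorem decomp_LLd {F : FrX G} {m : G} (B : BFr Om (LLd Om) K L T F m) (hc0 : center (DK Om K) = ⊥)
    (hp : LPair (DK Om K)) {c : G} (hc : c ∈ CK K) :
    ∃ j ∈ LLd Om K, ∃ x, c = j * x ∧ x * F.T 2 3 = F.T 2 3 * x ∧ x * F.T 3 4 = F.T 3 4 * x := by
  have hK := B.fr.kT.1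
  have hpc := pc_LLd hm h hni hK hs hc0
  have c1 := hpc.conjL hc B.k23
  have c2 := hpc.conjL hc B.k34
  have e2 : ∀ y : G, y * y = 1 → c * y * c⁻¹ * (c * y * c⁻¹) = 1 := by
    intro y hy
    calc c * y * c⁻¹ * (c * y * c⁻¹) = c * (y * y) * c⁻¹ := by group
      _ = 1 := by rw [hy]; group
  have e3 : ∀ y : G, y ≠ 1 → c * y * c⁻¹ ≠ 1 := by
    intro y hy h2
    apply hy
    rw [mul_inv_eq_one] at h2
    exact mul_eq_left.1 h2
  have n23 : F.T 2 3 ≠ 1 := F.toFr.T_ne_one (by decide)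
  have n34 : F.T 3 4 ≠ 1 := F.toFr.T_ne_one (by decide)
  have nn : F.T 2 3 ≠ F.T 3 4 := by
    intro h2
    apply F.toFr.T_ne_one (i := 2) (j := 4) (by decide)
    rw [← F.T_mul 2 3 4, h2, F.toFr.T_sq]
  obtain ⟨g, hg1, hg2⟩ := pair_LLd hm h hni hO hs hK hp ⟨_, B.k23⟩ ⟨_, B.k34⟩ ⟨_, c1⟩ ⟨_, c2⟩
    (Subtype.ext (F.toFr.T_sq 2 3)) (fun h2 => n23 (congrArg Subtype.val h2)) (Subtype.ext (F.toFr.T_sq 3 4))
    (fun h2 => n34 (congrArg Subtype.val h2)) (fun h2 => nn (congrArg Subtype.val h2))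
    (Subtype.ext (F.toFr.comm 2 3 3 4)) (Subtype.ext (e2 _ (F.toFr.T_sq 2 3)))
    (fun h2 => e3 _ n23 (congrArg Subtype.val h2)) (Subtype.ext (e2 _ (F.toFr.T_sq 3 4)))
    (fun h2 => e3 _ n34 (congrArg Subtype.val h2))
    (fun h2 => nn (mul_left_cancel (mul_right_cancel (congrArg Subtype.val h2))))
    (Subtype.ext (by
      change c * F.T 2 3 * c⁻¹ * (c * F.T 3 4 * c⁻¹) = c * F.T 3 4 * c⁻¹ * (c * F.T 2 3 * c⁻¹)
      calc c * F.T 2 3 * c⁻¹ * (c * F.T 3 4 * c⁻¹) = c * (F.T 2 3 * F.T 3 4) * c⁻¹ := by group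
        _ = c * (F.T 3 4 * F.T 2 3) * c⁻¹ := by rw [F.toFr.comm 2 3 3 4]
        _ = _ := by group))
  have h5 : (g : G) * F.T 2 3 * (g : G)⁻¹ = c * F.T 2 3 * c⁻¹ := congrArg Subtype.val hg1
  have h6 : (g : G) * F.T 3 4 * (g : G)⁻¹ = c * F.T 3 4 * c⁻¹ := congrArg Subtype.val hg2
  refine ⟨g, g.2, (g : G)⁻¹ * c, by group, ?_, ?_⟩
  · calc (g : G)⁻¹ * c * F.T 2 3 = (g : G)⁻¹ * (c * F.T 2 3 * c⁻¹) * c := by group
      _ = _ := by rw [← h5]; group
  · calc (g : G)⁻¹ * c * F.T 3 4 = (g : G)⁻¹ * (c * F.T 3 4 * c⁻¹) * c := by group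
      _ = _ := by rw [← h6]; group

/-- a partner with given involution -/
theorem exists_tr_eq {F : FrX G} {m : G} (B : BFr Om (LLd Om) K L T F m) (hL : LPiece Om (LLd Om)) {p : ℕ}
    (hY : ∀ N, Pt Om K N → JK Om K N = Y p (zz (JK Om K N))) {i j : Fin 5} (hij : i ≠ j)
    (hx : F.T i j ∈ LLd Om K) : F.toFr.tr K (F.T i j) = (Y p (⟨F.T i j, hx⟩ : LLd Om K)).map (LLd Om K).subtype := by
  obtain ⟨N, hN, hNz⟩ := hL.exists_pt_of_mem h B.fr.kT.1 hx (F.toFr.T_sq i j) (F.toFr.T_ne_one hij)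
  rw [tr_member h B.fr.kT.1 hN.right B.t01 hij hNz.symm]
  exact pt_eq_Y hm h hni hO hs hN (hY N hN) (t := ⟨F.T i j, hx⟩) hNz.symm

/-- **the frame with `J` and `K`**, `O(C(z)) = 1` -/
theorem exists_kfr {F : FrX G} {m : G} (B : BFr Om (LLd Om) K L T F m) (hL : LPiece Om (LLd Om))
    (hc0 : center (DK Om K) = ⊥) (hp : LPair (DK Om K)) {F₀ : Type} [Field F₀] [Fintype F₀] {p : ℕ}
    (hJ : JData (DK Om K) F₀ p) (hY : ∀ N, Pt Om K N → JK Om K N = Y p (zz (JK Om K N))) :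
    ∃ F' : KFr G, F'.toFrX = F ∧ Nonempty (F'.J ≃* DK Om K) ∧ m ∈ F'.K ∧ Act F'.toFr (Equiv.swap 0 1) m ∧
      F'.toFr.tr F'.K (F'.T 2 3) = (Y p (⟨F'.T 2 3, F'.T23⟩ : F'.J)).map F'.J.subtype ∧
      F'.toFr.tr F'.K (F'.T 3 4) = (Y p (⟨F'.T 3 4, F'.T34⟩ : F'.J)).map F'.J.subtype := by
  have hK := B.fr.kT.1
  have hpc := pc_LLd hm h hni hK hs hc0
  have h23 := exists_tr_eq hm h hni hO hs B hL hY (i := 2) (j := 3) (by decide) B.k23
  have h24 := exists_tr_eq hm h hni hO hs B hL hY (i := 2) (j := 4) (by decide) B.k24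
  have h34 := exists_tr_eq hm h hni hO hs B hL hY (i := 3) (j := 4) (by decide) B.k34
  have hf : LThreeDef.Facts (LLd Om K) p := hJ.facts.congr (eqv hm h hni hO hs hK).symm
  have hg := hf.gen ⟨_, B.k23⟩ ⟨_, B.k34⟩
    (fun h2 => F.toFr.T_ne_one (i := 2) (j := 3) (by decide) (congrArg Subtype.val h2))
    (Subtype.ext (F.toFr.T_sq 2 3))
    (fun h2 => F.toFr.T_ne_one (i := 3) (j := 4) (by decide) (congrArg Subtype.val h2))
    (Subtype.ext (F.toFr.T_sq 3 4))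
    (fun h2 => by
      have h3 : F.T 2 3 = F.T 3 4 := congrArg Subtype.val h2
      apply F.toFr.T_ne_one (i := 2) (j := 4) (by decide)
      rw [← F.T_mul 2 3 4, h3, F.toFr.T_sq])
    (Subtype.ext (F.toFr.comm 2 3 3 4))
  have e24 : (⟨F.T 2 3, B.k23⟩ : LLd Om K) * ⟨F.T 3 4, B.k34⟩ = ⟨F.T 2 4, B.k24⟩ := Subtype.ext (F.T_mul 2 3 4)
  rw [e24] at hg
  have hg2 := congrArg (Subgroup.map (LLd Om K).subtype) hg
  rw [Subgroup.map_sup, Subgroup.map_sup, ← MonoidHom.range_eq_map, Subgroup.range_subtype, ← h23, ← h24,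
    ← h34] at hg2
  have hCK : ∀ {c : G}, c * F.T 0 1 = F.T 0 1 * c → c ∈ CK K := by
    intro c hc
    rw [B.t01] at hc
    exact mem_centralizer_singleton_iff.2 hc
  let F' : KFr G :=
    { F with
      J := LLd Om K
      J_comm := by
        intro j hj
        show j * F.T 0 1 = F.T 0 1 * j
        rw [B.t01]
        exact mem_centralizer_singleton_iff.1 (LLd_le h hj)
      J_nml := fun c hc j hj => hpc.conjL (hCK hc) hj
      T23 := B.k23
      T34 := B.k34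
      decomp := fun c hc => decomp_LLd hm h hni hO hs B hc0 hp (hCK hc)
      K := K
      K_comm := by
        intro k hk
        show k * F.T 0 1 = F.T 0 1 * k
        rw [B.t01]
        exact h.hyp.comm_zz hK (le_normalizer hk)
      K_nml := by
        intro c hc k hk
        have h2 := (h.cj_eq_iff hK).2 (mem_centralizer_singleton_iff.1 (hCK hc))
        have h3 := conj_mem_cj (g := c) hk
        rwa [h2] at h3
      K_J := by
        intro k hk j hj
        have h2 := comm_LLd hm h hni hK hs k hk j hj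
        rw [hO K hK, mem_bot, mul_inv_eq_one, mul_inv_eq_iff_eq_mul] at h2
        exact h2
      K_le := by
        show F.toFr.tr K (F.T 2 3) ≤ LLd Om K
        rw [h23]
        exact map_subtype_le _
      J_gen := by
        show LLd Om K ≤ F.toFr.tr K (F.T 2 3) ⊔ F.toFr.tr K (F.T 2 4) ⊔ F.toFr.tr K (F.T 3 4)
        rw [← hg2]
        exact sup_le (sup_le (le_sup_left.trans le_sup_left) le_sup_right) (le_sup_right.trans le_sup_left) }
  exact ⟨F', rfl, ⟨eqv hm h hni hO hs hK⟩, B.mK.1, B.act, h23, h34⟩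

end

/-- **the back half for `q = 3`** -/
theorem backThree (hodd : CoresG.OddStmt.{u}) (hm : MinS Om) (h : Two Om) (hni : ¬ Iso Om)
    (hL : LPiece Om (LLd Om)) (hOut : OutP Om (LLd Om)) (hK : K ∈ Om) (hs : IsSimpleGroup (DK Om K))
    (hc0 : center (DK Om K) = ⊥) (hp : LPair (DK Om K)) {F₀ : Type} [Field F₀] [Fintype F₀] {p : ℕ}
    (hJ : JData (DK Om K) F₀ p) (hq : Fintype.card F₀ = 3)
    (hY : ∀ N, Pt Om K N → JK Om K N = Y p (zz (JK Om K N))) : Five G := by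
  haveI := hm.simple
  have h1 := tw1 hm h hL hOut
  have hp3 : p = 3 := by
    have hc3 : CharP F₀ 3 := EndsThree.charP_three (F := F₀) (n := 1) (by rw [hq, pow_one])
    exact CharP.eq F₀ hJ.char hc3
  subst hp3
  obtain ⟨L, T, F, m, B⟩ := exists_bfr hm h hni hL hOut hK
  have hO : ∀ N ∈ Om, OO (CK N) = ⊥ := fun N hN => core_bot hm h hni hodd B h1 hs hc0 hp hJ hq hN
  obtain ⟨F', hF, ⟨e⟩, hmK, hact, h23, h34⟩ := exists_kfr hm h hni hO hs B hL hc0 hp hJ hY
  have hB : ∀ b : G, Odd (orderOf b) → CE F'.toFr b → b = 1 := by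
    -- `J_ij` is centralised by the elements of odd order centralising the frame
    have jh : JHyp F'.J F₀ := by
      refine ⟨e.symm.isSimpleGroup_congr.1 hs, ?_, hJ.facts.congr e.symm, hJ.yiso.congr e.symm⟩
      intro h2
      apply not_comm_DK hm h hni hs hc0
      refine ⟨⟨fun a b => ?_⟩⟩
      apply e.symm.injective
      rw [map_mul, map_mul]
      exact h2.is_comm.comm _ _
    have key : ∀ b : G, Odd (orderOf b) → CE F'.toFr b → ∀ j ∈ F'.J, b * j = j * b := by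
      intro b hb hE
      refine jh.odd_trivial hq F'.T23 (F'.toFr.T_ne_one (by decide)) (F'.T_sq 2 3) F'.T34
        (F'.toFr.T_ne_one (by decide)) (F'.T_sq 3 4) ?_ (F'.comm 2 3 3 4) ?_ hb (hE 2 3) (hE 3 4)
      · intro h2
        apply F'.toFr.T_ne_one (i := 2) (j := 4) (by decide)
        rw [← F'.T_mul 2 3 4, h2, F'.T_sq]
      · intro y
        refine ⟨fun hy => F'.J_nml b (hE 0 1) y hy, fun hy => ?_⟩
        have hbi : b⁻¹ * F'.T 0 1 = F'.T 0 1 * b⁻¹ := by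
          have h2 := hE 0 1
          calc b⁻¹ * F'.T 0 1 = b⁻¹ * (F'.T 0 1 * b) * b⁻¹ := by group
            _ = b⁻¹ * (b * F'.T 0 1) * b⁻¹ := by rw [h2]
            _ = _ := by group
        have := F'.J_nml b⁻¹ hbi _ hy
        have e2 : b⁻¹ * (b * y * b⁻¹) * b⁻¹⁻¹ = y := by group
        rwa [e2] at this
    intro b hb hE
    have key2 : ∀ i j : Fin 5, i ≠ j → ∀ y ∈ F'.toFr.tr F'.J (F'.T i j), b * y = y * b := by
      intro i j hij y hy
      obtain ⟨n, hn, hn1⟩ := F'.toFr.exists_conj hij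
      rw [F'.toFr.mem_tr_iff F'.J_nml hn1] at hy
      have h2 : CE F'.toFr (n⁻¹ * b * n) := by
        obtain ⟨σ, hσ⟩ := hn
        intro k l
        have h3 := hE (σ k) (σ l)
        rw [← hσ] at h3
        calc n⁻¹ * b * n * F'.T k l = n⁻¹ * (b * (n * F'.T k l * n⁻¹)) * n := by group
          _ = n⁻¹ * (n * F'.T k l * n⁻¹ * b) * n := by rw [h3]
          _ = _ := by group
      have h3 : Odd (orderOf (n⁻¹ * b * n)) := by
        have h4 := TwoFusion.StronglyEmbeddedBasic.orderOf_conj n⁻¹ b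
        rw [inv_inv] at h4
        rw [h4]; exact hb
      have h4 := key _ h3 h2 _ hy
      calc b * y = n * (n⁻¹ * b * n * (n⁻¹ * y * n)) * n⁻¹ := by group
        _ = n * (n⁻¹ * y * n * (n⁻¹ * b * n)) * n⁻¹ := by rw [h4]
        _ = y * b := by group
    exact Centre.eq_one_of_comm F'.toFr5 1 (key2 _ _ (by decide)) (key2 _ _ (by decide)) (key2 _ _ (by decide))
      (key2 _ _ (by decide))
  rcases hJ.cases with ⟨⟨f⟩⟩ | ⟨E, i1, i2, hE, hf⟩ | ⟨-, hM⟩
  · exact Or.inl ⟨F₀, inferInstance, inferInstance, hJ.odd, EndsThree.plus F' hmK hact h23 h34 hq (e.trans f)⟩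
  · rw [hq] at hf hE
    obtain ⟨f⟩ := hf
    exact Or.inr ⟨E, i1, i2, 3, hE, by decide, EndsThree.minus F' hmK hact h23 h34 hB hE (e.trans f)⟩
  · exfalso
    refine ThreeMEleven.false F' hmK hact ⟨e.symm.isSimpleGroup_congr.1 hM.1, ?_⟩
    rw [Nat.card_congr e.toEquiv]
    exact hM.2

end Cfsg.Agent.Cit.TwoB
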