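import Cfsg.Agent.Cit.Parab
import Cfsg.Agent.Cit.WeakCl
import Cfsg.Agent.GTwoFour.Tools

/-!
# Tools for the case `|Om(S)| = 2`, `z₁ ≠ z₂` of the classical involution theorem

Involutions modulo a subgroup of odd order, and elements acting trivially on `L / O`.
-/

set_option autoImplicit false
set_option maxHeartbeats 400000
set_option linter.style.haveILetI false

namespace Cfsg.Agent.Cit.TwoB

open Subgroup Cfsg

variable {G : Type*} [Group G]

theorem inv_of_sq {x : G} (h : x * x = 1) : x⁻¹ = x := inv_eq_of_mul_eq_one_left h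

theorem commute_iff_conj {x y : G} : x * y = y * x ↔ x * y * x⁻¹ = y := by
  rw [mul_inv_eq_iff_eq_mul]

/-- two involutions commuting modulo a subgroup of odd order -/
theorem exists_comm_of_mem [Finite G] {N : Subgroup G} (hN : Odd (Nat.card N)) {a b : G} (ha : a * a = 1)
    (hb : b * b = 1) (hab : a * b * (a * b) ∈ N) :
    ∃ n ∈ zpowers (a * b * (a * b)), a * (n * b * n⁻¹) = n * b * n⁻¹ * a := by
  set u := a * b with hu
  set d := u * u with hd
  have hai := inv_of_sq ha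
  have hbi := inv_of_sq hb
  have hui : u⁻¹ = b * a := by rw [hu, mul_inv_rev, hai, hbi]
  have hord : Odd (orderOf d) := by
    have h1 : orderOf d ∣ Nat.card N := by
      have h2 := orderOf_dvd_natCard (⟨d, hab⟩ : N)
      rwa [← Subgroup.orderOf_coe] at h2
    exact Odd.of_dvd_nat hN h1
  obtain ⟨k, hk⟩ := hord
  have hdm : d ^ (2 * k + 1) = 1 := by rw [← hk]; exact pow_orderOf_eq_one d
  set n := d ^ ((k + 1) ^ 2) with hn
  have hn4 : n ^ 4 = d := by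
    rw [hn, ← pow_mul, show (k + 1) ^ 2 * 4 = (2 * k + 1) * (2 * k + 3) + 1 by ring, pow_succ, pow_mul,
      hdm, one_pow, one_mul]
  have had : a * d * a⁻¹ = d⁻¹ := by
    rw [hd, mul_inv_rev, hui, hai, hu]
    calc a * (a * b * (a * b)) * a = (a * a) * b * (a * b) * a := by group
      _ = b * (a * b) * a := by rw [ha, one_mul]
      _ = b * a * (b * a) := by group
  have hbd : b * d * b⁻¹ = d⁻¹ := by
    rw [hd, mul_inv_rev, hui, hbi, hu]
    calc b * (a * b * (a * b)) * b = b * a * b * a * (b * b) := by group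
      _ = b * a * (b * a) := by rw [hb]; group
  have han : a * n * a⁻¹ = n⁻¹ := by rw [hn, ← _root_.conj_pow, had, inv_pow]
  have hbn : b * n * b⁻¹ = n⁻¹ := by rw [hn, ← _root_.conj_pow, hbd, inv_pow]
  refine ⟨n, Subgroup.pow_mem _ (mem_zpowers d) _, ?_⟩
  have h1 : n * b * n⁻¹ = n * n * b := by
    have h2 : b * n⁻¹ * b⁻¹ = n := by
      have h2' : b * n⁻¹ * b⁻¹ = (b * n * b⁻¹)⁻¹ := by group
      rw [h2', hbn, inv_inv]
    calc n * b * n⁻¹ = n * (b * n⁻¹ * b⁻¹) * b := by group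
      _ = n * n * b := by rw [h2]
  rw [h1]
  have h3 : a * n = n⁻¹ * a := by rw [← han]; group
  have h4 : n⁻¹ * n⁻¹ * u = n * n * u⁻¹ := by
    have h5 : u * u = n * n * (n * n) := by
      rw [← hd, ← hn4]; simp [pow_succ, mul_assoc]
    calc n⁻¹ * n⁻¹ * u = n⁻¹ * n⁻¹ * (u * u) * u⁻¹ := by group
      _ = n⁻¹ * n⁻¹ * (n * n * (n * n)) * u⁻¹ := by rw [h5]
      _ = n * n * u⁻¹ := by simp [mul_assoc]
  calc a * (n * n * b) = (a * n) * n * b := by group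
    _ = n⁻¹ * a * n * b := by rw [h3]
    _ = n⁻¹ * (a * n) * b := by group
    _ = n⁻¹ * (n⁻¹ * a) * b := by rw [h3]
    _ = n⁻¹ * n⁻¹ * u := by rw [hu]; group
    _ = n * n * u⁻¹ := h4
    _ = n * n * b * a := by rw [hui]; group

theorem exists_sq_one [Finite G] {N : Subgroup G} (hN : Odd (Nat.card N)) {l : G} (hl : l * l ∈ N) :
    ∃ l₀ ∈ zpowers l, l₀ * l₀ = 1 ∧ l⁻¹ * l₀ ∈ N := by
  have hord : Odd (orderOf (l * l)) := by
    have h1 : orderOf (l * l) ∣ Nat.card N := by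
      have h2 := orderOf_dvd_natCard (⟨l * l, hl⟩ : N)
      rwa [← Subgroup.orderOf_coe] at h2
    exact Odd.of_dvd_nat hN h1
  obtain ⟨k, hk⟩ := hord
  have hdm : (l * l) ^ (2 * k + 1) = 1 := by rw [← hk]; exact pow_orderOf_eq_one _
  refine ⟨l ^ (2 * k + 1), Subgroup.pow_mem _ (mem_zpowers l) _, ?_, ?_⟩
  · rw [← (Commute.refl l).mul_pow, hdm]
  · have h1 : l⁻¹ * l ^ (2 * k + 1) = (l * l) ^ k := by
      rw [pow_succ', inv_mul_cancel_left, pow_mul, pow_two]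
    rw [h1]
    exact N.pow_mem hl k

/-- a nontrivial normal subgroup of a 2-group contains a central involution -/
theorem exists_central_invol [Finite G] {T I : Subgroup G} (hT : IsPGroup 2 T) (hIT : I ≤ T)
    (hn : T ≤ normalizer (I : Set G)) (hne : I ≠ ⊥) :
    ∃ t ∈ I, t ≠ 1 ∧ t * t = 1 ∧ ∀ x ∈ T, x * t = t * x := by
  haveI : Fact (Nat.Prime 2) := ⟨Nat.prime_two⟩
  haveI h1 : (I.subgroupOf T).Normal := (normal_subgroupOf_iff_le_normalizer hIT).2 hn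
  have h2 : I.subgroupOf T ≠ ⊥ := by
    intro h3
    apply hne
    rw [← map_subgroupOf_eq_of_le hIT, h3, Subgroup.map_bot]
  obtain ⟨z, hz1, hz2, hz3⟩ := GTwoFour.Tools.exists_mem_center_of_normal hT (I.subgroupOf T) h2
  have hz4 : (z : G) ≠ 1 := fun h3 => hz3 (Subtype.ext h3)
  obtain ⟨k, hk⟩ := hT z
  have hk' : (z : G) ^ 2 ^ k = 1 := congrArg Subtype.val hk
  obtain ⟨j, hj, hj2⟩ := (Nat.dvd_prime_pow Nat.prime_two).mp (orderOf_dvd_of_pow_eq_one hk')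
  have hj0 : j ≠ 0 := by
    rintro rfl
    rw [pow_zero, orderOf_eq_one_iff] at hj2
    exact hz4 hj2
  obtain ⟨i, rfl⟩ := Nat.exists_eq_succ_of_ne_zero hj0
  refine ⟨(z : G) ^ 2 ^ i, I.pow_mem hz1 _, ?_, ?_, ?_⟩
  · intro h3
    have h4 := orderOf_dvd_of_pow_eq_one h3
    rw [hj2] at h4
    have h5 := Nat.le_of_dvd (by positivity) h4
    have h6 : 2 ^ i < 2 ^ (i + 1) := Nat.pow_lt_pow_right (by norm_num) (by omega)
    have h7 : i.succ = i + 1 := rfl
    rw [h7] at h5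
    omega
  · rw [← pow_add, ← two_mul, ← pow_succ', ← Nat.succ_eq_add_one, ← hj2, pow_orderOf_eq_one]
  · intro x hx
    have h3 := mem_center_iff.1 hz2 ⟨x, hx⟩
    have h4 : x * z = z * x := congrArg Subtype.val h3
    exact ((show Commute x (z : G) from h4).pow_right _).eq

/-- Sylow 2-subgroups of normal subgroups -/
theorem syl_inf_of_normal [Finite G] {T C N : Subgroup G} (hT : Syl T C) (hNC : N ≤ C)
    (hn : C ≤ normalizer (N : Set G)) : Syl (N ⊓ T) N := by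
  have h1 : (N.subgroupOf C).Normal := (normal_subgroupOf_iff_le_normalizer hNC).2 hn
  refine ⟨inf_le_left, hT.2.1.to_le inf_le_right, ?_⟩
  rw [inf_comm, inf_relIndex_right]
  intro h2
  apply hT.2.2
  refine h2.trans ?_
  have h3 := SignalizersComponents.PCompCore.relIndex_dvd_index_of_normal_right
    (T.subgroupOf C) (N.subgroupOf C)
  rwa [relIndex_subgroupOf hNC] at h3

/-- `x` acts trivially on `L / O` -/
def Tv (L O : Subgroup G) (x : G) : Prop := ∀ y ∈ L, x * y * x⁻¹ * y⁻¹ ∈ O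

/-- `O ≤ L` normal in `C`, `O` of odd order, `L / O` without centre -/
structure Pc (C L O : Subgroup G) : Prop where
  le : L ≤ C
  ole : O ≤ L
  nL : C ≤ normalizer (L : Set G)
  nO : C ≤ normalizer (O : Set G)
  odd : Odd (Nat.card O)
  cent : ∀ t ∈ L, Tv L O t → t ∈ O

namespace Pc

variable {C L O : Subgroup G}

theorem conjL (h : Pc C L O) {g x : G} (hg : g ∈ C) (hx : x ∈ L) : g * x * g⁻¹ ∈ L :=
  (mem_normalizer_iff.1 (h.nL hg) x).1 hx

theorem conjL' (h : Pc C L O) {g x : G} (hg : g ∈ C) (hx : x ∈ L) : g⁻¹ * x * g ∈ L := by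
  simpa using h.conjL (C.inv_mem hg) hx

theorem conjO (h : Pc C L O) {g x : G} (hg : g ∈ C) (hx : x ∈ O) : g * x * g⁻¹ ∈ O :=
  (mem_normalizer_iff.1 (h.nO hg) x).1 hx

theorem conjO' (h : Pc C L O) {g x : G} (hg : g ∈ C) (hx : x ∈ O) : g⁻¹ * x * g ∈ O := by
  simpa using h.conjO (C.inv_mem hg) hx

theorem tv_mul (h : Pc C L O) {x y : G} (hx : x ∈ C) (h1 : Tv L O x) (h2 : Tv L O y) : Tv L O (x * y) := by
  intro w hw
  have h3 := O.mul_mem (h.conjO hx (h2 w hw)) (h1 w hw)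
  have h4 : x * (y * w * y⁻¹ * w⁻¹) * x⁻¹ * (x * w * x⁻¹ * w⁻¹) = x * y * w * (x * y)⁻¹ * w⁻¹ := by group
  rwa [h4] at h3

theorem tv_inv (h : Pc C L O) {x : G} (hx : x ∈ C) (h1 : Tv L O x) : Tv L O x⁻¹ := by
  intro w hw
  have h3 := h.conjO' hx (O.inv_mem (h1 w hw))
  have h4 : x⁻¹ * (x * w * x⁻¹ * w⁻¹)⁻¹ * x = x⁻¹ * w * x⁻¹⁻¹ * w⁻¹ := by group
  rwa [h4] at h3

theorem tv_of_mem (h : Pc C L O) {x : G} (hx : x ∈ O) : Tv L O x := by
  intro w hw
  have h3 := O.mul_mem hx (h.conjO (h.le hw) (O.inv_mem hx))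
  have h4 : x * (w * x⁻¹ * w⁻¹) = x * w * x⁻¹ * w⁻¹ := by group
  rwa [h4] at h3

theorem tv_conj (h : Pc C L O) {g x : G} (hg : g ∈ C) (h1 : Tv L O x) : Tv L O (g * x * g⁻¹) := by
  intro w hw
  have h3 := h.conjO hg (h1 _ (h.conjL' hg hw))
  have h4 : g * (x * (g⁻¹ * w * g) * x⁻¹ * (g⁻¹ * w * g)⁻¹) * g⁻¹ = g * x * g⁻¹ * w * (g * x * g⁻¹)⁻¹ * w⁻¹ := by
    group
  rwa [h4] at h3

theorem tv_conj_iff (h : Pc C L O) {g x : G} (hg : g ∈ C) : Tv L O (g * x * g⁻¹) ↔ Tv L O x := by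
  refine ⟨fun h1 => ?_, h.tv_conj hg⟩
  have h2 := h.tv_conj (C.inv_mem hg) h1
  have h3 : g⁻¹ * (g * x * g⁻¹) * g⁻¹⁻¹ = x := by group
  rwa [h3] at h2

theorem eq_one [Finite G] (h : Pc C L O) {x : G} (hx : x ∈ O) (h2 : x * x = 1) : x = 1 := by
  by_contra h1
  have h3 : orderOf x = 2 := orderOf_eq_prime (by rw [pow_two]; exact h2) h1
  have h4 : orderOf x ∣ Nat.card O := by
    have := orderOf_dvd_natCard (⟨x, hx⟩ : O)
    rwa [← Subgroup.orderOf_coe] at this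
  rw [h3] at h4
  exact (Nat.not_even_iff_odd.2 h.odd) (even_iff_two_dvd.2 h4)

/-- an involution acting on `L / O` as an inner automorphism -/
theorem decompose [Finite G] (h : Pc C L O) {x l : G} (hx : x ∈ C) (hx2 : x * x = 1) (hl : l ∈ L)
    (ht : Tv L O (x * l)) : ∃ l₁ ∈ L, ∃ c ∈ C, Tv L O c ∧ l₁ * l₁ = 1 ∧ c * c = 1 ∧ l₁ * c = c * l₁ ∧
      x = l₁ * c := by
  have hlC := h.le hl
  have hxi := inv_of_sq hx2
  -- `l * l ∈ O`
  have h1 : Tv L O (l * x) := by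
    have := h.tv_conj hlC ht
    have h3 : l * (x * l) * l⁻¹ = l * x := by group
    rwa [h3] at this
  have h2 : Tv L O (l * l) := by
    have := h.tv_mul (C.mul_mem hlC hx) h1 ht
    have h3 : l * x * (x * l) = l * l := by
      calc l * x * (x * l) = l * (x * x) * l := by group
        _ = l * l := by rw [hx2, mul_one]
    rwa [h3] at this
  have h3 : l * l ∈ O := h.cent _ (L.mul_mem hl hl) h2
  obtain ⟨l₀, hl₀, hl₀2, hl₀O⟩ := exists_sq_one h.odd h3
  have hl₀L : l₀ ∈ L := (zpowers_le.2 hl) hl₀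
  have hl₀C := h.le hl₀L
  have hl₀i := inv_of_sq hl₀2
  have h4 : Tv L O (x * l₀) := by
    have := h.tv_mul (C.mul_mem hx hlC) ht (h.tv_of_mem hl₀O)
    have h5 : x * l * (l⁻¹ * l₀) = x * l₀ := by group
    rwa [h5] at this
  have h5 : x * l₀ * (x * l₀) ∈ O := by
    have := h4 l₀ hl₀L
    have h6 : x * l₀ * l₀ * (x * l₀)⁻¹ * l₀⁻¹ = x * l₀ * (x * l₀) := by
      calc x * l₀ * l₀ * (x * l₀)⁻¹ * l₀⁻¹ = x * l₀ * x⁻¹ * l₀⁻¹ := by group
        _ = x * l₀ * (x * l₀) := by rw [hl₀i, hxi]; group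
    rwa [h6] at this
  obtain ⟨n, hn, hnc⟩ := exists_comm_of_mem h.odd hx2 hl₀2 h5
  have hnO : n ∈ O := (zpowers_le.2 h5) hn
  have hnL := h.ole hnO
  have hnC := h.le hnL
  set l₁ := n * l₀ * n⁻¹ with hl₁
  have hl₁L : l₁ ∈ L := L.mul_mem (L.mul_mem hnL hl₀L) (L.inv_mem hnL)
  have hl₁2 : l₁ * l₁ = 1 := by
    calc l₁ * l₁ = n * (l₀ * l₀) * n⁻¹ := by rw [hl₁]; group
      _ = 1 := by rw [hl₀2]; group
  refine ⟨l₁, hl₁L, l₁ * x, C.mul_mem (h.le hl₁L) hx, ?_, hl₁2, ?_, ?_, ?_⟩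
  · have h6 : l₁ * x = (n * (l₀ * n⁻¹ * l₀⁻¹)) * (l₀ * x) := by rw [hl₁]; group
    rw [h6]
    have h7 : Tv L O (l₀ * x) := by
      have := h.tv_conj hl₀C h4
      have h8 : l₀ * (x * l₀) * l₀⁻¹ = l₀ * x := by group
      rwa [h8] at this
    have h8 : n * (l₀ * n⁻¹ * l₀⁻¹) ∈ O := O.mul_mem hnO (h.conjO hl₀C (O.inv_mem hnO))
    exact h.tv_mul (h.le (h.ole h8)) (h.tv_of_mem h8) h7
  · calc l₁ * x * (l₁ * x) = l₁ * (x * l₁) * x := by group
      _ = (l₁ * l₁) * (x * x) := by rw [hnc]; group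
      _ = 1 := by rw [hl₁2, hx2, one_mul]
  · calc l₁ * (l₁ * x) = l₁ * (x * l₁) := by rw [hnc]
      _ = l₁ * x * l₁ := by group
  · calc x = (l₁ * l₁) * x := by rw [hl₁2, one_mul]
      _ = l₁ * (l₁ * x) := by group

/-- (B2) : if `c` is trivial on `L / O`, then `c p` and `c t` are conjugate -/
theorem conj_mul [Finite G] (h : Pc C L O) {c p t : G} (hc2 : c * c = 1) (hct : Tv L O c)
    (ht2 : t * t = 1) (hcp : c * p = p * c) (hctt : c * t = t * c)
    (hone : ∃ g ∈ L, g * p * g⁻¹ = t) (hp2 : p * p = 1) :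
    ∃ g ∈ L, g * (c * p) * g⁻¹ = c * t := by
  obtain ⟨g, hg, hgp⟩ := hone
  have hgC := h.le hg
  have hci := inv_of_sq hc2
  set s := g * (c * p) * g⁻¹ with hs
  have hs1 : s = g * c * g⁻¹ * t := by rw [← hgp, hs]; group
  have hs2 : s * s = 1 := by
    calc s * s = g * (c * p * (c * p)) * g⁻¹ := by rw [hs]; group
      _ = g * (c * (p * c) * p) * g⁻¹ := by group
      _ = g * ((c * c) * (p * p)) * g⁻¹ := by rw [← hcp]; group
      _ = 1 := by rw [hc2, hp2]; group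
  have hs'2 : c * t * (c * t) = 1 := by
    calc c * t * (c * t) = c * (t * c) * t := by group
      _ = (c * c) * (t * t) := by rw [← hctt]; group
      _ = 1 := by rw [hc2, ht2, one_mul]
  have h1 : s * (c * t) ∈ O := by
    have h2 : s * (c * t) = g * c * g⁻¹ * c⁻¹ := by
      calc s * (c * t) = g * c * g⁻¹ * (t * c) * t := by rw [hs1]; group
        _ = g * c * g⁻¹ * c * (t * t) := by rw [← hctt]; group
        _ = g * c * g⁻¹ * c⁻¹ := by rw [ht2, hci, mul_one]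
    rw [h2]
    have h3 := O.inv_mem (hct g hg)
    have h4 : (c * g * c⁻¹ * g⁻¹)⁻¹ = g * c * g⁻¹ * c⁻¹ := by group
    rwa [h4] at h3
  obtain ⟨n, hn, hn1⟩ := Parab.exists_conj_of_mem h.odd hs2 hs'2 h1
  refine ⟨n * g, L.mul_mem (h.ole hn) hg, ?_⟩
  rw [← hn1, hs]; group

/-- lifting of an element of `C_{L/O}(x)` and of the commutation of conjugates of `t` -/
theorem lift [Finite G] (h : Pc C L O) {x g t : G} (hx2 : x * x = 1) (hg : g ∈ L)
    (hxg : x * g * x⁻¹ * g⁻¹ ∈ O) (ht : t ∈ L) (ht2 : t * t = 1) (hxt : x * t = t * x)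
    (hc : t * (g * t * g⁻¹) * (t * (g * t * g⁻¹)) ∈ O) (hne : t * (g * t * g⁻¹) ∉ O) :
    ∃ g' ∈ L, x * g' = g' * x ∧ t * (g' * t * g'⁻¹) = g' * t * g'⁻¹ * t ∧ g' * t * g'⁻¹ ≠ t := by
  have hxi := inv_of_sq hx2
  have hti := inv_of_sq ht2
  have htC := h.le ht
  have hgC := h.le hg
  -- step 1
  have h1 : g⁻¹ * x * g * (g⁻¹ * x * g) = 1 := by
    calc g⁻¹ * x * g * (g⁻¹ * x * g) = g⁻¹ * (x * x) * g := by group
      _ = 1 := by rw [hx2]; group
  have h2 : x * (g⁻¹ * x * g) ∈ O := by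
    have h3 : x * (g⁻¹ * x * g) = g⁻¹ * (g * x * g⁻¹ * x⁻¹) * g := by
      rw [hxi]
      have : g⁻¹ * (g * x * g⁻¹ * x) * g = x * (g⁻¹ * x * g) := by group
      exact this.symm
    rw [h3]
    have h4 := O.inv_mem hxg
    have h5 : (x * g * x⁻¹ * g⁻¹)⁻¹ = g * x * g⁻¹ * x⁻¹ := by group
    rw [h5] at h4
    exact h.conjO' hgC h4
  obtain ⟨n, hn, hn1⟩ := Parab.exists_conj_of_mem h.odd hx2 h1 h2
  have hnC := h.le (h.ole hn)
  set g₀ := g * n with hg₀
  have hg₀L : g₀ ∈ L := L.mul_mem hg (h.ole hn)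
  have hg₀x : x * g₀ = g₀ * x := by
    have : g₀ * x * g₀⁻¹ = x := by
      calc g₀ * x * g₀⁻¹ = g * (n * x * n⁻¹) * g⁻¹ := by rw [hg₀]; group
        _ = x := by rw [hn1]; group
    exact (commute_iff_conj.2 this).symm
  set l := g * t * g⁻¹ with hl
  set l₀ := g₀ * t * g₀⁻¹ with hl₀
  have hl₀L : l₀ ∈ L := L.mul_mem (L.mul_mem hg₀L ht) (L.inv_mem hg₀L)
  have hl₀2 : l₀ * l₀ = 1 := by
    calc l₀ * l₀ = g₀ * (t * t) * g₀⁻¹ := by rw [hl₀]; group
      _ = 1 := by rw [ht2]; group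
  have hl₀i := inv_of_sq hl₀2
  have hlL : l ∈ L := L.mul_mem (L.mul_mem hg ht) (L.inv_mem hg)
  -- `l₀ = o * l`
  obtain ⟨o, ho, hol⟩ : ∃ o ∈ O, l₀ = o * l := by
    refine ⟨g * (n * (t * n⁻¹ * t⁻¹)) * g⁻¹, h.conjO hgC (O.mul_mem hn (h.conjO htC (O.inv_mem hn))), ?_⟩
    rw [hl₀, hg₀, hl]; group
  have h3 : t * l₀ * (t * l₀) ∈ O := by
    -- `t l₀ t l₀ = t o l t o l`
    have h4 : t * l₀ * (t * l₀) = (t * o * t⁻¹) * ((t * l * t⁻¹) * (t * t) * o * (t * l * t⁻¹)⁻¹ * (t * t)⁻¹) *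
        (t * l * (t * l)) := by
      rw [hol, ht2, hti]
      have h5 : t * (o * l) * (t * (o * l)) = t * o * (l * t * o * l) := by group
      rw [h5]
      have hli : l⁻¹ = l := inv_of_sq (by
        calc l * l = g * (t * t) * g⁻¹ := by rw [hl]; group
          _ = 1 := by rw [ht2]; group)
      have h6 : (t * l * t)⁻¹ = t * l * t := by
        rw [mul_inv_rev, mul_inv_rev, hti, hli]; group
      rw [h6]
      have h7 : t * o * t * (t * l * t * 1 * o * (t * l * t) * 1⁻¹) * (t * l * (t * l)) =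
          t * o * (t * t) * l * t * o * t * l * (t * t) * l * t * l := by group
      rw [h7, ht2]
      have h8 : t * o * 1 * l * t * o * t * l * 1 * l * t * l = t * o * l * t * o * t * (l * l) * t * l := by group
      have h9 : l * l = 1 := by rw [← hli]; nth_rw 2 [hli]; group
      rw [h8, h9]
      have h10 : t * o * l * t * o * t * 1 * t * l = t * o * l * t * o * (t * t) * l := by group
      rw [h10, ht2]; group
    rw [h4]
    refine O.mul_mem (O.mul_mem (h.conjO htC ho) ?_) hc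
    rw [ht2]
    have h5 := h.conjO (C.mul_mem (C.mul_mem htC (h.le hlL)) (C.inv_mem htC)) ho
    simpa using h5
  obtain ⟨m, hm, hmc⟩ := exists_comm_of_mem h.odd ht2 hl₀2 h3
  have hmO : m ∈ O := (zpowers_le.2 h3) hm
  have hxl₀ : x * l₀ = l₀ * x := by
    rw [hl₀]
    calc x * (g₀ * t * g₀⁻¹) = (x * g₀) * t * g₀⁻¹ := by group
      _ = g₀ * (x * t) * g₀⁻¹ := by rw [hg₀x]; group
      _ = g₀ * t * (x * g₀⁻¹) := by rw [hxt]; group
      _ = g₀ * t * (g₀⁻¹ * (g₀ * x) * g₀⁻¹) := by group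
      _ = g₀ * t * g₀⁻¹ * x := by rw [← hg₀x]; group
  have hxm : x * m = m * x := by
    have h4 : Commute x (t * l₀ * (t * l₀)) := by
      have h5 : Commute x t := hxt
      have h6 : Commute x l₀ := hxl₀
      exact (h5.mul_right h6).mul_right (h5.mul_right h6)
    obtain ⟨k, rfl⟩ := mem_zpowers_iff.1 hm
    exact h4.zpow_right k
  refine ⟨m * g₀, L.mul_mem (h.ole hmO) hg₀L, ?_, ?_, ?_⟩
  · calc x * (m * g₀) = (x * m) * g₀ := by group
      _ = m * (x * g₀) := by rw [hxm]; group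
      _ = m * g₀ * x := by rw [hg₀x]; group
  · have h4 : m * g₀ * t * (m * g₀)⁻¹ = m * l₀ * m⁻¹ := by rw [hl₀]; group
    rw [h4]; exact hmc
  · intro hcon
    apply hne
    have h4 : m * g₀ * t * (m * g₀)⁻¹ = m * l₀ * m⁻¹ := by rw [hl₀]; group
    rw [h4, hol] at hcon
    -- `l = o⁻¹ m⁻¹ t m`
    have h5 : l = o⁻¹ * (m⁻¹ * t * m) := by rw [← hcon]; group
    have h6 : t * l = (t * (o⁻¹ * m⁻¹) * t⁻¹) * (t * t) * m := by rw [h5]; group
    rw [h6, ht2, mul_one]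
    exact O.mul_mem (h.conjO htC (O.mul_mem (O.inv_mem ho) (O.inv_mem hmO))) hmO

end Pc

end Cfsg.Agent.Cit.TwoB
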