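import Cfsg.Agent.Cit.TwoBasic
import Cfsg.Agent.Cit.TwoB.Tools

/-!
# `|Om(S)| = 2`, `z₁ ≠ z₂`, case B: frames and the second factor `L` of the centralisers

`Fr Om K L T`: `K`, `L` are partners and `T` is a common Sylow 2-subgroup of `C(z_K)` and `C(z_L)` containing
Sylow 2-subgroups of both.  `LPiece Om LL`: the subgroups `LL K ⊴ C(z_K)` with the facts (L1)-(L3).
(bb R18 #6419, (B0)-(B4))
-/

set_option autoImplicit false
set_option maxHeartbeats 400000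
set_option linter.style.haveILetI false
set_option linter.unusedSectionVars false

namespace Cfsg.Agent.Cit.TwoB

open Subgroup Cfsg

variable {G : Type*} [Group G] {Om : Set (Subgroup G)} {K L T : Subgroup G}

/-- a frame -/
structure Fr (Om : Set (Subgroup G)) (K L T : Subgroup G) : Prop where
  ne : K ≠ L
  kT : K ∈ OmS Om T
  lT : L ∈ OmS Om T
  sk : Syl T (centralizer {zz K})
  sl : Syl T (centralizer {zz L})

section Sylow

variable [Finite G]

theorem inf_centralizer_eq (h : Two Om) (S : Sylow 2 G) (hK : K ∈ OmS Om (S : Subgroup G))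
    (hL : L ∈ OmS Om (S : Subgroup G)) (hne : K ≠ L) :
    (S : Subgroup G) ⊓ centralizer {zz K} = (S : Subgroup G) ⊓ centralizer {zz L} := by
  have key : ∀ K L : Subgroup G, K ∈ OmS Om (S : Subgroup G) → L ∈ OmS Om (S : Subgroup G) → K ≠ L →
      (S : Subgroup G) ⊓ centralizer {zz K} ≤ (S : Subgroup G) ⊓ centralizer {zz L} := by
    rintro K L hK hL hne x ⟨hx, hxK⟩
    refine ⟨hx, ?_⟩
    have h1 := (h.cj_eq_iff hK.1).2 (mem_centralizer_singleton_iff.1 hxK)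
    rcases h.cj_or S.isPGroup' hK hL hne (le_normalizer hx) with ⟨-, h2⟩ | ⟨h2, -⟩
    · exact mem_centralizer_singleton_iff.2 ((h.cj_eq_iff hL.1).1 h2)
    · exact absurd (h1.symm.trans h2) hne
  exact le_antisymm (key K L hK hL hne) (key L K hL hK hne.symm)

theorem relIndex_two (h : Two Om) (S : Sylow 2 G) (hK : K ∈ OmS Om (S : Subgroup G))
    (hL : L ∈ OmS Om (S : Subgroup G)) (hne : K ≠ L) :
    ((S : Subgroup G) ⊓ centralizer {zz K}).relIndex (S : Subgroup G) = 2 := by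
  obtain ⟨s, hs, h1, h2⟩ := h.exists_swap S hK hL hne
  rw [relIndex_eq_two_iff]
  refine ⟨s, hs, fun b hb => ?_⟩
  have h3 : ∀ x : G, x ∈ (S : Subgroup G) → (x ∈ (S : Subgroup G) ⊓ centralizer {zz K} ↔ cj x K = K) := by
    intro x hx
    constructor
    · intro h4
      exact (h.cj_eq_iff hK.1).2 (mem_centralizer_singleton_iff.1 h4.2)
    · intro h4
      exact ⟨hx, mem_centralizer_singleton_iff.2 ((h.cj_eq_iff hK.1).1 h4)⟩
  rw [h3 _ hb, h3 _ (Subgroup.mul_mem _ hb hs), cj_mul, h1]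
  rcases h.cj_or S.isPGroup' hK hL hne (le_normalizer hb) with ⟨h4, h5⟩ | ⟨h4, h5⟩
  · rw [h4, h5]
    exact Or.inr ⟨rfl, hne.symm⟩
  · rw [h4, h5]
    exact Or.inl ⟨rfl, hne.symm⟩

theorem card_two (h : Two Om) (S : Sylow 2 G) (hK : K ∈ OmS Om (S : Subgroup G))
    (hL : L ∈ OmS Om (S : Subgroup G)) (hne : K ≠ L) :
    Nat.card ((S : Subgroup G) ⊓ centralizer {zz K} : Subgroup G) * 2 = Nat.card (S : Subgroup G) := by
  have h1 := relIndex_mul_relIndex ⊥ ((S : Subgroup G) ⊓ centralizer {zz K}) (S : Subgroup G) bot_le inf_le_left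
  rw [relIndex_bot_left, relIndex_bot_left, relIndex_two h S hK hL hne] at h1
  exact h1

theorem syl_of_sylow (h : Two Om) (S : Sylow 2 G) (hK : K ∈ OmS Om (S : Subgroup G))
    (hL : L ∈ OmS Om (S : Subgroup G)) (hne : K ≠ L) :
    Syl ((S : Subgroup G) ⊓ centralizer {zz K}) (centralizer {zz K}) := by
  haveI : Fact (Nat.Prime 2) := ⟨Nat.prime_two⟩
  have hp : IsPGroup 2 ((S : Subgroup G) ⊓ centralizer {zz K} : Subgroup G) := S.isPGroup'.to_le inf_le_left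
  obtain ⟨T', hT', hle⟩ := OneBasic.exists_syl_ge hp inf_le_right
  obtain ⟨S', hS'⟩ := hT'.2.1.exists_le_sylow
  have hO := OmS_centralizer h.hyp S.isPGroup' hK
  have hK' : K ∈ OmS Om (S' : Subgroup G) := OmS_mono (hle.trans hS') (by rw [hO]; exact hK)
  have hL' : L ∈ OmS Om (S' : Subgroup G) := OmS_mono (hle.trans hS') (by rw [hO]; exact hL)
  have h1 := card_two h S hK hL hne
  have h2 := card_two h S' hK' hL' hne
  have h3 : Nat.card (S : Subgroup G) = Nat.card (S' : Subgroup G) := by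
    obtain ⟨g, hg⟩ := exists_cj_sylow S S'
    rw [← hg, card_cj]
  have h4 : Nat.card T' ≤ Nat.card ((S' : Subgroup G) ⊓ centralizer {zz K} : Subgroup G) :=
    Subgroup.card_le_of_le (le_inf hS' hT'.1)
  have h5 : (S : Subgroup G) ⊓ centralizer {zz K} = T' :=
    Subgroup.eq_of_le_of_card_ge hle (by omega)
  rw [h5]
  exact hT'

/-- `S ⊓ C(z_K)` is a frame -/
theorem fr_of_sylow (h : Two Om) (S : Sylow 2 G) (hK : K ∈ OmS Om (S : Subgroup G))
    (hL : L ∈ OmS Om (S : Subgroup G)) (hne : K ≠ L) :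
    Fr Om K L ((S : Subgroup G) ⊓ centralizer {zz K}) := by
  have hO := OmS_centralizer h.hyp S.isPGroup' hK
  refine ⟨hne, by rw [hO]; exact hK, by rw [hO]; exact hL, syl_of_sylow h S hK hL hne, ?_⟩
  rw [inf_centralizer_eq h S hK hL hne]
  exact syl_of_sylow h S hL hK hne.symm

end Sylow

namespace Fr

variable [Finite G]

theorem pt (f : Fr Om K L T) : Pt Om K L := ⟨f.ne, T, f.sk.2.1, f.kT, f.lT⟩

theorem symm (f : Fr Om K L T) : Fr Om L K T := ⟨f.ne.symm, f.lT, f.kT, f.sl, f.sk⟩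

theorem hT (f : Fr Om K L T) : IsPGroup 2 T := f.sk.2.1

theorem commK (f : Fr Om K L T) {x : G} (hx : x ∈ T) : x * zz K = zz K * x :=
  mem_centralizer_singleton_iff.1 (f.sk.1 hx)

theorem commL (f : Fr Om K L T) {x : G} (hx : x ∈ T) : x * zz L = zz L * x :=
  mem_centralizer_singleton_iff.1 (f.sl.1 hx)

theorem cj (h : Hyp Om) (f : Fr Om K L T) (g : G) : Fr Om (Cit.cj g K) (Cit.cj g L) (Cit.cj g T) := by
  refine ⟨fun h1 => f.ne (cj_inj.1 h1), cj_mem_OmS h.conj g f.kT, cj_mem_OmS h.conj g f.lT, ?_, ?_⟩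
  · rw [h.zz_cj f.kT.1, ← cj_centralizer]
    exact f.sk.cj g
  · rw [h.zz_cj f.lT.1, ← cj_centralizer]
    exact f.sl.cj g

theorem exists_conj (f : Fr Om K L T) {T' : Subgroup G} (f' : Fr Om K L T') :
    ∃ m ∈ centralizer {zz K} ⊓ centralizer {zz L}, Cit.cj m T = T' :=
  (OneBasic.syl_of_le f.sk (le_inf f.sk.1 f.sl.1) inf_le_left).exists_conj
    (OneBasic.syl_of_le f'.sk (le_inf f'.sk.1 f'.sl.1) inf_le_left)

theorem exists_sylow (h : Two Om) (f : Fr Om K L T) : ∃ S : Sylow 2 G, K ∈ OmS Om (S : Subgroup G) ∧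
    L ∈ OmS Om (S : Subgroup G) ∧ T = (S : Subgroup G) ⊓ centralizer {zz K} := by
  obtain ⟨S, hS⟩ := f.hT.exists_le_sylow
  refine ⟨S, OmS_mono hS f.kT, OmS_mono hS f.lT, ?_⟩
  exact OneBasic.syl_eq_of_le f.sk (S.isPGroup'.to_le inf_le_left) inf_le_right (le_inf hS f.sk.1)

end Fr

section Exists

variable [Finite G]

/-- a frame over given partners containing a given 2-subgroup of `C(z_K) ∩ C(z_L)` -/
theorem exists_frame (h : Two Om) (hP : Pt Om K L) {A : Subgroup G} (hA : IsPGroup 2 A)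
    (hAK : A ≤ centralizer {zz K}) (hAL : A ≤ centralizer {zz L}) : ∃ T, A ≤ T ∧ Fr Om K L T := by
  obtain ⟨S, hK, hL⟩ := hP.exists_sylow
  have f := fr_of_sylow h S hK hL hP.1
  have h1 := OneBasic.syl_of_le f.sk (le_inf f.sk.1 f.sl.1) (inf_le_left : _ ⊓ centralizer {zz L} ≤ _)
  obtain ⟨T, hT, hAT⟩ := OneBasic.exists_syl_ge hA (le_inf hAK hAL)
  obtain ⟨m, hm, hmT⟩ := h1.exists_conj hT
  have f' := f.cj h.hyp m
  rw [hmT, (h.cj_eq_iff hK.1).2 (mem_centralizer_singleton_iff.1 hm.1),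
    (h.cj_eq_iff hL.1).2 (mem_centralizer_singleton_iff.1 hm.2)] at f'
  exact ⟨T, hAT, f'⟩

theorem exists_frame_one (h : Two Om) (hP : Pt Om K L) {x : G} (hx2 : x * x = 1)
    (hxK : x * zz K = zz K * x) (hxL : x * zz L = zz L * x) : ∃ T, x ∈ T ∧ Fr Om K L T := by
  obtain ⟨T, hT, f⟩ := exists_frame h hP (Two.isPGroup_zpowers_of_sq hx2)
    (zpowers_le.2 (mem_centralizer_singleton_iff.2 hxK)) (zpowers_le.2 (mem_centralizer_singleton_iff.2 hxL))
  exact ⟨T, hT (mem_zpowers x), f⟩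

theorem exists_pt (h : Two Om) (hK : K ∈ Om) : ∃ L, Pt Om K L := by
  haveI : Fact (Nat.Prime 2) := ⟨Nat.prime_two⟩
  obtain ⟨Q, hQ⟩ := Hyp.exists_syl K
  obtain ⟨S, hS⟩ := hQ.2.1.exists_le_sylow
  have hKS : K ∈ OmS Om (S : Subgroup G) := mem_OmS_of_le hK hQ hS
  obtain ⟨U, V, hUV, h1⟩ := Set.ncard_eq_two.1 (h.two S)
  have hU : U ∈ OmS Om (S : Subgroup G) := by rw [h1]; simp
  have hV : V ∈ OmS Om (S : Subgroup G) := by rw [h1]; simp
  rcases h.pair S.isPGroup' hU hV hKS hUV with rfl | rfl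
  · exact ⟨V, hUV, S, S.isPGroup', hU, hV⟩
  · exact ⟨U, hUV.symm, S, S.isPGroup', hV, hU⟩

/-- a frame over `K` containing a given 2-subgroup of `C(z_K)` -/
theorem exists_frame' (h : Two Om) (hK : K ∈ Om) {A : Subgroup G} (hA : IsPGroup 2 A)
    (hAK : A ≤ centralizer {zz K}) : ∃ L T, A ≤ T ∧ Fr Om K L T := by
  obtain ⟨L, hP⟩ := exists_pt h hK
  obtain ⟨S, hKS, hL⟩ := hP.exists_sylow
  have f := fr_of_sylow h S hKS hL hP.1
  obtain ⟨T, hT, hAT⟩ := OneBasic.exists_syl_ge hA hAK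
  obtain ⟨m, hm, hmT⟩ := f.sk.exists_conj hT
  have f' := f.cj h.hyp m
  rw [hmT, (h.cj_eq_iff hK).2 (mem_centralizer_singleton_iff.1 hm)] at f'
  exact ⟨_, T, hAT, f'⟩

end Exists

/-! ### The second factor of `C(z_K)` -/

/-- `x` acts trivially on `LL K / O(C(z_K))` -/
def TV (LL : Subgroup G → Subgroup G) (K : Subgroup G) (x : G) : Prop :=
  Tv (LL K) (OO (centralizer {zz K})) x

/-- the normal subgroups `LL K` of `C(z_K)`, modulo `O(C(z_K))` a simple group `L₃(q)`, `U₃(q)`, `M₁₁`, `G₂(q)`,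
`³D₄(q)`: the facts used, except (L4) = `OutP` in `Link.lean` -/
structure LPiece (Om : Set (Subgroup G)) (LL : Subgroup G → Subgroup G) : Prop where
  cj : ∀ K ∈ Om, ∀ g, LL (cj g K) = Cit.cj g (LL K)
  pc : ∀ K ∈ Om, Pc (centralizer {zz K}) (LL K) (OO (centralizer {zz K}))
  /-- `K` acts trivially on `LL K / O` -/
  comm : ∀ K ∈ Om, ∀ k ∈ K, TV LL K k
  /-- Sylow 2-subgroups of partners of `K` lie in `LL K` -/
  part : ∀ K L R : Subgroup G, IsPGroup 2 R → K ∈ OmS Om R → L ∈ OmS Om R → K ≠ L → L ⊓ R ≤ LL K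
  /-- (L1) one class of involutions -/
  one : ∀ K ∈ Om, ∀ s ∈ LL K, ∀ t ∈ LL K, s * s = 1 → s ≠ 1 → t * t = 1 → t ≠ 1 → ∃ g ∈ LL K, g * s * g⁻¹ = t
  /-- (L2) the centraliser of a Sylow 2-subgroup of the partner has one involution -/
  cent2 : ∀ K L, Pt Om K L → ∀ Q, Syl Q L → Q ≤ LL K → ∀ t ∈ LL K, t * t = 1 → t ≠ 1 →
    (∀ q ∈ Q, t * q = q * t) → t = zz L
  /-- (L2) the 2-rank of `LL K / O` is at least two -/
  four : ∀ K L, Pt Om K L → ∃ t ∈ LL K, t * t = 1 ∧ t ≠ 1 ∧ t ≠ zz L ∧ t * zz L = zz L * t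
  /-- (L3) involutions of `C(z_K)` centralising a Sylow 2-subgroup `P` of `LL K` act as elements of `P` -/
  sylc : ∀ K ∈ Om, ∀ P, Syl P (LL K) → ∀ x ∈ centralizer {zz K}, x * x = 1 → (∀ p ∈ P, x * p = p * x) →
    ∃ y ∈ P, TV LL K (x * y)
namespace LPiece

variable [Finite G] {LL : Subgroup G → Subgroup G}

theorem mem_of_pt (hL : LPiece Om LL) (h : Two Om) (hP : Pt Om K L) : zz L ∈ LL K := by
  obtain ⟨hne, R, hR, hK, hL'⟩ := hP
  exact hL.part K L R hR hK hL' hne (h.hyp.zz_mem_inf hR hL')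

theorem le_cent (hL : LPiece Om LL) (hK : K ∈ Om) {x : G} (hx : x ∈ LL K) : x * zz K = zz K * x :=
  mem_centralizer_singleton_iff.1 ((hL.pc K hK).le hx)

/-- (B1) an involution of `LL K` is the involution of a partner of `K` -/
theorem exists_pt_of_mem (hL : LPiece Om LL) (h : Two Om) (hK : K ∈ Om) {x : G} (hx : x ∈ LL K)
    (hx2 : x * x = 1) (hx1 : x ≠ 1) : ∃ M, Pt Om K M ∧ zz M = x := by
  obtain ⟨L, hP⟩ := exists_pt h hK
  obtain ⟨g, hg, hgx⟩ := hL.one K hK (zz L) (hL.mem_of_pt h hP) x hx (h.hyp.zz_mul hP.right)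
    (h.hyp.zz_ne hP.right) hx2 hx1
  refine ⟨Cit.cj g L, ?_, by rw [h.hyp.zz_cj hP.right, hgx]⟩
  have h1 := hP.cj h.hyp.conj g
  rwa [(h.cj_eq_iff hK).2 (hL.le_cent hK hg)] at h1

theorem syl (hL : LPiece Om LL) (f : Fr Om K L T) : Syl (LL K ⊓ T) (LL K) :=
  syl_inf_of_normal f.sk (hL.pc K f.kT.1).le (hL.pc K f.kT.1).nL

/-- the odd core of `C(z_K)` contains no 2-elements -/
theorem eq_one_of_mem (f : Fr Om K L T) {x : G} (hx : x ∈ T) (hx' : x ∈ OO (centralizer {zz K})) : x = 1 :=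
  eq_one_of_mem_odd f.hT (odd_OO _) hx hx'

/-- an element of `T` trivial on `LL K / O` centralises `LL K ⊓ T` -/
theorem comm_of_tv (hL : LPiece Om LL) (f : Fr Om K L T) {x y : G} (hx : x ∈ T) (hxt : TV LL K x)
    (hy : y ∈ LL K) (hyT : y ∈ T) : x * y = y * x := by
  have h1 : x * y * x⁻¹ * y⁻¹ = 1 :=
    eq_one_of_mem f (T.mul_mem (T.mul_mem (T.mul_mem hx hyT) (T.inv_mem hx)) (T.inv_mem hyT)) (hxt y hy)
  calc x * y = (x * y * x⁻¹ * y⁻¹) * (y * x) := by group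
    _ = y * x := by rw [h1, one_mul]

/-- (B0) `LL K ⊓ LL L ⊓ T = 1` -/
theorem eq_one_of_mem_inf (hL : LPiece Om LL) (h : Two Om) (f : Fr Om K L T) {x : G} (hxK : x ∈ LL K)
    (hxL : x ∈ LL L) (hxT : x ∈ T) : x = 1 := by
  by_contra hx1
  set I : Subgroup G := LL K ⊓ LL L ⊓ T with hI
  have hne : I ≠ ⊥ := by
    intro h1
    apply hx1
    rw [← Subgroup.mem_bot, ← h1]
    exact ⟨⟨hxK, hxL⟩, hxT⟩
  have hn : T ≤ normalizer (I : Set G) := by
    intro t ht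
    rw [mem_normalizer_iff_cj, hI, cj_inf, cj_inf,
      mem_normalizer_iff_cj.1 ((hL.pc K f.kT.1).nL (f.sk.1 ht)),
      mem_normalizer_iff_cj.1 ((hL.pc L f.lT.1).nL (f.sl.1 ht)),
      mem_normalizer_iff_cj.1 (le_normalizer ht)]
  obtain ⟨t, ⟨⟨htK, htL⟩, htT⟩, ht1, ht2, htc⟩ := exists_central_invol f.hT inf_le_right hn hne
  have h1 : t = zz L := hL.cent2 K L f.pt (L ⊓ T) (syl_inf f.hT f.lT) (hL.part K L T f.hT f.kT f.lT f.ne)
    t htK ht2 ht1 fun q hq => (htc q hq.2).symm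
  have h2 : t = zz K := hL.cent2 L K f.symm.pt (K ⊓ T) (syl_inf f.hT f.kT)
    (hL.part L K T f.hT f.lT f.kT f.ne.symm) t htL ht2 ht1 fun q hq => (htc q hq.2).symm
  exact f.ne (h.inj K f.kT.1 L f.lT.1 (h2.symm.trans h1))

/-- (B0) `LL L ⊓ T` and `LL K ⊓ T` commute -/
theorem comm_inf (hL : LPiece Om LL) (h : Two Om) (f : Fr Om K L T) {x y : G} (hx : x ∈ LL L) (hxT : x ∈ T)
    (hy : y ∈ LL K) (hyT : y ∈ T) : x * y = y * x := by
  have h1 : x * y * x⁻¹ * y⁻¹ ∈ LL K :=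
    (LL K).mul_mem ((hL.pc K f.kT.1).conjL (f.sk.1 hxT) hy) ((LL K).inv_mem hy)
  have h2 : x * y * x⁻¹ * y⁻¹ ∈ LL L := by
    have := (LL L).mul_mem hx ((hL.pc L f.lT.1).conjL (f.sl.1 hyT) ((LL L).inv_mem hx))
    have h3 : x * (y * x⁻¹ * y⁻¹) = x * y * x⁻¹ * y⁻¹ := by group
    rwa [h3] at this
  have h3 := hL.eq_one_of_mem_inf h f h1 h2
    (T.mul_mem (T.mul_mem (T.mul_mem hxT hyT) (T.inv_mem hxT)) (T.inv_mem hyT))
  calc x * y = (x * y * x⁻¹ * y⁻¹) * (y * x) := by group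
    _ = y * x := by rw [h3, one_mul]

/-- (B0) an involution of `LL L ⊓ T` acts on `LL K / O` trivially or as `z_L` -/
theorem tv_or (hL : LPiece Om LL) (h : Two Om) (f : Fr Om K L T) {p : G} (hp : p ∈ LL L) (hpT : p ∈ T)
    (hp2 : p * p = 1) : TV LL K p ∨ TV LL K (p * zz L) := by
  have hc := hL.pc K f.kT.1
  obtain ⟨y, hy, hy1⟩ := hL.sylc K f.kT.1 (LL K ⊓ T) (hL.syl f) p (f.sk.1 hpT) hp2
    fun q hq => hL.comm_inf h f hp hpT hq.1 hq.2
  have hpy : p * y = y * p := hL.comm_inf h f hp hpT hy.1 hy.2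
  have hpyT : p * y ∈ T := T.mul_mem hpT hy.2
  have h1 : Tv (LL K) (OO (centralizer {zz K})) (y * y) := by
    have h2 := hc.tv_mul (f.sk.1 hpyT) hy1 hy1
    have h3 : p * y * (p * y) = y * y := by
      calc p * y * (p * y) = (p * y) * p * y := by group
        _ = (y * p) * p * y := by rw [hpy]
        _ = y * (p * p) * y := by group
        _ = y * y := by rw [hp2, mul_one]
    rwa [h3] at h2
  have h2 : y * y = 1 := eq_one_of_mem f (T.mul_mem hy.2 hy.2) (hc.cent _ ((LL K).mul_mem hy.1 hy.1) h1)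
  by_cases hy0 : y = 1
  · left
    rw [hy0, mul_one] at hy1
    exact hy1
  · right
    have h3 : y = zz L := by
      refine hL.cent2 K L f.pt (L ⊓ T) (syl_inf f.hT f.lT) (hL.part K L T f.hT f.kT f.lT f.ne) y hy.1 h2 hy0 ?_
      intro q hq
      have hqK := hL.part K L T f.hT f.kT f.lT f.ne hq
      have h4 := hL.comm_of_tv f hpyT hy1 hqK hq.2
      have h5 := hL.comm_inf h f hp hpT hqK hq.2
      calc y * q = p⁻¹ * (p * y * q) := by group
        _ = p⁻¹ * (q * (p * y)) := by rw [h4]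
        _ = p⁻¹ * (q * p) * y := by group
        _ = p⁻¹ * (p * q) * y := by rw [h5]
        _ = q * y := by group
    rw [h3] at hy1
    exact hy1

/-- `z_L` acts non trivially on `LL K / O` -/
theorem not_tv_zz (hL : LPiece Om LL) (h : Two Om) (hP : Pt Om K L) : ¬ TV LL K (zz L) := by
  intro h1
  have h2 := (hL.pc K hP.left).cent _ (hL.mem_of_pt h hP) h1
  exact h.hyp.zz_ne hP.right ((hL.pc K hP.left).eq_one h2 (h.hyp.zz_mul hP.right))

/-- (B3) -/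
theorem mul_mem_ZZ (hL : LPiece Om LL) (h : Two Om) (hK : K ∈ Om) {x : G} (hx : x ∈ LL K)
    (hx2 : x * x = 1) (hx1 : x ≠ 1) : zz K * x ∈ ZZ Om := by
  obtain ⟨M, hM, rfl⟩ := hL.exists_pt_of_mem h hK hx hx2 hx1
  exact ⟨K, M, hM, rfl⟩

/-- (B4) -/
theorem mul_mem_ZZ_of_tv (hL : LPiece Om LL) (h : Two Om) (f : Fr Om K L T) {p q : G} (hp : p ∈ LL L)
    (hpT : p ∈ T) (hp2 : p * p = 1) (hp1 : p ≠ 1) (hq : q ∈ LL K) (hqT : q ∈ T) (hq2 : q * q = 1)
    (hq1 : q ≠ 1) (ht : TV LL K p) : p * q ∈ ZZ Om := by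
  have hc := hL.pc K f.kT.1
  have hz := hL.mem_of_pt h f.pt
  obtain ⟨g, hg, h1⟩ := hc.conj_mul hp2 ht (h.hyp.zz_mul f.lT.1) (hL.comm_inf h f hp hpT hq hqT)
    (f.commL hpT) (hL.one K f.kT.1 q hq _ hz hq2 hq1 (h.hyp.zz_mul f.lT.1) (h.hyp.zz_ne f.lT.1)) hq2
  have h2 : p * zz L ∈ ZZ Om := by
    rw [f.commL hpT]
    exact hL.mul_mem_ZZ h f.lT.1 hp hp2 hp1
  rw [← h1] at h2
  have h3 := h.ZZ_cj h2 g⁻¹
  have h4 : g⁻¹ * (g * (p * q) * g⁻¹) * g⁻¹⁻¹ = p * q := by group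
  rwa [h4] at h3

/-- (B4) -/
theorem exists_of_tv_mul (hL : LPiece Om LL) (h : Two Om) (f : Fr Om K L T) {p q : G} (hp : p ∈ LL L)
    (hpT : p ∈ T) (hp2 : p * p = 1) (hp1 : p ≠ 1) (hq : q ∈ LL K) (hqT : q ∈ T) (hq2 : q * q = 1)
    (hq1 : q ≠ zz L) (ht : TV LL K (p * zz L)) : ∃ M ∈ Om, zz M = p * q := by
  have hc := hL.pc K f.kT.1
  have hz := hL.mem_of_pt h f.pt
  have hzz := h.hyp.zz_mul f.lT.1
  have hzT : zz L ∈ T := (h.hyp.zz_mem_inf f.hT f.lT).2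
  have hpz := f.commL hpT
  have hqz := f.commL hqT
  have hpq := hL.comm_inf h f hp hpT hq hqT
  have hc2 : p * zz L * (p * zz L) = 1 := by
    calc p * zz L * (p * zz L) = p * (zz L * p) * zz L := by group
      _ = (p * p) * (zz L * zz L) := by rw [← hpz]; group
      _ = 1 := by rw [hp2, hzz, one_mul]
  have hq'2 : zz L * q * (zz L * q) = 1 := by
    calc zz L * q * (zz L * q) = zz L * (q * zz L) * q := by group
      _ = (zz L * zz L) * (q * q) := by rw [hqz]; group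
      _ = 1 := by rw [hq2, hzz, one_mul]
  have hq'1 : zz L * q ≠ 1 := by
    intro h1
    apply hq1
    rw [← h.hyp.zz_inv f.lT.1]
    exact eq_inv_of_mul_eq_one_right h1
  have hcc : p * zz L * (zz L * q) = zz L * q * (p * zz L) := by
    have e1 : Commute p (zz L) := hpz
    have e2 : Commute q (zz L) := hqz
    have e3 : Commute p q := hpq
    exact ((e1.mul_right e3).mul_left ((Commute.refl _).mul_right e2.symm)).eq
  obtain ⟨g, hg, h1⟩ := hc.conj_mul hc2 ht hzz hcc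
    (by
      calc p * zz L * zz L = (zz L * p) * zz L := by rw [hpz]
        _ = zz L * (p * zz L) := by group)
    (hL.one K f.kT.1 _ ((LL K).mul_mem hz hq) _ hz hq'2 hq'1 hzz (h.hyp.zz_ne f.lT.1)) hq'2
  obtain ⟨M, hM, hMp⟩ := hL.exists_pt_of_mem h f.lT.1 hp hp2 hp1
  refine ⟨Cit.cj g⁻¹ M, h.hyp.conj M hM.right _, ?_⟩
  rw [h.hyp.zz_cj hM.right, hMp]
  have h2 : p * zz L * zz L = p := by rw [mul_assoc, hzz, mul_one]
  rw [h2] at h1
  have h3 : p * zz L * (zz L * q) = p * q := by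
    calc p * zz L * (zz L * q) = p * (zz L * zz L) * q := by group
      _ = p * q := by rw [hzz, mul_one]
  rw [h3] at h1
  calc g⁻¹ * p * g⁻¹⁻¹ = g⁻¹ * (g * (p * q) * g⁻¹) * g⁻¹⁻¹ := by rw [h1]
    _ = p * q := by group

/-- (B4), the dichotomy -/
theorem dichotomy (hL : LPiece Om LL) (h : Two Om) :
    (∀ K L, Pt Om K L → ∀ p ∈ LL L, p * zz K = zz K * p → p * p = 1 → TV LL K p) ∨
    (∀ K L, Pt Om K L → ∀ p ∈ LL L, p * zz K = zz K * p → p * p = 1 → p ≠ 1 → p ≠ zz K →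
      TV LL K (p * zz L)) := by
  by_contra hcon
  rw [not_or] at hcon
  obtain ⟨hc1, hc2⟩ := hcon
  push Not at hc1
  obtain ⟨K, L, hP, p, hp, hpK, hp2, hpt⟩ := hc1
  apply hc2
  obtain ⟨T, hpT, f⟩ := exists_frame_one h hP hp2 hpK (hL.le_cent hP.right hp)
  have hp1 : p ≠ 1 := by
    rintro rfl
    exact hpt ((hL.pc K hP.left).tv_of_mem (Subgroup.one_mem _))
  have hpz := (hL.tv_or h f hp hpT hp2).resolve_left hpt
  -- a second involution of `LL K ⊓ T`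
  obtain ⟨q, hq, hqT, hq2, hq1, hqz⟩ : ∃ q ∈ LL K, q ∈ T ∧ q * q = 1 ∧ q ≠ 1 ∧ q ≠ zz L := by
    obtain ⟨t, ht, ht2, ht1, htz, htc⟩ := hL.four K L hP
    obtain ⟨T', htT', f'⟩ := exists_frame_one h hP ht2 (hL.le_cent hP.left ht) htc
    obtain ⟨m, hm, hmT⟩ := f'.exists_conj f
    have hmL : m * zz L = zz L * m := mem_centralizer_singleton_iff.1 hm.2
    refine ⟨m * t * m⁻¹, (hL.pc K hP.left).conjL hm.1 ht, by rw [← hmT]; exact conj_mem_cj htT', ?_, ?_, ?_⟩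
    · calc m * t * m⁻¹ * (m * t * m⁻¹) = m * (t * t) * m⁻¹ := by group
        _ = 1 := by rw [ht2]; group
    · intro h1
      apply ht1
      calc t = m⁻¹ * (m * t * m⁻¹) * m := by group
        _ = 1 := by rw [h1]; group
    · intro h1
      apply htz
      calc t = m⁻¹ * (m * t * m⁻¹) * m := by group
        _ = m⁻¹ * (zz L * m) := by rw [h1]; group
        _ = zz L := by rw [← hmL]; group
  -- in this frame
  have key1 : ∀ q ∈ LL K, q ∈ T → q * q = 1 → q ≠ 1 → q ≠ zz L → TV LL L (q * zz K) := by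
    intro q hq hqT hq2 hq1 hqz
    refine (hL.tv_or h f.symm hq hqT hq2).resolve_left fun h1 => ?_
    have h2 := hL.mul_mem_ZZ_of_tv h f.symm hq hqT hq2 hq1 hp hpT hp2 hp1 h1
    obtain ⟨M, hM, h3⟩ := hL.exists_of_tv_mul h f hp hpT hp2 hp1 hq hqT hq2 hqz hpz
    rw [← hL.comm_inf h f hp hpT hq hqT, ← h3] at h2
    exact h.disj hM h2
  have hqK := key1 q hq hqT hq2 hq1 hqz
  have key2 : ∀ p ∈ LL L, p ∈ T → p * p = 1 → p ≠ 1 → p ≠ zz K → TV LL K (p * zz L) := by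
    intro p hp hpT hp2 hp1 hpz
    refine (hL.tv_or h f hp hpT hp2).resolve_left fun h1 => ?_
    have h2 := hL.mul_mem_ZZ_of_tv h f hp hpT hp2 hp1 hq hqT hq2 hq1 h1
    obtain ⟨M, hM, h3⟩ := hL.exists_of_tv_mul h f.symm hq hqT hq2 hq1 hp hpT hp2 hpz hqK
    rw [hL.comm_inf h f hp hpT hq hqT, ← h3] at h2
    exact h.disj hM h2
  -- transport to all pairs
  intro K' L' hP' p' hp' hpK' hp2' hp1' hpz'
  obtain ⟨g, hgK, hgL⟩ := h.pt_trans hP hP'
  obtain ⟨T', hpT', f'⟩ := exists_frame_one h hP' hp2' hpK' (hL.le_cent hP'.right hp')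
  have f2 := f.cj h.hyp g
  rw [hgK, hgL] at f2
  obtain ⟨m, hm, hmT⟩ := f2.exists_conj f'
  -- `p' = (m g) p₀ (m g)⁻¹`
  set c := m * g with hc
  have hcK : Cit.cj c K = K' := by
    rw [hc, cj_mul, hgK, (h.cj_eq_iff hP'.left).2 (mem_centralizer_singleton_iff.1 hm.1)]
  have hcL : Cit.cj c L = L' := by
    rw [hc, cj_mul, hgL, (h.cj_eq_iff hP'.right).2 (mem_centralizer_singleton_iff.1 hm.2)]
  have hcT : Cit.cj c T = T' := by rw [hc, cj_mul, hmT]
  set p₀ := c⁻¹ * p' * c with hp₀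
  have e1 : p₀ ∈ LL L := by
    rw [← hcL, hL.cj L hP.right, mem_cj] at hp'
    exact hp'
  have e2 : p₀ ∈ T := by
    rw [← hcT, mem_cj] at hpT'
    exact hpT'
  have e3 : p' = c * p₀ * c⁻¹ := by rw [hp₀]; group
  have hzK : zz K' = c * zz K * c⁻¹ := by rw [← hcK, h.hyp.zz_cj hP.left]
  have hzL : zz L' = c * zz L * c⁻¹ := by rw [← hcL, h.hyp.zz_cj hP.right]
  have e4 : p₀ * p₀ = 1 := by
    calc p₀ * p₀ = c⁻¹ * (p' * p') * c := by rw [hp₀]; group
      _ = 1 := by rw [hp2']; group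
  have e5 : p₀ ≠ 1 := by
    intro h1
    apply hp1'
    rw [e3, h1]; group
  have e6 : p₀ ≠ zz K := by
    intro h1
    apply hpz'
    rw [e3, h1, hzK]
  have h3 := key2 p₀ e1 e2 e4 e5 e6
  -- transport
  intro y hy
  have h4 := h3 (c⁻¹ * y * c) (by
    rw [← hcK, hL.cj K hP.left, mem_cj] at hy
    exact hy)
  have h5 : OO (centralizer {zz K'}) = Cit.cj c (OO (centralizer {zz K})) := by
    rw [hzK, ← cj_centralizer, OO_cj]
  rw [h5, mem_cj]
  have h6 : c⁻¹ * (p' * zz L' * y * (p' * zz L')⁻¹ * y⁻¹) * c =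
      p₀ * zz L * (c⁻¹ * y * c) * (p₀ * zz L)⁻¹ * (c⁻¹ * y * c)⁻¹ := by
    rw [e3, hzL]; group
  rw [h6]
  exact h4

end LPiece

end Cfsg.Agent.Cit.TwoB
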