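import Cfsg.Agent.Cit.TwoB.SitOf
import Cfsg.Agent.Cit.TwoB.OfFact

/-!
# `|Om(S)| = 2`, `z₁ ≠ z₂`: the subgroups `LLd Om K` and `LPiece`, `OutP`

`LLd Om K` is generated by `O(C(z_K))` and the involutions of the partners of `K`.  Its image in
`C(z_K) / O(C(z_K))` is the piece `DK Om K` if this is a simple group.
-/

set_option autoImplicit false
set_option linter.style.haveILetI false
set_option linter.unusedSectionVars false

namespace Cfsg.Agent.Cit.TwoB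

open Subgroup Cfsg UseT SubCent

universe u

variable {G : Type u} [Group G] {Om : Set (Subgroup G)} {K L M : Subgroup G}

/-- the preimage of the piece containing the partners -/
def LLd (Om : Set (Subgroup G)) (K : Subgroup G) : Subgroup G :=
  closure {x | ∃ L, Pt Om K L ∧ x = zz L} ⊔ OO (CK K)

/-- the piece of `C(z_K) / O(C(z_K))` containing the partners -/
noncomputable def DK (Om : Set (Subgroup G)) (K : Subgroup G) : Subgroup (HQ (CK K)) :=
  DD (fam Om (CK K)) (tr (CK K) K)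

/-- `LLd` as a subgroup of `C(z_K)` -/
def LLc (Om : Set (Subgroup G)) (K : Subgroup G) : Subgroup (CK K) :=
  closure {x | ∃ L, Pt Om K L ∧ (x : G) = zz L} ⊔ pPrimeCore 2 (CK K)

variable [Finite G]

theorem zz_mem_CK (h : Two Om) (hP : Pt Om K L) : zz L ∈ CK K :=
  mem_centralizer_singleton_iff.2 (hP.comm h.hyp).symm

theorem LLc_map (h : Two Om) : (LLc Om K).map (CK K).subtype = LLd Om K := by
  rw [LLc, LLd, Subgroup.map_sup, MonoidHom.map_closure]
  congr 1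
  congr 1
  ext x
  constructor
  · rintro ⟨y, ⟨L, hP, hy⟩, rfl⟩
    exact ⟨L, hP, hy⟩
  · rintro ⟨L, hP, rfl⟩
    exact ⟨⟨zz L, zz_mem_CK h hP⟩, ⟨L, hP, rfl⟩, rfl⟩

theorem LLd_le (h : Two Om) : LLd Om K ≤ CK K := by
  rw [← LLc_map h]
  exact map_subtype_le _

theorem mem_LLd (h : Two Om) {x : CK K} : (x : G) ∈ LLd Om K ↔ x ∈ LLc Om K := by
  rw [← LLc_map h]
  constructor
  · rintro ⟨y, hy, hyx⟩
    have : y = x := Subtype.ext hyx
    rwa [← this]
  · intro hx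
    exact ⟨x, hx, rfl⟩

theorem LLd_cj (h : Two Om) (hK : K ∈ Om) (g : G) : LLd Om (cj g K) = cj g (LLd Om K) := by
  rw [LLd, LLd, cj_sup, ← OO_cj]
  congr 1
  · have key : ∀ (K : Subgroup G) (g : G), cj g (closure {x | ∃ L, Pt Om K L ∧ x = zz L}) ≤
        closure {x | ∃ L, Pt Om (cj g K) L ∧ x = zz L} := by
      intro K g
      rw [cj, MonoidHom.map_closure, closure_le]
      rintro _ ⟨_, ⟨L, hP, rfl⟩, rfl⟩
      refine subset_closure ⟨cj g L, hP.cj h.hyp.conj g, ?_⟩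
      rw [h.hyp.zz_cj hP.right]
      rfl
    refine le_antisymm ?_ (key K g)
    have h1 := cj_mono g (key (cj g K) g⁻¹)
    rw [cj_cj_inv, cj_inv_cj] at h1
    exact h1
  · rw [CK, CK, h.hyp.zz_cj hK, cj_centralizer]

theorem OO_le_LLd : OO (CK K) ≤ LLd Om K := le_sup_right

section D

variable (hm : MinS Om) (h : Two Om) (hni : ¬ Iso Om) (hK : K ∈ Om)
include hm h hni hK

theorem zz_tr_mem_DK (hP : Pt Om K L) : qm (CK K) ⟨zz L, zz_mem_CK h hP⟩ ∈ DK Om K := by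
  have h1 := zz_tr h.hyp hm.isType (pt_mem_cov h hP)
  rw [← h1]
  refine Sit.le_DD (tr_mem (pt_mem_cov h hP)) (tr_ne_of_pt h hm.isType hP) ?_
  exact (hyp_fam h.hyp hm.isType _).zz_mem (tr_mem (pt_mem_cov h hP))

/-- if the piece is simple then `LLd` is its preimage -/
theorem LLc_map_qm (hs : IsSimpleGroup (DK Om K)) : (LLc Om K).map (qm (CK K)) = DK Om K := by
  have hT := hm.isType
  have hsit := sit hm h hni hK
  have e1 : (LLc Om K).map (qm (CK K)) =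
      closure {x | ∃ L, ∃ hP : Pt Om K L, x = qm (CK K) ⟨zz L, zz_mem_CK h hP⟩} := by
    rw [LLc, Subgroup.map_sup, (Subgroup.map_eq_bot_iff _).2 (ker_qm (CK K)).ge, sup_bot_eq, MonoidHom.map_closure]
    congr 1
    ext x
    constructor
    · rintro ⟨y, ⟨L, hP, hy⟩, rfl⟩
      refine ⟨L, hP, ?_⟩
      congr 1
      exact Subtype.ext hy
    · rintro ⟨L, hP, rfl⟩
      exact ⟨⟨zz L, zz_mem_CK h hP⟩, ⟨L, hP, rfl⟩, rfl⟩
  rw [e1]
  set E := closure {x | ∃ L, ∃ hP : Pt Om K L, x = qm (CK K) ⟨zz L, zz_mem_CK h hP⟩} with hE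
  have hle : E ≤ DK Om K := by
    rw [hE, closure_le]
    rintro _ ⟨L, hP, rfl⟩
    exact zz_tr_mem_DK hm h hni hK hP
  have hn : DK Om K ≤ normalizer (E : Set (HQ (CK K))) := by
    refine OneComp.le_normalizer_of_cj_le fun g _ => ?_
    obtain ⟨g, rfl⟩ := qm_surjective (CK K) g
    rw [hE, cj, MonoidHom.map_closure, closure_le]
    rintro _ ⟨_, ⟨L, hP, rfl⟩, rfl⟩
    have h1 : cj (g : G) K = K := (h.cj_eq_iff hK).2 (mem_centralizer_singleton_iff.1 g.2)
    have h2 := hP.cj h.hyp.conj (g : G)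
    rw [h1] at h2
    refine subset_closure ⟨cj (g : G) L, h2, ?_⟩
    change qm (CK K) g * qm (CK K) ⟨zz L, _⟩ * (qm (CK K) g)⁻¹ = _
    rw [← map_mul, ← map_inv, ← map_mul]
    congr 1
    apply Subtype.ext
    exact (h.hyp.zz_cj hP.right g).symm
  haveI hN : (E.subgroupOf (DK Om K)).Normal := (normal_subgroupOf_iff_le_normalizer hle).2 hn
  haveI := hs
  rcases IsSimpleGroup.eq_bot_or_eq_top_of_normal (E.subgroupOf (DK Om K)) hN with h1 | h1
  · exfalso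
    obtain ⟨L, hP⟩ := exists_pt h hK
    have h2 : (⟨_, zz_tr_mem_DK hm h hni hK hP⟩ : DK Om K) ∈ E.subgroupOf (DK Om K) := by
      rw [mem_subgroupOf]
      exact subset_closure ⟨L, hP, rfl⟩
    rw [h1, mem_bot] at h2
    have h3 : zz (tr (CK K) L) = 1 := by
      rw [zz_tr h.hyp hT (pt_mem_cov h hP)]
      exact congrArg Subtype.val h2
    exact (hyp_fam h.hyp hT _).zz_ne (tr_mem (pt_mem_cov h hP)) h3
  · exact le_antisymm hle (subgroupOf_eq_top.1 h1)

variable (hs : IsSimpleGroup (DK Om K))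
include hs

theorem LLc_eq : LLc Om K = (DK Om K).comap (qm (CK K)) := by
  rw [← LLc_map_qm hm h hni hK hs, comap_map_eq, ker_qm, eq_comm, sup_eq_left]
  exact le_sup_right

theorem mem_LLd_iff {x : CK K} : (x : G) ∈ LLd Om K ↔ qm (CK K) x ∈ DK Om K := by
  rw [mem_LLd h, LLc_eq hm h hni hK hs, mem_comap]

/-- the epimorphism `LLd → D` -/
noncomputable def phi : LLd Om K →* DK Om K :=
  ((qm (CK K)).comp (inclusion (LLd_le h))).codRestrict (DK Om K)
    (fun x => (mem_LLd_iff hm h hni hK hs (x := ⟨x, LLd_le h x.2⟩)).1 x.2)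

theorem coe_phi (x : LLd Om K) : (phi hm h hni hK hs x : HQ (CK K)) = qm (CK K) ⟨x, LLd_le h x.2⟩ := rfl

theorem epi : Epi (LLd Om K) (OO (CK K)) (phi hm h hni hK hs) := by
  refine ⟨?_, ?_⟩
  · rintro ⟨y, hy⟩
    obtain ⟨x, rfl⟩ := qm_surjective (CK K) y
    exact ⟨⟨x, (mem_LLd_iff hm h hni hK hs).2 hy⟩, rfl⟩
  · intro x hx
    rw [← Subtype.coe_inj, coe_phi]
    change qm (CK K) ⟨x, LLd_le h hx⟩ = 1 ↔ _
    rw [← MonoidHom.mem_ker, ker_qm, OO]
    constructor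
    · intro h1
      exact ⟨_, h1, rfl⟩
    · rintro ⟨y, hy, hyx⟩
      have : y = ⟨x, LLd_le h hx⟩ := Subtype.ext hyx
      rwa [← this]

theorem pc_LLd (hna : center (DK Om K) = ⊥) : Pc (CK K) (LLd Om K) (OO (CK K)) := by
  refine ⟨LLd_le h, OO_le_LLd, ?_, le_normalizer_OO _, ?_, (epi hm h hni hK hs).cent hna⟩
  · intro g hg
    rw [mem_normalizer_iff_cj, ← LLd_cj h hK, (h.cj_eq_iff hK).2 (mem_centralizer_singleton_iff.1 hg)]
  · rw [← Nat.not_even_iff_odd, even_iff_two_dvd]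
    exact odd_OO _

theorem comm_LLd : ∀ k ∈ K, TV (LLd Om) K k := by
  intro k hk y hy
  have hT := hm.isType
  have hkC := le_CK h.hyp hK hk
  have h1 : qm (CK K) ⟨k, hkC⟩ ∈ tr (CK K) K := by
    have h2 : rd (K.subgroupOf (CK K)) = K.subgroupOf (CK K) := by
      apply RdOm.rd_eq_self
      apply Ty.of_map (CK K).subtype (CK K).subtype_injective
      rw [map_subgroupOf_eq_of_le (le_CK h.hyp hK)]
      exact hm.ty K hK
    refine ⟨⟨k, hkC⟩, ?_, rfl⟩
    have h3 : (⟨k, hkC⟩ : CK K) ∈ rd (K.subgroupOf (CK K)) := by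
      rw [h2]
      exact hk
    exact h3
  have h2 := (sit hm h hni hK).comm_DD'
  have h3 := (mem_LLd_iff hm h hni hK hs (x := ⟨y, LLd_le h hy⟩)).1 hy
  have h4 := mem_centralizer_iff.1 (h2 h1) _ h3
  rw [← (epi hm h hni hK hs).ker]
  · rw [← Subtype.coe_inj, coe_phi]
    change qm (CK K) (⟨k, hkC⟩ * ⟨y, LLd_le h hy⟩ * ⟨k, hkC⟩⁻¹ * ⟨y, LLd_le h hy⟩⁻¹) = 1
    rw [map_mul, map_mul, map_mul, ← h4, map_inv, map_inv]
    group
  · refine (LLd Om K).mul_mem ?_ ((LLd Om K).inv_mem hy)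
    have h5 : (⟨k, hkC⟩ : CK K) * ⟨y, LLd_le h hy⟩ * ⟨k, hkC⟩⁻¹ ∈ (DK Om K).comap (qm (CK K)) := by
      haveI := (sit hm h hni hK).normal
      rw [mem_comap, map_mul, map_mul, map_inv]
      exact (sit hm h hni hK).normal.conj_mem _ h3 _
    exact (mem_LLd_iff hm h hni hK hs).2 h5

theorem part_LLd {R : Subgroup G} (hR : IsPGroup 2 R) (hKR : K ∈ OmS Om R) (hLR : L ∈ OmS Om R)
    (hne : K ≠ L) : L ⊓ R ≤ LLd Om K := by
  intro x hx
  have hT := hm.isType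
  have hP : Pt Om K L := ⟨hne, R, hR, hKR, hLR⟩
  have hxC : x ∈ CK K := mem_centralizer_singleton_iff.2
    (h.hyp.comm hR hLR hKR hne.symm hx (h.hyp.zz_mem_inf hR hKR))
  obtain ⟨a, ha⟩ := hR ⟨x, hx.2⟩
  have h1 : qm (CK K) ⟨x, hxC⟩ ∈ tr (CK K) L := mem_tr hT (pt_mem_cov h hP) (x := ⟨x, hxC⟩) hx.1 (a := a)
    (Subtype.ext (by simpa using congrArg Subtype.val ha))
  exact (mem_LLd_iff hm h hni hK hs (x := ⟨x, hxC⟩)).2
    (Sit.le_DD (tr_mem (pt_mem_cov h hP)) (tr_ne_of_pt h hT hP) h1)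

end D

end Cfsg.Agent.Cit.TwoB
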