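import Cfsg.Agent.Cit.TwoB.Frame
import Cfsg.Agent.Cit.TwoClose

/-!
# `|Om(S)| = 2`, `z₁ ≠ z₂`, case B: `Tw Om` and `Link Om` from the facts on `L` (bb R18 #6419)

* `LPiece.toTw`: the twisted alternative of `LPiece.dichotomy` gives `Tw Om`;
* `LPiece.inner_of_comm`: if `zz K`, `zz L` commute, then `zz L` acts on `LL K / O` as an inner automorphism
  (no hypothesis on the twist; helper757's new (G4));
* `LPiece.link`: commuting members are partners or have a common partner.
-/

set_option autoImplicit false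
set_option maxHeartbeats 400000
set_option linter.style.haveILetI false
set_option linter.unusedSectionVars false

namespace Cfsg.Agent.Cit.TwoB

open Subgroup Cfsg

variable {G : Type*} [Group G] {Om : Set (Subgroup G)} {K L T : Subgroup G}
  {LL : Subgroup G → Subgroup G}

/-- (F4') an involution of `C(z_K)` inducing an outer automorphism of `LL K / O` and commuting with `z_L`
centralises a four-group of `LL K` containing `z_L` -/
def OutP (Om : Set (Subgroup G)) (LL : Subgroup G → Subgroup G) : Prop :=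
  ∀ K L, Pt Om K L → ∀ x, x * x = 1 → x * zz K = zz K * x → x * zz L = zz L * x →
    (¬ ∃ l ∈ LL K, TV LL K (x * l)) →
    ∃ t ∈ LL K, t * t = 1 ∧ t ≠ 1 ∧ t ≠ zz L ∧ t * zz L = zz L * t ∧ x * t = t * x

namespace LPiece

variable [Finite G]

/-- products of commuting partners are partners -/
theorem mul_pt (hL : LPiece Om LL) (h : Two Om) (K L M : Subgroup G) (h1 : Pt Om K L) (h2 : Pt Om K M)
    (hne : L ≠ M) (hc : zz L * zz M = zz M * zz L) : ∃ N, Pt Om K N ∧ zz L * zz M = zz N := by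
  obtain ⟨N, hN, hN'⟩ := hL.exists_pt_of_mem h h1.left (x := zz L * zz M)
    ((LL K).mul_mem (hL.mem_of_pt h h1) (hL.mem_of_pt h h2))
    (by
      calc zz L * zz M * (zz L * zz M) = zz L * (zz M * zz L) * zz M := by group
        _ = (zz L * zz L) * (zz M * zz M) := by rw [← hc]; group
        _ = 1 := by rw [h.hyp.zz_mul h1.right, h.hyp.zz_mul h2.right, one_mul])
    (by
      intro h3
      apply hne
      apply h.inj L h1.right M h2.right
      rw [← h.hyp.zz_inv h2.right]
      exact eq_inv_of_mul_eq_one_left h3)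
  exact ⟨N, hN, hN'.symm⟩

theorem isPGroup_pair {x y : G} (hx : x * x = 1) (hy : y * y = 1) (hc : x * y = y * x) :
    IsPGroup 2 (zpowers x ⊔ zpowers y : Subgroup G) := by
  refine OneBasic.isPGroup_sup_of_normalizes (Two.isPGroup_zpowers_of_sq hx)
    (Two.isPGroup_zpowers_of_sq hy) ?_
  rw [zpowers_le, mem_normalizer_iff_cj, Cit.cj, MonoidHom.map_zpowers]
  congr 1
  show x * y * x⁻¹ = y
  rw [hc, mul_inv_cancel_right]

/-- **the twisted case** -/
theorem toTw (hL : LPiece Om LL) (h : Two Om) (hni : ¬ Iso Om)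
    (h1 : ∀ K L, Pt Om K L → ∀ p ∈ LL L, p * zz K = zz K * p → p * p = 1 → p ≠ 1 → p ≠ zz K →
      TV LL K (p * zz L)) : Tw Om := by
  refine ⟨h, hni, hL.mul_pt h, ?_⟩
  intro K L A B hP hA hB hAL hBK cAL cBK cAB
  have hAm := hL.mem_of_pt h hA
  have hBm := hL.mem_of_pt h hB
  have hle : (zpowers (zz A) ⊔ zpowers (zz B) : Subgroup G) ≤ centralizer {zz K} :=
    sup_le (zpowers_le.2 (mem_centralizer_singleton_iff.2 (hL.le_cent hP.left hAm)))
      (zpowers_le.2 (mem_centralizer_singleton_iff.2 cBK))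
  have hle' : (zpowers (zz A) ⊔ zpowers (zz B) : Subgroup G) ≤ centralizer {zz L} :=
    sup_le (zpowers_le.2 (mem_centralizer_singleton_iff.2 cAL))
      (zpowers_le.2 (mem_centralizer_singleton_iff.2 (hL.le_cent hP.right hBm)))
  obtain ⟨T, hT, f⟩ := exists_frame h hP
    (isPGroup_pair (h.hyp.zz_mul hA.right) (h.hyp.zz_mul hB.right) cAB) hle hle'
  have hAT : zz A ∈ T := hT (mem_sup_left (mem_zpowers _))
  have hBT : zz B ∈ T := hT (mem_sup_right (mem_zpowers _))
  have hBK' : zz B ≠ zz K := fun h2 => hBK (h.inj B hB.right K hP.left h2)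
  have hAL' : zz A ≠ zz L := fun h2 => hAL (h.inj A hA.right L hP.right h2)
  have ht := h1 K L hP (zz B) hBm cBK (h.hyp.zz_mul hB.right) (h.hyp.zz_ne hB.right) hBK'
  obtain ⟨N, hN, hN'⟩ := hL.exists_of_tv_mul h f hBm hBT (h.hyp.zz_mul hB.right) (h.hyp.zz_ne hB.right)
    hAm hAT (h.hyp.zz_mul hA.right) hAL' ht
  exact ⟨N, hN, by rw [hN', cAB]⟩

/-- `x` acting on `LL K / O` as the involution of a partner `M` centralises a Sylow 2-subgroup of `M` -/
theorem exists_syl_cent (hL : LPiece Om LL) (h : Two Om) {M : Subgroup G} (hP : Pt Om K M) {x : G}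
    (hx2 : x * x = 1) (hxK : x * zz K = zz K * x) (hxM : x * zz M = zz M * x)
    (ht : TV LL K (x * zz M)) : ∃ Q, Syl Q M ∧ ∀ q ∈ Q, x * q = q * x := by
  obtain ⟨T, hxT, f⟩ := exists_frame_one h hP hx2 hxK hxM
  refine ⟨M ⊓ T, syl_inf f.hT f.lT, fun q hq => ?_⟩
  have hqK := hL.part K M T f.hT f.kT f.lT f.ne hq
  have hzT : zz M ∈ T := (h.hyp.zz_mem_inf f.hT f.lT).2
  have h1 := hL.comm_of_tv f (T.mul_mem hxT hzT) ht hqK hq.2
  have h2 : zz M * q = q * zz M := (h.hyp.comm_zz hP.right (le_normalizer hq.1)).symm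
  have h3 : x * zz M * q = x * q * zz M := by rw [mul_assoc, h2, ← mul_assoc]
  rw [h3] at h1
  have h4 : q * (x * zz M) = q * x * zz M := by rw [mul_assoc]
  rw [h4] at h1
  exact mul_right_cancel h1

theorem pt_of_tv (hL : LPiece Om LL) (h : Two Om) {M : Subgroup G} (hP : Pt Om K M) (hLm : L ∈ Om)
    (hne : M ≠ L) (hxK : zz L * zz K = zz K * zz L) (hxM : zz L * zz M = zz M * zz L)
    (ht : TV LL K (zz L * zz M)) : Pt Om M L := by
  obtain ⟨Q, hQ, hc⟩ := hL.exists_syl_cent h hP (h.hyp.zz_mul hLm) hxK hxM ht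
  exact h.pt_of_cent hP.right hLm hne hQ hc

/-- (G2): `zz L`, acting non trivially on the partners `K`, `W`, is a partner of `zz L * zz K * zz W` -/
theorem exists_pt_mul (h : Two Om) {W : Subgroup G} (hP : Pt Om K W) (hLm : L ∈ Om)
    (hLK : ¬ Pt Om K L) (hne : K ≠ L) (hLW : ¬ Pt Om W L) (hne' : W ≠ L)
    (hxK : zz L * zz K = zz K * zz L) (hxW : zz L * zz W = zz W * zz L) :
    ∃ M, Pt Om L M ∧ zz M = zz L * (zz K * zz W) := by
  have hx2 := h.hyp.zz_mul hLm
  obtain ⟨T, hxT, f⟩ := exists_frame_one h hP hx2 hxK hxW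
  have hcKW := hP.comm h.hyp
  have n1 : zz L ∈ normalizer ((K ⊓ T : Subgroup G) : Set G) := by
    rw [mem_normalizer_iff_cj, cj_inf, (h.cj_eq_iff hP.left).2 hxK, mem_normalizer_iff_cj.1 (le_normalizer hxT)]
  have n2 : zz L ∈ normalizer ((W ⊓ T : Subgroup G) : Set G) := by
    rw [mem_normalizer_iff_cj, cj_inf, (h.cj_eq_iff hP.right).2 hxW,
      mem_normalizer_iff_cj.1 (le_normalizer hxT)]
  obtain ⟨b, hb, hbx⟩ := (h.zz_or hP.left hLm hne (syl_inf f.hT f.kT) n1).resolve_left hLK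
  obtain ⟨c, hc, hcx⟩ := (h.zz_or hP.right hLm hne' (syl_inf f.hT f.lT) n2).resolve_left hLW
  have hcK : c * zz K = zz K * c :=
    (h.hyp.comm f.hT f.kT f.lT f.ne (h.hyp.zz_mem_inf f.hT f.kT) hc).symm
  have h9 : (c * b) * zz L * (c * b)⁻¹ = zz L * (zz K * zz W) := by
    calc (c * b) * zz L * (c * b)⁻¹ = c * (b * zz L * b⁻¹) * c⁻¹ := by group
      _ = c * (zz K * zz L) * c⁻¹ := by rw [hbx]
      _ = (c * zz K) * zz L * c⁻¹ := by group
      _ = zz K * (c * zz L * c⁻¹) := by rw [hcK]; group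
      _ = zz K * (zz W * zz L) := by rw [hcx]
      _ = zz K * (zz L * zz W) := by rw [hxW]
      _ = (zz K * zz L) * zz W := by group
      _ = (zz L * zz K) * zz W := by rw [hxK]
      _ = _ := by group
  -- `w = zz K * zz W` centralises a Sylow 2-subgroup of `L`
  have hw : zz K * zz W ∈ ZZ Om := ⟨K, W, hP, rfl⟩
  have hwL : (zz K * zz W) * zz L = zz L * (zz K * zz W) := by
    calc (zz K * zz W) * zz L = zz K * (zz W * zz L) := by group
      _ = (zz K * zz L) * zz W := by rw [← hxW]; group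
      _ = _ := by rw [← hxK]; group
  obtain ⟨Q, hQ, hn⟩ := h.exists_syl_norm hLm (h.ZZ_mul_self hw) hwL
  rcases h.ZZ_or hLm hQ hw hn with ⟨M, hM, hwM⟩ | ⟨b', hb', hbw⟩
  · refine ⟨M, hM, ?_⟩
    rw [hwM, ← mul_assoc, hx2, one_mul]
  · exfalso
    have h1 := h.ZZ_cj hw b'
    rw [hbw, ← h9, ← h.hyp.zz_cj hLm] at h1
    exact h.disj (h.hyp.conj L hLm _) h1

/-- **(G3)+(G4)**: a commuting `zz L` acts on `LL K / O` as an inner automorphism -/
theorem inner_of_comm (hL : LPiece Om LL) (h : Two Om) (hO : OutP Om LL) (hK : K ∈ Om) (hLm : L ∈ Om)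
    (hc : zz L * zz K = zz K * zz L) : ∃ l ∈ LL K, TV LL K (zz L * l) := by
  by_contra hout
  have hx2 := h.hyp.zz_mul hLm
  have hxC : zz L ∈ centralizer {zz K} := mem_centralizer_singleton_iff.2 hc
  -- `L ≠ K`, `L` is not a partner of `K`
  have hne : K ≠ L := by
    rintro rfl
    exact hout ⟨1, Subgroup.one_mem _, by rw [mul_one]; exact hL.comm K hK _ (h.hyp.zz_mem hK)⟩
  have hKL : ¬ Pt Om K L := by
    intro h1
    refine hout ⟨zz L, hL.mem_of_pt h h1, ?_⟩
    rw [hx2]
    exact (hL.pc K hK).tv_of_mem (Subgroup.one_mem _)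
  -- a partner `W` of `K` commuting with `zz L` is not a partner of `L`
  have claim : ∀ W : Subgroup G, Pt Om K W → zz L * zz W = zz W * zz L → ¬ Pt Om W L := by
    intro W hW hcW h1
    obtain ⟨T, hxT, f⟩ := exists_frame_one h hW hx2 hc hcW
    rcases hL.tv_or h f (hL.mem_of_pt h h1) hxT hx2 with h2 | h2
    · exact hout ⟨1, Subgroup.one_mem _, by rw [mul_one]; exact h2⟩
    · exact hout ⟨zz W, hL.mem_of_pt h hW, h2⟩
  obtain ⟨U, T, hxT, f⟩ := exists_frame' h hK (Two.isPGroup_zpowers_of_sq hx2) (zpowers_le.2 hxC)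
  have hcU := f.commL (hxT (mem_zpowers _))
  obtain ⟨t, htm, ht2, ht1, htU, htc, hxt⟩ := hO K U f.pt (zz L) hx2 hc hcU hout
  obtain ⟨V, hV, rfl⟩ := hL.exists_pt_of_mem h hK htm ht2 ht1
  have hVU : V ≠ U := fun h1 => htU (by rw [h1])
  obtain ⟨V', hV', hVV'⟩ := hL.mul_pt h K V U hV f.pt hVU htc
  have hcV' : zz L * zz V' = zz V' * zz L := by
    rw [← hVV']
    calc zz L * (zz V * zz U) = (zz L * zz V) * zz U := by group
      _ = zz V * (zz L * zz U) := by rw [hxt]; group
      _ = _ := by rw [hcU]; group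
  have neW : ∀ W : Subgroup G, Pt Om K W → W ≠ L := by
    rintro W hW rfl
    exact hKL hW
  obtain ⟨M, hM, hMz⟩ := exists_pt_mul h f.pt hLm hKL hne (claim U f.pt hcU) (neW U f.pt) hc hcU
  obtain ⟨M', hM', hMz'⟩ := exists_pt_mul h hV hLm hKL hne (claim V hV hxt) (neW V hV) hc hxt
  -- the product of the involutions of `M'`, `M` is that of `V'`
  have e1 : Commute (zz L) (zz K) := hc
  have e2 : Commute (zz L) (zz U) := hcU
  have e3 : Commute (zz L) (zz V) := hxt
  have e4 : Commute (zz K) (zz U) := f.pt.comm h.hyp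
  have e5 : Commute (zz K) (zz V) := hV.comm h.hyp
  have e6 : Commute (zz V) (zz U) := htc
  have hMM : zz M' * zz M = zz V' := by
    rw [hMz, hMz', ← hVV']
    have c1 : Commute (zz L * (zz K * zz V)) (zz L) :=
      (Commute.refl _).mul_left (e1.symm.mul_left e3.symm)
    calc zz L * (zz K * zz V) * (zz L * (zz K * zz U))
        = (zz L * (zz K * zz V)) * zz L * (zz K * zz U) := by group
      _ = (zz L * zz L) * (zz K * zz V) * (zz K * zz U) := by rw [c1.eq]; group
      _ = (zz K * zz V) * (zz K * zz U) := by rw [hx2, one_mul]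
      _ = (zz V * zz K) * (zz K * zz U) := by rw [e5.eq]
      _ = zz V * (zz K * zz K) * zz U := by group
      _ = zz V * zz U := by rw [h.hyp.zz_mul hK, mul_one]
  have hMne : M' ≠ M := by
    intro h1
    have h2 := h.hyp.zz_mul hM.right
    rw [h1, h2] at hMM
    exact h.hyp.zz_ne hV'.right hMM.symm
  have hMc : zz M' * zz M = zz M * zz M' := by
    have c1 : Commute (zz K * zz V) (zz K * zz U) :=
      ((Commute.refl _).mul_right e4).mul_left (e5.symm.mul_right e6)
    have c2 : Commute (zz L) (zz K * zz V) := e1.mul_right e3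
    have c3 : Commute (zz L) (zz K * zz U) := e1.mul_right e2
    have c4 : Commute (zz L * (zz K * zz V)) (zz L * (zz K * zz U)) :=
      ((Commute.refl _).mul_right c3).mul_left (c2.symm.mul_right c1)
    rw [hMz, hMz']
    exact c4.eq
  obtain ⟨N, hN, hN'⟩ := hL.mul_pt h L M' M hM' hM hMne hMc
  have h3 : N = V' := h.inj N hN.right V' hV'.right (by rw [← hN', hMM])
  rw [h3] at hN
  exact claim V' hV' hcV' hN.symm

/-- **commuting members are partners or have a common partner** -/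
theorem link (hL : LPiece Om LL) (h : Two Om) (hO : OutP Om LL) : Link Om := by
  intro K hK L hLm hne hc
  obtain ⟨l, hl, ht⟩ := hL.inner_of_comm h hO hK hLm hc.symm
  have hx2 := h.hyp.zz_mul hLm
  have hxC : zz L ∈ centralizer {zz K} := mem_centralizer_singleton_iff.2 hc.symm
  obtain ⟨l₁, hl₁, c, hcC, hct, hl₁2, hc2, hlc, hx⟩ := (hL.pc K hK).decompose hxC hx2 hl ht
  by_cases h1 : l₁ = 1
  · -- `zz L` acts trivially on `LL K / O`
    rw [h1, one_mul] at hx
    obtain ⟨U, T, hxT, f⟩ := exists_frame' h hK (Two.isPGroup_zpowers_of_sq hx2) (zpowers_le.2 hxC)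
    by_cases hUL : U = L
    · left; rw [← hUL]; exact f.pt
    · right
      refine ⟨U, f.pt, (h.pt_of_cent f.lT.1 hLm hUL (syl_inf f.hT f.lT) ?_).symm⟩
      intro q hq
      have hqK := hL.part K U T f.hT f.kT f.lT f.ne hq
      exact hL.comm_of_tv f (hxT (mem_zpowers _)) (by rw [hx]; exact hct) hqK hq.2
  · obtain ⟨M, hM, hM'⟩ := hL.exists_pt_of_mem h hK hl₁ hl₁2 h1
    by_cases hML : M = L
    · left; rw [← hML]; exact hM
    · right
      refine ⟨M, hM, ?_⟩
      have hxM : zz L * zz M = zz M * zz L := by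
        rw [hM', hx]
        calc l₁ * c * l₁ = l₁ * (c * l₁) := by group
          _ = l₁ * (l₁ * c) := by rw [hlc]
      have htv : TV LL K (zz L * zz M) := by
        rw [hM', hx]
        have : l₁ * c * l₁ = c := by
          calc l₁ * c * l₁ = (c * l₁) * l₁ := by rw [hlc]
            _ = c := by rw [mul_assoc, hl₁2, mul_one]
        rw [this]
        exact hct
      exact (hL.pt_of_tv h hM hLm hML hc.symm hxM htv).symm

end LPiece

end Cfsg.Agent.Cit.TwoB
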