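import Cfsg.Agent.Cit.TPieces
import Cfsg.Agent.Cit.OneBasic
import Cfsg.Agent.Cit.QuoCen

/-!
# `|Om(S)| = 2`, `z₁ ≠ z₂`: the pieces of `X = C(z_K) / O(C(z_K))`

`Sit Om K`: a group `X` with `O(X) = 1` and pieces, `K` a normal member commuting with the others, every 2-subgroup
contains Sylow subgroups of at most one further member, and there are at least two others.  Then the members
different from `K` are contained in one quasisimple normal piece `D = DD Om K`, `|Om_D(S)| = 1`, and the image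
of this family in `D / Z(D)` has the same properties.
-/

set_option autoImplicit false
set_option linter.style.haveILetI false
set_option linter.unusedSectionVars false

namespace Cfsg.Agent.Cit.TwoB

open Subgroup Cfsg TypeDet Relation

universe u

variable {X : Type u} [Group X]

/-- the situation in `X = C(z_K) / O(C(z_K))` -/
structure Sit (Om : Set (Subgroup X)) (K : Subgroup X) : Prop where
  hyp : Hyp Om
  mem : K ∈ Om
  nml : K.Normal
  pieces : HasPieces Om
  comm : ∀ J ∈ Om, J ≠ K → J ≤ centralizer (K : Set X)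
  two : ∀ S : Subgroup X, IsPGroup 2 S → ∀ J ∈ OmS Om S, ∀ J' ∈ OmS Om S, J ≠ K → J' ≠ K → J = J'
  nsing : ∃ J ∈ Om, ∃ J' ∈ Om, J ≠ K ∧ J' ≠ K ∧ J ≠ J'

/-- the join of the members different from `K` -/
def DD (Om : Set (Subgroup X)) (K : Subgroup X) : Subgroup X := sSup {J | J ∈ Om ∧ J ≠ K}

namespace Sit

variable [Finite X] {Om : Set (Subgroup X)} {K : Subgroup X}

theorem not_cm (h : Sit Om K) {J J' : Subgroup X} (hJ : J ∈ Om) (hJ' : J' ∈ Om) (h1 : J ≠ K) (h2 : J' ≠ K)
    (hne : J ≠ J') : ¬ cm J J' := by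
  intro hc
  obtain ⟨Q, hQ⟩ := Hyp.exists_syl J
  obtain ⟨Q', hQ'⟩ := Hyp.exists_syl J'
  have h3 : Q ≤ normalizer (Q' : Set X) := by
    intro x hx
    rw [mem_normalizer_iff]
    intro y
    have key : ∀ y ∈ J', x * y * x⁻¹ = y := fun y hy => by rw [hc x (hQ.1 hx) y hy, mul_inv_cancel_right]
    constructor
    · intro hy
      rwa [key y (hQ'.1 hy)]
    · intro hy
      have h4 := hc x (hQ.1 hx) _ (hQ'.1 hy)
      have h5 : x * y * x⁻¹ = y := by
        have h6 : y = x⁻¹ * (x * y * x⁻¹ * x) := by group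
        have h7 : x * y * x⁻¹ * x = x * (x * y * x⁻¹) := h4.symm
        rw [h7] at h6
        rw [← mul_assoc, inv_mul_cancel, one_mul] at h6
        exact h6.symm
      rwa [h5] at hy
  have h4 := OneBasic.isPGroup_sup_of_normalizes hQ.2.1 hQ'.2.1 h3
  exact hne (h.two _ h4 J (mem_OmS_of_le hJ hQ le_sup_left) J' (mem_OmS_of_le hJ' hQ' le_sup_right) h1 h2)

theorem pc_self (h : Sit Om K) : pc Om K = K := pc_eq_self h.comm

theorem pc_eq (h : Sit Om K) {J : Subgroup X} (hJ : J ∈ Om) (hJK : J ≠ K) : pc Om J = DD Om K := by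
  apply le_antisymm
  · refine sSup_le fun M hM => le_sSup ?_
    have h1 : M ∈ Om := chn_mem hJ hM
    refine ⟨h1, ?_⟩
    rintro rfl
    have h2 : J ≤ pc Om M := le_pc_of_chn (chn_symm hM)
    rw [h.pc_self] at h2
    exact hJK (h.hyp.eq_of_le hJ h.mem h2)
  · refine sSup_le fun M hM => ?_
    by_contra hc
    have h1 : pc Om J ≠ pc Om M := by
      intro h2
      exact hc (by rw [h2]; exact le_pc)
    have h2 := pc_comm hJ hM.1 h1
    have h3 : cm J M := cm_iff_le_centralizer.2 ((le_pc.trans h2).trans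
      (centralizer_le (fun x hx => le_pc hx)))
    refine h.not_cm hJ hM.1 hJK hM.2 ?_ h3
    rintro rfl
    exact h1 rfl

theorem exists_mem (h : Sit Om K) : ∃ J ∈ Om, J ≠ K := by
  obtain ⟨J, hJ, -, -, h1, -⟩ := h.nsing
  exact ⟨J, hJ, h1⟩

theorem le_DD {J : Subgroup X} (hJ : J ∈ Om) (hJK : J ≠ K) : J ≤ DD Om K := le_sSup ⟨hJ, hJK⟩

theorem not_mem (h : Sit Om K) : DD Om K ∉ Om := by
  intro hD
  obtain ⟨J, hJ, J', hJ', h1, h2, hne⟩ := h.nsing
  exact hne ((h.hyp.eq_of_le hJ hD (le_DD hJ h1)).trans (h.hyp.eq_of_le hJ' hD (le_DD hJ' h2)).symm)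

theorem qs (h : Sit Om K) : IsQuasisimple (DD Om K) ∧ IsPGroup 2 (center (DD Om K)) := by
  obtain ⟨J, hJ, hJK⟩ := h.exists_mem
  have h1 := h.pieces.eq_or_quasisimple h.hyp hJ
  rw [h.pc_eq hJ hJK] at h1
  rcases h1 with h1 | h1
  · exact absurd (h1 ▸ hJ) h.not_mem
  · exact h1.2

theorem piece (h : Sit Om K) : Piece Om (DD Om K) := by
  obtain ⟨J, hJ, hJK⟩ := h.exists_mem
  rw [← h.pc_eq hJ hJK]
  exact h.pieces.piece h.hyp hJ

theorem cj_ne (h : Sit Om K) {J : Subgroup X} (hJK : J ≠ K) (g : X) : cj g J ≠ K := by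
  intro h1
  haveI := h.nml
  have h2 : cj g K = K := mem_normalizer_iff_cj.1 (by rw [normalizer_eq_top]; trivial)
  exact hJK (cj_inj.1 (h1.trans h2.symm))

theorem normal (h : Sit Om K) : (DD Om K).Normal := by
  rw [← normalizer_eq_top_iff, eq_top_iff]
  intro g _
  have key : ∀ g, cj g (DD Om K) ≤ DD Om K := by
    intro g
    rw [Cit.cj_le_iff]
    refine sSup_le fun J hJ => ?_
    rw [← Cit.cj_le_iff]
    exact le_sSup ⟨h.hyp.conj J hJ.1 g, h.cj_ne hJ.2 g⟩
  exact OneComp.le_normalizer_of_cj_le (H := ⊤) (fun g _ => key g) (mem_top g)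

theorem comm_DD (h : Sit Om K) : DD Om K ≤ centralizer (K : Set X) := sSup_le fun J hJ => h.comm J hJ.1 hJ.2

theorem comm_DD' (h : Sit Om K) : K ≤ centralizer (DD Om K : Set X) :=
  le_centralizer_iff.1 h.comm_DD

theorem ne_of_le (h : Sit Om K) {J : Subgroup X} (hJ : J ∈ Om) (hJD : J ≤ DD Om K) : J ≠ K := by
  rintro rfl
  exact h.hyp.not_le_centralizer_self hJ (hJD.trans h.comm_DD)

theorem one (h : Sit Om K) : One (restr Om (DD Om K)) := by
  refine ⟨h.hyp.restr _, fun S hS J hJ J' hJ' => ?_⟩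
  rw [mem_OmS_restr] at hJ hJ'
  apply Subgroup.map_injective (DD Om K).subtype_injective
  exact h.two _ (hS.map _) _ hJ _ hJ' (h.ne_of_le hJ.1 (map_subtype_le _)) (h.ne_of_le hJ'.1 (map_subtype_le _))

end Sit

/-! ### A quasisimple group with `|Om(S)| = 1` -/

/-- a quasisimple group `D` with `|Om(S)| = 1` -/
structure QOne (Om : Set (Subgroup X)) : Prop where
  one : One Om
  qs : IsQuasisimple X
  cen : IsPGroup 2 (center X)
  ne : Om.Nonempty
  nmem : ⊤ ∉ Om

theorem Sit.qOne [Finite X] {Om : Set (Subgroup X)} {K : Subgroup X} (h : Sit Om K) :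
    QOne (restr Om (DD Om K)) := by
  refine ⟨h.one, h.qs.1, h.qs.2, ?_, ?_⟩
  · obtain ⟨J, hJ, hJK⟩ := h.exists_mem
    exact ⟨_, subgroupOf_mem_restr hJ (Sit.le_DD hJ hJK)⟩
  · intro h1
    rw [mem_restr, ← MonoidHom.range_eq_map, range_subtype] at h1
    exact h.not_mem h1

namespace QOne

variable [Finite X] {Om : Set (Subgroup X)}

theorem inf_center (h : QOne Om) {J : Subgroup X} (hJ : J ∈ Om) : J ⊓ center X = ⊥ := by
  haveI : Fact (Nat.Prime 2) := ⟨Nat.prime_two⟩
  by_contra hne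
  have h1 : zz J ∈ center X := by
    have h2 : IsPGroup 2 (J ⊓ center X : Subgroup X) := h.cen.to_le inf_le_right
    obtain ⟨t, ht, ht2⟩ : ∃ t ∈ J ⊓ center X, orderOf t = 2 := by
      have h3 : 2 ∣ Nat.card (J ⊓ center X : Subgroup X) := by
        obtain ⟨k, hk⟩ := (IsPGroup.iff_card.1 h2)
        rw [hk]
        refine dvd_pow_self 2 fun h4 => hne ?_
        rw [h4, pow_zero] at hk
        exact card_eq_one.1 hk
      obtain ⟨t, ht⟩ := exists_prime_orderOf_dvd_card' 2 h3
      exact ⟨t, t.2, by rw [orderOf_coe]; exact ht⟩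
    have h4 := h.one.hyp.uniq J hJ t ht.1 ht2
    rw [← h4]
    exact ht.2
  have h2 : normalizer (J : Set X) = ⊤ := by
    rw [← h.one.centralizer_zz hJ, eq_top_iff]
    intro x _
    rw [mem_centralizer_singleton_iff]
    exact mem_center_iff.1 h1 x
  haveI hn : J.Normal := normalizer_eq_top_iff.1 h2
  rcases SignalizersComponents.LayerBasic.quasisimple_normal h.qs J hn with h3 | h3
  · exact h.nmem (h3 ▸ hJ)
  · refine h.one.hyp.not_le_centralizer_self hJ fun x hx => ?_
    rw [mem_centralizer_iff]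
    intro y _
    exact mem_center_iff.1 (h3 hx) y

/-- the projection onto `X / Z(X)` -/
theorem hyp_img (h : QOne Om) : Hyp (img (QuotientGroup.mk' (center X)) Om) := by
  refine QuoCen.hyp_img_central h.one.hyp (QuotientGroup.mk'_surjective _) ?_ ?_
  · rw [QuotientGroup.ker_mk']
  · intro K hK
    rw [QuotientGroup.ker_mk']
    exact h.inf_center hK

theorem one_img (h : QOne Om) : One (img (QuotientGroup.mk' (center X)) Om) := by
  haveI : Fact (Nat.Prime 2) := ⟨Nat.prime_two⟩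
  refine ⟨h.hyp_img, ?_⟩
  rintro S hS _ ⟨⟨J, hJ, rfl⟩, hJ2⟩ _ ⟨⟨J', hJ', rfl⟩, hJ2'⟩
  have h1 : IsPGroup 2 (S.comap (QuotientGroup.mk' (center X))) := by
    refine hS.comap_of_ker_isPGroup _ ?_
    rw [QuotientGroup.ker_mk']
    exact h.cen
  have key : ∀ J : Subgroup X, (S.comap (QuotientGroup.mk' (center X))).relIndex J =
      S.relIndex (J.map (QuotientGroup.mk' (center X))) := fun J => relIndex_comap _ _ _
  rw [h.one.one _ h1 J ⟨hJ, by rw [key]; exact hJ2⟩ J' ⟨hJ', by rw [key]; exact hJ2'⟩]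

theorem simple (h : QOne Om) : IsSimpleGroup (X ⧸ center X) := h.qs.2

end QOne

end Cfsg.Agent.Cit.TwoB
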