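import Cfsg.Agent.Cit.UseT
import Cfsg.Agent.Cit.TwoAEnd
import Cfsg.Agent.Cit.TwoB.PieceX
import Cfsg.Agent.Cit.TwoB.Frame

/-!
# `|Om(S)| = 2`, `z₁ ≠ z₂`: the situation `Sit` in `C(z_K) / O(C(z_K))`
-/

set_option autoImplicit false
set_option linter.style.haveILetI false
set_option linter.unusedSectionVars false

namespace Cfsg.Agent.Cit.TwoB

open Subgroup Cfsg UseT SubCent

universe u

variable {G : Type u} [Group G] [Finite G] {Om : Set (Subgroup G)} {K L : Subgroup G}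

/-- `C(z_K)` -/
abbrev CK (K : Subgroup G) : Subgroup G := centralizer {zz K}

theorem le_CK (h : Hyp Om) (hK : K ∈ Om) : K ≤ CK K := le_normalizer.trans (h.normalizer_le hK)

theorem self_mem_cov (h : Hyp Om) (hK : K ∈ Om) : K ∈ cov Om (CK K) := mem_cov_of_le hK (le_CK h hK)

/-- the members covered by `C(z_K)` are `K` and its partners -/
theorem pt_of_mem_cov (h : Two Om) (hK : K ∈ Om) (hL : L ∈ cov Om (CK K)) (hne : L ≠ K) : Pt Om K L := by
  obtain ⟨Q, hQ⟩ := Hyp.exists_syl (L ⊓ CK K)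
  refine (h.pt_of_cent hL.1 hK hne (syl_of_syl_inf hL hQ) ?_).symm
  intro x hx
  exact (mem_centralizer_singleton_iff.1 (hQ.1 hx).2).symm

/-- partners have a common 2-subgroup in `C(z_K)` -/
theorem exists_two_le (h : Two Om) (hP : Pt Om K L) : ∃ S : Subgroup G, IsPGroup 2 S ∧ S ≤ CK K ∧ K ∈ OmS Om S ∧
    L ∈ OmS Om S := by
  obtain ⟨hne, R, hR, hK, hL⟩ := hP
  have hO := OmS_centralizer h.hyp hR hK
  exact ⟨R ⊓ CK K, hR.to_le inf_le_left, inf_le_right, by rw [hO]; exact hK, by rw [hO]; exact hL⟩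

theorem pt_mem_cov (h : Two Om) (hP : Pt Om K L) : L ∈ cov Om (CK K) := by
  obtain ⟨hne, R, hR, hK, hL⟩ := hP
  exact PairComm.mem_cov h.hyp hR hL hK hne.symm

theorem mem_cov_CK (h : Two Om) (hK : K ∈ Om) : L ∈ cov Om (CK K) ↔ L = K ∨ Pt Om K L := by
  constructor
  · intro hL
    by_cases hne : L = K
    · exact Or.inl hne
    · exact Or.inr (pt_of_mem_cov h hK hL hne)
  · rintro (rfl | h1)
    · exact self_mem_cov h.hyp hK
    · exact pt_mem_cov h h1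

section Tr

variable (h : Two Om) (hT : ∀ K ∈ Om, IsType K)
include h hT

theorem tr_ne_of_pt (hP : Pt Om K L) : tr (CK K) L ≠ tr (CK K) K := by
  obtain ⟨S, hS, hSC, hK, hL⟩ := exists_two_le h hP
  exact tr_ne h.hyp hT (pt_mem_cov h hP) (self_mem_cov h.hyp hK.1) hS hSC hL hK hP.1.symm

theorem exists_of_mem_fam (hK : K ∈ Om) {J : Subgroup (HQ (CK K))} (hJ : J ∈ fam Om (CK K))
    (hne : J ≠ tr (CK K) K) : ∃ L, Pt Om K L ∧ tr (CK K) L = J := by
  obtain ⟨L, hL, rfl⟩ := exists_tr hJ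
  refine ⟨L, pt_of_mem_cov h hK hL ?_, rfl⟩
  rintro rfl
  exact hne rfl

theorem tr_inj_of_comm {M : Subgroup G} (hL : Pt Om K L) (hM : Pt Om K M)
    (hc : zz L * zz M = zz M * zz L) (he : tr (CK K) L = tr (CK K) M) : L = M := by
  obtain ⟨x, hx, hxL⟩ := (tr_eq_iff h.hyp hT (pt_mem_cov h hL) (pt_mem_cov h hM)).1 he
  apply h.inj _ hL.right _ hM.right
  -- `z_L z_M` lies in `O(C)`
  have hzL := zz_mem_of_cov h.hyp (pt_mem_cov h hL)
  have hzM := zz_mem_of_cov h.hyp (pt_mem_cov h hM)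
  have h1 : (⟨zz L, hzL⟩ : CK K) * ⟨zz M, hzM⟩ ∈ (qm (CK K)).ker := by
    rw [MonoidHom.mem_ker, map_mul, ← zz_tr h.hyp hT (pt_mem_cov h hL), he,
      zz_tr h.hyp hT (pt_mem_cov h hM), ← map_mul]
    have h2 : (⟨zz M, hzM⟩ : CK K) * ⟨zz M, hzM⟩ = 1 := Subtype.ext (h.hyp.zz_mul hM.right)
    rw [h2, map_one]
  have h2 : ((⟨zz L, hzL⟩ : CK K) * ⟨zz M, hzM⟩) = 1 := by
    refine eq_one_of_odd (not_dvd_ker (CK K)) h1 (a := 1) ?_
    apply Subtype.ext
    change (zz L * zz M) ^ 2 ^ 1 = 1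
    rw [pow_one, pow_two]
    calc zz L * zz M * (zz L * zz M) = zz L * (zz M * zz L) * zz M := by group
      _ = zz L * (zz L * zz M) * zz M := by rw [hc]
      _ = (zz L * zz L) * (zz M * zz M) := by group
      _ = 1 := by rw [h.hyp.zz_mul hL.right, h.hyp.zz_mul hM.right, one_mul]
  have h3 : zz L * zz M = 1 := congrArg Subtype.val h2
  rw [mul_eq_one_iff_eq_inv.1 h3, h.hyp.zz_inv hM.right]

end Tr

/-- the situation in `C(z_K) / O(C(z_K))` -/
theorem sit (hm : MinS Om) (h : Two Om) (hni : ¬ Iso Om) (hK : K ∈ Om) :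
    Sit (fam Om (CK K)) (tr (CK K) K) := by
  have hT := hm.isType
  have hpc : HasPieces (fam Om (CK K)) := hm.fam_cent (h.hyp.zz_ne hK)
  have hcK := self_mem_cov h.hyp hK
  refine ⟨hyp_fam h.hyp hT _, tr_mem hcK, ?_, hpc, ?_, ?_, ?_⟩
  · rw [← normalizer_eq_top_iff, eq_top_iff]
    intro x _
    obtain ⟨g, rfl⟩ := qm_surjective (CK K) x
    rw [mem_normalizer_iff_cj, ← tr_cj hT g hcK]
    rw [(h.cj_eq_iff hK).2 (mem_centralizer_singleton_iff.1 g.2)]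
  · intro J hJ hne
    obtain ⟨L, hP, rfl⟩ := exists_of_mem_fam h hT hK hJ hne
    obtain ⟨S, hS, hSC, hKS, hLS⟩ := exists_two_le h hP
    exact comm_tr h.hyp hT hpc.core (pt_mem_cov h hP) hcK hS hSC hLS hKS hP.1.symm
  · intro S hS J hJ J' hJ' hne hne'
    by_contra hJJ
    obtain ⟨L, hP, rfl⟩ := exists_of_mem_fam h hT hK hJ.1 hne
    obtain ⟨L', hP', rfl⟩ := exists_of_mem_fam h hT hK hJ'.1 hne'
    have h1 := comm_of_core (hyp_fam h.hyp hT _) hpc.core hS hJ hJ' hJJ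
    obtain ⟨x, hx, T, hT2, hTC, hLT, hLT', hne2⟩ :=
      exists_adj h.hyp hT (pt_mem_cov h hP) (pt_mem_cov h hP') h1
    have h2 : T ≤ normalizer (K : Set G) := by
      rw [← h.centralizer_zz hK]
      exact hTC
    obtain ⟨R, hR, hTR, -, hKR⟩ := OneBasic.exists_two_sup hT2 h2
    rcases h.pair hR (OmS_mono hTR hLT) (OmS_mono hTR hLT') (mem_OmS_of_le hK hKR inf_le_right) hne2 with h3 | h3
    · have h4 : cj ((x : G)⁻¹) K = K := by
        rw [h.cj_eq_iff hK]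
        exact mem_centralizer_singleton_iff.1 ((CK K).inv_mem x.2)
      have h5 : cj ((x : G)⁻¹) (cj (x : G) L) = cj ((x : G)⁻¹) K := by rw [← h3]
      rw [cj_inv_cj, h4] at h5
      exact hP.1 h5.symm
    · exact hP'.1 h3
  · unfold Iso at hni
    push Not at hni
    obtain ⟨K₀, L₀, M₀, hL₀, hM₀, hc, hne⟩ := hni
    obtain ⟨L, hP⟩ := exists_pt h hK
    obtain ⟨g, hg1, hg2⟩ := h.pt_trans hL₀ hP
    have hM : Pt Om K (cj g M₀) := by
      have h1 := hM₀.cj h.hyp.conj g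
      rwa [hg1] at h1
    have hc' : zz L * zz (cj g M₀) = zz (cj g M₀) * zz L := by
      rw [← hg2, h.hyp.zz_cj hL₀.right, h.hyp.zz_cj hM₀.right]
      calc g * zz L₀ * g⁻¹ * (g * zz M₀ * g⁻¹) = g * (zz L₀ * zz M₀) * g⁻¹ := by group
        _ = g * (zz M₀ * zz L₀) * g⁻¹ := by rw [hc]
        _ = _ := by group
    refine ⟨tr (CK K) L, tr_mem (pt_mem_cov h hP), tr (CK K) (cj g M₀), tr_mem (pt_mem_cov h hM),
      tr_ne_of_pt h hT hP, tr_ne_of_pt h hT hM, fun he => ?_⟩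
    have h1 := tr_inj_of_comm h hT hP hM hc' he
    rw [← hg2] at h1
    exact hne (cj_inj.1 h1)

end Cfsg.Agent.Cit.TwoB
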