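import Cfsg.Agent.Cit.TwoB.Link
import Cfsg.Agent.Cit.TwoB.ZMod
import Cfsg.Agent.TwoFusion.TransferIndex

/-!
# `|Om(S)| = 2`, `z₁ ≠ z₂`, case B with trivial twist: `G` has a subgroup of index two

(bb R18 #6419, (G1)-(G8))
-/

set_option autoImplicit false
set_option maxHeartbeats 400000
set_option linter.style.haveILetI false
set_option linter.unusedSectionVars false

namespace Cfsg.Agent.Cit.TwoB

open Subgroup Cfsg

variable {G : Type*} [Group G] {Om : Set (Subgroup G)} {K L T J : Subgroup G} {LL : Subgroup G → Subgroup G}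

/-- the involutions of `LL L ∩ C(z_K)` act trivially on `LL K / O`, for all partners `K`, `L` (and (L4)) -/
structure Tw0 (Om : Set (Subgroup G)) (LL : Subgroup G → Subgroup G) : Prop where
  tv : ∀ K L, Pt Om K L → ∀ p ∈ LL L, p * zz K = zz K * p → p * p = 1 → TV LL K p
  out : OutP Om LL

/-- a member whose involution centralises `z_K`, `z_L` but lies in neither of `LL K`, `LL L` -/
structure Bad (Om : Set (Subgroup G)) (LL : Subgroup G → Subgroup G) (K L J : Subgroup G) : Prop where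
  pt : Pt Om K L
  memJ : J ∈ Om
  cK : zz J * zz K = zz K * zz J
  cL : zz J * zz L = zz L * zz J
  nK : zz J ∉ LL K
  nL : zz J ∉ LL L

namespace Bad

variable [Finite G]

theorem symm (b : Bad Om LL K L J) : Bad Om LL L K J := ⟨b.pt.symm, b.memJ, b.cL, b.cK, b.nL, b.nK⟩

theorem ne_left (hL : LPiece Om LL) (h : Two Om) (b : Bad Om LL K L J) : K ≠ J := by
  intro h1
  apply b.nL
  rw [← h1]
  exact hL.mem_of_pt h b.pt.symm

/-- (G2), first step -/
theorem exists_conj_left (hL : LPiece Om LL) (h : Two Om) (b : Bad Om LL K L J) (f : Fr Om K L T)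
    (hx : zz J ∈ T) : ∃ c ∈ K ⊓ T, c * zz J * c⁻¹ = zz K * zz J := by
  have hn : zz J ∈ normalizer ((K ⊓ T : Subgroup G) : Set G) := by
    rw [mem_normalizer_iff_cj, cj_inf, (h.cj_eq_iff f.kT.1).2 b.cK, mem_normalizer_iff_cj.1 (le_normalizer hx)]
  rcases h.zz_or f.kT.1 b.memJ (b.ne_left hL h) (syl_inf f.hT f.kT) hn with h1 | h1
  · exact absurd (hL.mem_of_pt h h1) b.nK
  · exact h1

/-- (G2) -/
theorem exists_left (hL : LPiece Om LL) (h : Two Om) (b : Bad Om LL K L J) :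
    ∃ M ∈ Om, zz M = zz K * zz J := by
  obtain ⟨T, hxT, f⟩ := exists_frame_one h b.pt (h.hyp.zz_mul b.memJ) b.cK b.cL
  obtain ⟨c, -, hc⟩ := b.exists_conj_left hL h f hxT
  exact ⟨cj c J, h.hyp.conj J b.memJ c, by rw [h.hyp.zz_cj b.memJ, hc]⟩

/-- (G2) -/
theorem exists_both (hL : LPiece Om LL) (h : Two Om) (b : Bad Om LL K L J) :
    ∃ M, Pt Om J M ∧ zz M = zz K * zz L * zz J := by
  obtain ⟨T, hxT, f⟩ := exists_frame_one h b.pt (h.hyp.zz_mul b.memJ) b.cK b.cL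
  obtain ⟨c, hcK, hc⟩ := b.exists_conj_left hL h f hxT
  obtain ⟨d, hdL, hd⟩ := b.symm.exists_conj_left hL h f.symm hxT
  have hdz : d * zz K = zz K * d :=
    h.hyp.comm f.hT f.lT f.kT f.ne.symm hdL (h.hyp.zz_mem_inf f.hT f.kT)
  have h1 : zz (cj (d * c) J) = zz K * zz L * zz J := by
    rw [h.hyp.zz_cj b.memJ]
    calc d * c * zz J * (d * c)⁻¹ = d * (c * zz J * c⁻¹) * d⁻¹ := by group
      _ = (d * zz K) * zz J * d⁻¹ := by rw [hc]; group
      _ = zz K * (d * zz J * d⁻¹) := by rw [hdz]; group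
      _ = _ := by rw [hd]; group
  have hw : zz K * zz L ∈ ZZ Om := ⟨K, L, b.pt, rfl⟩
  have hwc : zz K * zz L * zz J = zz J * (zz K * zz L) := by
    calc zz K * zz L * zz J = zz K * (zz J * zz L) := by rw [b.cL]; group
      _ = (zz J * zz K) * zz L := by rw [b.cK]; group
      _ = _ := by group
  obtain ⟨Q, hQ, hn⟩ := h.exists_syl_norm b.memJ (h.ZZ_mul_self hw) hwc
  rcases h.ZZ_or b.memJ hQ hw hn with ⟨M, hM, h2⟩ | ⟨e, -, he⟩
  · refine ⟨M, hM, ?_⟩
    have h3 : zz M = zz J * (zz K * zz L) := by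
      rw [h2, ← mul_assoc, h.hyp.zz_mul b.memJ, one_mul]
    rw [h3, ← hwc]
  · exfalso
    have h3 := h.ZZ_cj hw e
    rw [he, ← hwc, ← h1] at h3
    exact h.disj (h.hyp.conj J b.memJ _) h3

/-- (G3): `z_J` acts on `LL K / O` as an outer automorphism -/
theorem not_inner (hL : LPiece Om LL) (h : Two Om) (h0 : Tw0 Om LL) (b : Bad Om LL K L J) :
    ¬ ∃ l ∈ LL K, TV LL K (zz J * l) := by
  rintro ⟨l, hl, ht⟩
  have hc := hL.pc K b.pt.left
  have hJ2 := h.hyp.zz_mul b.memJ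
  obtain ⟨l₁, hl₁, c, hcC, hct, hl2, hc2, hlc, hx⟩ :=
    hc.decompose (mem_centralizer_singleton_iff.2 b.cK) hJ2 hl ht
  by_cases hl1 : l₁ = 1
  · -- `z_J` is trivial on `LL K / O`
    rw [hl1, one_mul] at hx
    rw [← hx] at hct
    obtain ⟨T, hxT, f⟩ := exists_frame_one h b.pt hJ2 b.cK b.cL
    have h1 : Pt Om L J := by
      refine h.pt_of_cent b.pt.right b.memJ (b.symm.ne_left hL h) (syl_inf f.hT f.lT) ?_
      intro q hq
      exact hL.comm_of_tv f hxT hct (hL.part K L T f.hT f.kT f.lT f.ne hq) hq.2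
    exact b.nL (hL.mem_of_pt h h1)
  · have hzL := hL.mem_of_pt h b.pt
    obtain ⟨g, hg, hgl⟩ := hL.one K b.pt.left l₁ hl₁ (zz L) hzL hl2 hl1 (h.hyp.zz_mul b.pt.right)
      (h.hyp.zz_ne b.pt.right)
    have hgC := hc.le hg
    have hgK := mem_centralizer_singleton_iff.1 hgC
    set c' := g * c * g⁻¹ with hc'
    have hc't : TV LL K c' := hc.tv_conj hgC hct
    have hx' : g * zz J * g⁻¹ = zz L * c' := by
      rw [hx, ← hgl, hc']; group
    have hcc' : zz L * c' = c' * zz L := by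
      rw [← hgl, hc']
      calc g * l₁ * g⁻¹ * (g * c * g⁻¹) = g * (l₁ * c) * g⁻¹ := by group
        _ = g * c * g⁻¹ * (g * l₁ * g⁻¹) := by rw [hlc]; group
    set J' := cj g J with hJ'
    have hJ'm : J' ∈ Om := h.hyp.conj J b.memJ g
    have hzJ' : zz J' = zz L * c' := by rw [hJ', h.hyp.zz_cj b.memJ, hx']
    have hJ'2 := h.hyp.zz_mul hJ'm
    have hc'1 : c' ≠ 1 := by
      intro h1
      have h2 : c = 1 := by
        calc c = g⁻¹ * c' * g := by rw [hc']; group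
          _ = 1 := by rw [h1]; group
      rw [h2, mul_one] at hx
      exact b.nK (by rw [hx]; exact hl₁)
    have hJ'K : zz J' * zz K = zz K * zz J' := by
      rw [hJ', h.hyp.zz_cj b.memJ]
      have e1 : Commute g (zz K) := hgK
      have e2 : Commute (zz J) (zz K) := b.cK
      exact ((e1.mul_left e2).mul_left e1.inv_left).eq
    have hJ'L : zz J' * zz L = zz L * zz J' := by
      rw [hzJ']
      calc zz L * c' * zz L = zz L * (c' * zz L) := by group
        _ = zz L * (zz L * c') := by rw [hcc']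
    obtain ⟨T, hxT, f⟩ := exists_frame_one h b.pt hJ'2 hJ'K hJ'L
    have hzT : zz L ∈ T := (h.hyp.zz_mem_inf f.hT f.lT).2
    have hc'e : c' = zz L * zz J' := by
      rw [hzJ', ← mul_assoc, h.hyp.zz_mul b.pt.right, one_mul]
    have hc'T : c' ∈ T := by rw [hc'e]; exact T.mul_mem hzT hxT
    have h1 : Pt Om L J' := by
      refine h.pt_of_cent b.pt.right hJ'm ?_ (syl_inf f.hT f.lT) ?_
      · intro h2
        rw [← h2] at hzJ'
        exact hc'1 (by simpa using hzJ'.symm)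
      · intro q hq
        have h2 := hL.comm_of_tv f hc'T hc't (hL.part K L T f.hT f.kT f.lT f.ne hq) hq.2
        have h3 : q * zz L = zz L * q := f.commL hq.2
        rw [hzJ']
        calc zz L * c' * q = zz L * (c' * q) := by group
          _ = (zz L * q) * c' := by rw [h2]; group
          _ = q * (zz L * c') := by rw [← h3]; group
    have h2 : TV LL K (zz J') := h0.tv K L b.pt _ (hL.mem_of_pt h h1) hJ'K hJ'2
    have h3 : TV LL K (zz J' * c') :=
      hc.tv_mul (mem_centralizer_singleton_iff.2 hJ'K) h2 hc't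
    have h4 : zz J' * c' = zz L := by
      rw [hc'e]
      calc zz J' * (zz L * zz J') = (zz J' * zz L) * zz J' := by group
        _ = zz L * (zz J' * zz J') := by rw [hJ'L]; group
        _ = zz L := by rw [hJ'2, mul_one]
    rw [h4] at h3
    exact hL.not_tv_zz h b.pt h3

/-- (G4) -/
theorem false (hL : LPiece Om LL) (h : Two Om) (h0 : Tw0 Om LL) (b : Bad Om LL K L J) : False :=
  b.not_inner hL h h0 (hL.inner_of_comm h h0.out b.pt.left b.memJ b.cK)

end Bad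

namespace LPiece

variable [Finite G]

/-- (G*) -/
theorem mem_or (hL : LPiece Om LL) (h : Two Om) (h0 : Tw0 Om LL) (hP : Pt Om K L) (hJ : J ∈ Om)
    (hK : zz J * zz K = zz K * zz J) (hL' : zz J * zz L = zz L * zz J) : zz J ∈ LL K ∨ zz J ∈ LL L := by
  by_contra hcon
  rw [not_or] at hcon
  exact Bad.false hL h h0 ⟨hP, hJ, hK, hL', hcon.1, hcon.2⟩

/-- a second involution of `LL K ⊓ T` -/
theorem exists_second (hL : LPiece Om LL) (h : Two Om) (f : Fr Om K L T) :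
    ∃ q ∈ LL K, q ∈ T ∧ q * q = 1 ∧ q ≠ 1 ∧ q ≠ zz L := by
  obtain ⟨t, ht, ht2, ht1, htz, htc⟩ := hL.four K L f.pt
  obtain ⟨T', htT', f'⟩ := exists_frame_one h f.pt ht2 (hL.le_cent f.kT.1 ht) htc
  obtain ⟨m, hm, hmT⟩ := f'.exists_conj f
  have hmL : m * zz L = zz L * m := mem_centralizer_singleton_iff.1 hm.2
  refine ⟨m * t * m⁻¹, (hL.pc K f.kT.1).conjL hm.1 ht, by rw [← hmT]; exact conj_mem_cj htT', ?_, ?_, ?_⟩
  · calc m * t * m⁻¹ * (m * t * m⁻¹) = m * (t * t) * m⁻¹ := by group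
      _ = 1 := by rw [ht2]; group
  · intro h1
    apply ht1
    calc t = m⁻¹ * (m * t * m⁻¹) * m := by group
      _ = 1 := by rw [h1]; group
  · intro h1
    apply htz
    calc t = m⁻¹ * (m * t * m⁻¹) * m := by group
      _ = m⁻¹ * (zz L * m) := by rw [h1]; group
      _ = zz L := by rw [← hmL]; group

/-- an involution of `LL K` is not in `ZZ` -/
theorem not_mem_ZZ (hL : LPiece Om LL) (h : Two Om) (hK : K ∈ Om) {x : G} (hx : x ∈ LL K)
    (hx2 : x * x = 1) (hx1 : x ≠ 1) : x ∉ ZZ Om := by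
  obtain ⟨M, hM, rfl⟩ := hL.exists_pt_of_mem h hK hx hx2 hx1
  exact h.disj hM.right

/-- (G5) -/
theorem comm_of_mem (hL : LPiece Om LL) (h : Two Om) (h0 : Tw0 Om LL) (S : Sylow 2 G)
    (hK : K ∈ OmS Om (S : Subgroup G)) (hL' : L ∈ OmS Om (S : Subgroup G)) (hne : K ≠ L) (hJ : J ∈ Om)
    (hJS : zz J ∈ (S : Subgroup G)) : zz J * zz K = zz K * zz J := by
  by_contra hnc
  obtain ⟨hxK, hxL⟩ : Cit.cj (zz J) K = L ∧ Cit.cj (zz J) L = K := by
    rcases h.cj_or S.isPGroup' hK hL' hne (le_normalizer hJS) with ⟨h1, -⟩ | h1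
    · exact absurd ((h.cj_eq_iff hK.1).1 h1) hnc
    · exact h1
  set x := zz J with hx
  have hx2 : x * x = 1 := h.hyp.zz_mul hJ
  have hxi : x⁻¹ = x := inv_of_sq hx2
  have f := fr_of_sylow h S hK hL' hne
  set T := (S : Subgroup G) ⊓ centralizer {zz K} with hT
  have hzL : zz L = x * zz K * x⁻¹ := by rw [← hxK, h.hyp.zz_cj hK.1]
  have hxT : Cit.cj x T = T := by
    have h1 : Cit.cj x T = (S : Subgroup G) ⊓ centralizer {zz L} := by
      rw [hT, cj_inf, mem_normalizer_iff_cj.1 (le_normalizer hJS), cj_centralizer, hzL]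
    rw [h1, hT, inf_centralizer_eq h S hK hL' hne]
  obtain ⟨p, hp, hpT, hp2, hp1, hpz⟩ := hL.exists_second h f.symm
  have hK2 := h.hyp.zz_mul hK.1
  have hKT : zz K ∈ T := (h.hyp.zz_mem_inf f.hT f.kT).2
  have hKLL : zz K ∈ LL L := hL.mem_of_pt h f.symm.pt
  have hpK : p * zz K = zz K * p := f.commK hpT
  -- `q * q^x ∈ ZZ` for the involutions `q ∈ LL L ⊓ T`
  have key : ∀ q ∈ LL L, q ∈ T → q * q = 1 → q ≠ 1 → q * (x * q * x⁻¹) ∈ ZZ Om ∧
      x * q * x⁻¹ ∈ LL K ∧ x * q * x⁻¹ ∈ T := by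
    intro q hq hqT hq2 hq1
    have e1 : x * q * x⁻¹ ∈ LL K := by
      rw [← hxL, hL.cj L hL'.1]
      exact conj_mem_cj hq
    have e2 : x * q * x⁻¹ ∈ T := by rw [← hxT]; exact conj_mem_cj hqT
    refine ⟨hL.mul_mem_ZZ_of_tv h f hq hqT hq2 hq1 e1 e2 ?_ ?_ (h0.tv K L f.pt q hq (f.commK hqT) hq2), e1, e2⟩
    · calc x * q * x⁻¹ * (x * q * x⁻¹) = x * (q * q) * x⁻¹ := by group
        _ = 1 := by rw [hq2]; group
    · intro h1
      apply hq1
      calc q = x⁻¹ * (x * q * x⁻¹) * x := by group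
        _ = 1 := by rw [h1]; group
  -- `q x q⁻¹ = w_q x`
  have key2 : ∀ q : G, q * q = 1 → q * x * q⁻¹ = q * (x * q * x⁻¹) * x := by
    intro q hq2
    rw [inv_of_sq hq2]; group
  have key3 : ∀ q ∈ LL L, q ∈ T → q * q = 1 → q ≠ 1 → x * (q * (x * q * x⁻¹)) = q * (x * q * x⁻¹) * x := by
    intro q hq hqT hq2 hq1
    obtain ⟨-, e1, e2⟩ := key q hq hqT hq2 hq1
    have e3 := hL.comm_inf h f hq hqT e1 e2
    calc x * (q * (x * q * x⁻¹)) = (x * q * x⁻¹) * (x * x) * q * x⁻¹ := by group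
      _ = (x * q * x⁻¹) * q * x⁻¹ := by rw [hx2, mul_one]
      _ = q * (x * q * x⁻¹) * x := by rw [← e3, hxi]
  set wp := p * (x * p * x⁻¹) with hwp
  set wz := zz K * (x * zz K * x⁻¹) with hwz
  have hwpZ : wp ∈ ZZ Om := (key p hp hpT hp2 hp1).1
  have hwzZ : wz ∈ ZZ Om := (key _ hKLL hKT hK2 (h.hyp.zz_ne hK.1)).1
  have hpz2 : p * zz K * (p * zz K) = 1 := by
    calc p * zz K * (p * zz K) = p * (zz K * p) * zz K := by group
      _ = (p * p) * (zz K * zz K) := by rw [← hpK]; group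
      _ = 1 := by rw [hp2, hK2, one_mul]
  have hpz1 : p * zz K ≠ 1 := by
    intro h1
    apply hpz
    rw [← h.hyp.zz_inv hK.1]
    exact eq_inv_of_mul_eq_one_left h1
  have hww : wp * wz ∈ ZZ Om := by
    have h1 := (key (p * zz K) ((LL L).mul_mem hp hKLL) (T.mul_mem hpT hKT) hpz2 hpz1).1
    obtain ⟨-, e1, e2⟩ := key p hp hpT hp2 hp1
    have e3 := hL.comm_inf h f hKLL hKT e1 e2
    have h2 : p * zz K * (x * (p * zz K) * x⁻¹) = wp * wz := by
      calc p * zz K * (x * (p * zz K) * x⁻¹) = p * (zz K * (x * p * x⁻¹)) * (x * zz K * x⁻¹) := by group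
        _ = p * ((x * p * x⁻¹) * zz K) * (x * zz K * x⁻¹) := by rw [e3]
        _ = wp * wz := by rw [hwp, hwz]; group
    rwa [h2] at h1
  have hxwp : x * wp = wp * x := key3 p hp hpT hp2 hp1
  have hxwz : x * wz = wz * x := key3 _ hKLL hKT hK2 (h.hyp.zz_ne hK.1)
  have hwpS : wp ∈ (S : Subgroup G) := by
    have := (key p hp hpT hp2 hp1).2.2
    exact Subgroup.mul_mem _ hpT.1 this.1
  have hwzS : wz ∈ (S : Subgroup G) := by
    have := (key _ hKLL hKT hK2 (h.hyp.zz_ne hK.1)).2.2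
    exact Subgroup.mul_mem _ hKT.1 this.1
  -- a frame for `J`
  obtain ⟨N, R, hR, fJ⟩ := exists_frame' h hJ (A := (S : Subgroup G) ⊓ centralizer {x})
    (S.isPGroup'.to_le inf_le_left) inf_le_right
  have hxR : x ∈ R := (h.hyp.zz_mem_inf fJ.hT fJ.kT).2
  have hxN : x ∈ LL N := hL.mem_of_pt h fJ.symm.pt
  -- `w x ∈ LL J`
  have key4 : ∀ q ∈ LL L, q ∈ T → q * q = 1 → q ≠ 1 → q * (x * q * x⁻¹) * x ∈ LL J := by
    intro q hq hqT hq2 hq1
    obtain ⟨e0, e1, e2⟩ := key q hq hqT hq2 hq1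
    have e3 := key3 q hq hqT hq2 hq1
    have e4 : q * (x * q * x⁻¹) ∈ R :=
      hR ⟨Subgroup.mul_mem _ hqT.1 e2.1, mem_centralizer_singleton_iff.2 e3.symm⟩
    set J' := Cit.cj q J with hJ'
    have hJ'm : J' ∈ Om := h.hyp.conj J hJ q
    have hJ'z : zz J' = q * (x * q * x⁻¹) * x := by rw [hJ', h.hyp.zz_cj hJ, ← hx, key2 q hq2]
    have e5 : zz J' ∈ R := by rw [hJ'z]; exact R.mul_mem e4 hxR
    rcases hL.mem_or h h0 fJ.pt hJ'm (fJ.commK e5) (fJ.commL e5) with h1 | h1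
    · rwa [hJ'z] at h1
    · exfalso
      have h2 : q * (x * q * x⁻¹) ∈ LL N := by
        have h3 := (LL N).mul_mem h1 hxN
        rw [hJ'z] at h3
        have h4 : q * (x * q * x⁻¹) * x * x = q * (x * q * x⁻¹) := by rw [mul_assoc, hx2, mul_one]
        rwa [h4] at h3
      exact hL.not_mem_ZZ h fJ.lT.1 h2 (h.ZZ_mul_self e0) (h.ZZ_ne_one e0) e0
  have h1 := (LL J).mul_mem (key4 p hp hpT hp2 hp1) (key4 _ hKLL hKT hK2 (h.hyp.zz_ne hK.1))
  rw [← hwp, ← hwz] at h1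
  have h2 : wp * x * (wz * x) = wp * wz := by
    calc wp * x * (wz * x) = wp * (x * wz) * x := by group
      _ = wp * wz * (x * x) := by rw [hxwz]; group
      _ = wp * wz := by rw [hx2, mul_one]
  rw [h2] at h1
  exact hL.not_mem_ZZ h hJ h1 (h.ZZ_mul_self hww) (h.ZZ_ne_one hww) hww

/-- (G6) -/
theorem conj_eq_or (hL : LPiece Om LL) (h : Two Om) (h0 : Tw0 Om LL) (S : Sylow 2 G)
    (hK : K ∈ OmS Om (S : Subgroup G)) (hL' : L ∈ OmS Om (S : Subgroup G)) (hne : K ≠ L) {c : G}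
    (hc : c * (zz K * zz L) = zz K * zz L * c) (hcS : c * zz K * c⁻¹ ∈ (S : Subgroup G)) :
    c * zz K * c⁻¹ = zz K ∨ c * zz K * c⁻¹ = zz L := by
  have hP : Pt Om K L := ⟨hne, S, S.isPGroup', hK, hL'⟩
  have hJm := h.hyp.conj K hK.1 c
  have hz := h.hyp.zz_cj hK.1 c
  set J := Cit.cj c K with hJ
  rw [← hz] at hcS ⊢
  have hJK := hL.comm_of_mem h h0 S hK hL' hne hJm hcS
  have hJL := hL.comm_of_mem h h0 S hL' hK hne.symm hJm hcS
  have hKL := hP.comm h.hyp
  have h1 : zz K * zz L * zz J = zz (Cit.cj c L) := by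
    rw [h.hyp.zz_cj hL'.1, hz]
    calc zz K * zz L * (c * zz K * c⁻¹) = (zz K * zz L * c) * zz K * c⁻¹ := by group
      _ = c * (zz K * (zz L * zz K)) * c⁻¹ := by rw [← hc]; group
      _ = c * ((zz K * zz K) * zz L) * c⁻¹ := by rw [← hKL]; group
      _ = c * zz L * c⁻¹ := by rw [h.hyp.zz_mul hK.1, one_mul]
  have hd : zz K * zz L * zz J ∉ ZZ Om := by
    rw [h1]
    exact h.disj (h.hyp.conj L hL'.1 c)
  have key : ∀ K L : Subgroup G, Pt Om K L → zz J * zz K = zz K * zz J → zz J * zz L = zz L * zz J →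
      zz K * zz L * zz J ∉ ZZ Om → zz J ∈ LL K → zz J = zz L := by
    intro K L hP hJK hJL hd hm
    by_contra h2
    apply hd
    rw [mul_assoc]
    refine hL.mul_mem_ZZ h hP.left ((LL K).mul_mem (hL.mem_of_pt h hP) hm) ?_ ?_
    · calc zz L * zz J * (zz L * zz J) = zz L * (zz J * zz L) * zz J := by group
        _ = (zz L * zz L) * (zz J * zz J) := by rw [hJL]; group
        _ = 1 := by rw [h.hyp.zz_mul hP.right, h.hyp.zz_mul hJm, one_mul]
    · intro h3
      apply h2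
      rw [← h.hyp.zz_inv hP.right]
      exact eq_inv_of_mul_eq_one_right h3
  rcases hL.mem_or h h0 hP hJm hJK hJL with h2 | h2
  · exact Or.inr (key K L hP hJK hJL hd h2)
  · exact Or.inl (key L K hP.symm hJL hJK (by rw [← hKL]; exact hd) h2)

end LPiece

end Cfsg.Agent.Cit.TwoB
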